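import Mathlib
import Cfsg.Agent.Helper9.Goldschmidt
import Cfsg.Agent.Helper9.CentricRad
import Cfsg.Prelude.Def_SylowChains
import Cfsg.Prelude.Def_Local
import Cfsg.Prelude.Def_Transfer

set_option autoImplicit false

namespace Cfsg.Agent.Helper25.AG

open Cfsg.Agent.Helper10 Cfsg.Agent.Helper9.Gold

variable {G : Type*} [Group G]

/-- One step of the refined Alperin--Goldschmidt decomposition. -/
def StepS {p : ℕ} (P : Sylow p G) (H : Subgroup G) (x : G) : Prop :=
  ∃ X : Subgroup G,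
    H ≤ (P : Subgroup G) ∧
    ¬ p ∣ ((P : Subgroup G) ⊓ Subgroup.normalizer (H : Set G)).relIndex
      (Subgroup.normalizer (H : Set G)) ∧
    (P : Subgroup G) ⊓ Subgroup.centralizer (H : Set G) ≤ H ∧
    (Cfsg.pPrimePCore p ↥(Subgroup.normalizer (H : Set G))).map
        (Subgroup.normalizer (H : Set G)).subtype =
      H ⊔ Subgroup.centralizer (H : Set G) ∧
    ¬ Cfsg.IsSylowChainConnected p
        (↥(Subgroup.normalizer (H : Set G)) ⧸ H.subgroupOf (Subgroup.normalizer (H : Set G))) ∧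
    (H ≤ X ∧ X ≤ Subgroup.normalizer (H : Set G) ∧
      (X.subgroupOf (Subgroup.normalizer (H : Set G))).Normal ∧ p ∣ H.relIndex X ∧
      ∀ Y : Subgroup G, H ≤ Y → Y ≤ Subgroup.normalizer (H : Set G) →
        (Y.subgroupOf (Subgroup.normalizer (H : Set G))).Normal → p ∣ H.relIndex Y → X ≤ Y) ∧
    x ∈ (Cfsg.pResidual p ↥X).map X.subtype

/-- Decomposition `g = c * u * y` with `c` centralizing, `y` normalizing the Sylow subgroup and `u`
a chain of refined steps. -/
def Good {p : ℕ} (P : Sylow p G) (A : Set G) (g : G) : Prop :=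
  ∃ c u y : G, c ∈ Subgroup.centralizer A ∧
    y ∈ Subgroup.normalizer ((P : Subgroup G) : Set G) ∧
    g = c * u * y ∧ DecR (StepS P) A u

theorem Good.mono {p : ℕ} {P : Sylow p G} {A B : Set G} {g : G} (h : Good P A g)
    (hBA : B ⊆ A) : Good P B g := by
  obtain ⟨c, u, y, hc, hy, hg, hd⟩ := h
  exact ⟨c, u, y, Subgroup.centralizer_le hBA hc, hy, hg, hd.mono hBA⟩

theorem conj_mem_centralizer_cj (A : Set G) (u c : G)
    (hc : c ∈ Subgroup.centralizer (cj u A)) : u * c * u⁻¹ ∈ Subgroup.centralizer A := by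
  rw [Subgroup.mem_centralizer_iff]
  intro a ha
  have h1 : u⁻¹ * a * u ∈ cj u A := ⟨a, ha, rfl⟩
  have h2 := Subgroup.mem_centralizer_iff.mp hc _ h1
  calc a * (u * c * u⁻¹) = u * ((u⁻¹ * a * u) * c) * u⁻¹ := by group
    _ = u * (c * (u⁻¹ * a * u)) * u⁻¹ := by rw [h2]
    _ = u * c * u⁻¹ * a := by group

theorem good_of_dec {p : ℕ} (P : Sylow p G) (𝓕 : Set (Subgroup G))
    (hinv : ∀ U ∈ 𝓕, ∀ y ∈ Subgroup.normalizer ((P : Subgroup G) : Set G),
      U.map (MulAut.conj y).toMonoidHom ∈ 𝓕)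
    (hstep : ∀ U ∈ 𝓕, ∀ x ∈ Subgroup.normalizer (U : Set G), Good P (U : Set G) x) :
    ∀ (A : Set G) (g : G), Dec 𝓕 A g →
      ∀ y ∈ Subgroup.normalizer ((P : Subgroup G) : Set G), Good P (cj y⁻¹ A) (y * g) := by
  intro A g hdec
  induction hdec with
  | nil A =>
    intro y hy
    exact ⟨1, 1, y, Subgroup.one_mem _, hy, by group, DecR.nil _⟩
  | cons A U x g hU hx hA hdec ih =>
    intro y hy
    have hU' := hinv U hU y hy
    have e0 : Subgroup.normalizer ((U.map (MulAut.conj y).toMonoidHom : Subgroup G) : Set G) =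
        (Subgroup.normalizer (U : Set G)).map (MulAut.conj y).toMonoidHom :=
      (Subgroup.map_equiv_normalizer_eq U (MulAut.conj y)).symm
    have hx' : y * x * y⁻¹ ∈
        Subgroup.normalizer ((U.map (MulAut.conj y).toMonoidHom : Subgroup G) : Set G) := by
      rw [e0]; exact ⟨x, hx, by simp [MulAut.conj_apply]⟩
    have hA' : cj y⁻¹ A ⊆ ((U.map (MulAut.conj y).toMonoidHom : Subgroup G) : Set G) := by
      rw [coe_map_conj]; exact cj_mono _ hA
    obtain ⟨c₁, u₁, y₁, hc₁, hy₁, hx1, hd₁⟩ := (hstep _ hU' _ hx').mono hA'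
    obtain ⟨c₂, u₂, y₂, hc₂, hy₂, hg2, hd₂⟩ := ih (y₁ * y) (Subgroup.mul_mem _ hy₁ hy)
    have e : cj (y₁ * y)⁻¹ (cj x A) = cj u₁ (cj y⁻¹ A) := by
      have hx2 : x = y⁻¹ * (c₁ * u₁ * y₁) * y := by rw [← hx1]; group
      have e1 : x * (y₁ * y)⁻¹ = y⁻¹ * c₁ * u₁ := by rw [hx2]; group
      calc cj (y₁ * y)⁻¹ (cj x A) = cj (x * (y₁ * y)⁻¹) A := cj_cj _ _ _
        _ = cj (y⁻¹ * c₁ * u₁) A := by rw [e1]
        _ = cj u₁ (cj c₁ (cj y⁻¹ A)) := by rw [cj_cj, cj_cj, mul_assoc]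
        _ = cj u₁ (cj y⁻¹ A) := by rw [cj_of_mem_centralizer _ c₁ hc₁]
    rw [e] at hc₂ hd₂
    refine ⟨c₁ * (u₁ * c₂ * u₁⁻¹), u₁ * u₂, y₂,
      Subgroup.mul_mem _ hc₁ (conj_mem_centralizer_cj _ _ _ hc₂), hy₂, ?_, hd₁.comp hd₂⟩
    calc y * (x * g) = (y * x * y⁻¹) * (y * g) := by group
      _ = c₁ * u₁ * y₁ * (y * g) := by rw [hx1]
      _ = c₁ * u₁ * (y₁ * y * g) := by group
      _ = c₁ * u₁ * (c₂ * u₂ * y₂) := by rw [hg2]
      _ = c₁ * (u₁ * c₂ * u₁⁻¹) * (u₁ * u₂) * y₂ := by group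

theorem sylFam_conj [Finite G] {p : ℕ} [Fact p.Prime] (P : Sylow p G) (m : ℕ) (U : Subgroup G)
    (hU : U ∈ sylFam P m) (y : G) (hy : y ∈ Subgroup.normalizer ((P : Subgroup G) : Set G)) :
    U.map (MulAut.conj y).toMonoidHom ∈ sylFam P m := by
  obtain ⟨hUP, hidx, hm⟩ := hU
  have hPy := Cfsg.Agent.Helper16.map_conj_eq_of_mem_normalizer hy
  refine ⟨?_, ?_, ?_⟩
  · calc U.map (MulAut.conj y).toMonoidHom ≤ (P : Subgroup G).map (MulAut.conj y).toMonoidHom :=
        Subgroup.map_mono hUP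
      _ = P := hPy
  · exact (inf_normalizer_map_conj P U y hidx (by
      calc ((P : Subgroup G) ⊓ Subgroup.normalizer (U : Set G)).map (MulAut.conj y).toMonoidHom
          ≤ (P : Subgroup G).map (MulAut.conj y).toMonoidHom := Subgroup.map_mono inf_le_left
        _ = P := hPy)).2
  · rw [Subgroup.card_map_of_injective (MulAut.conj y).injective]; exact hm

theorem gold_conds [Finite G] {p : ℕ} [Fact p.Prime] (P : Sylow p G) (T : Subgroup G)
    (h : IsGold P T) :
    (P : Subgroup G) ⊓ Subgroup.centralizer (T : Set G) ≤ T ∧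
    (Cfsg.pPrimePCore p ↥(Subgroup.normalizer (T : Set G))).map
        (Subgroup.normalizer (T : Set G)).subtype =
      T ⊔ Subgroup.centralizer (T : Set G) := by
  obtain ⟨hTP, hCK, ⟨hRK, hTK, hcomm, hinf, hsup⟩, hidx⟩ := h
  have hTR : T ≤ Subgroup.centralizer
      (((Cfsg.pPrimeCore p ↥(Subgroup.normalizer (T : Set G))).map
        (Subgroup.normalizer (T : Set G)).subtype : Subgroup G) : Set G) := by
    intro t ht
    rw [Subgroup.mem_centralizer_iff]
    intro r hr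
    exact hcomm r hr t ht
  constructor
  · intro x hx
    have hxK := hCK hx.2
    rw [← hsup] at hxK
    obtain ⟨r, hr, t, ht, hxe⟩ := Cfsg.Agent.Helper9.CRad.exists_mul_of_mem_sup _ _
      (hTR.trans (Subgroup.centralizer_le_normalizer _)) hxK
    have hrP : r ∈ (P : Subgroup G) := by
      have h1 := Subgroup.mul_mem _ hx.1 (Subgroup.inv_mem _ (hTP ht))
      rw [hxe] at h1
      simpa using h1
    have hr1 : r = 1 := coprime_inter _ _ (Rc_coprime p _) P.isPGroup' r hr hrP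
    rw [hxe, hr1, one_mul]; exact ht
  · apply le_antisymm
    · rw [← hsup]
      apply sup_le
      · intro r hr
        apply Subgroup.mem_sup_right
        rw [Subgroup.mem_centralizer_iff]
        intro t ht
        exact (hcomm r hr t ht).symm
      · exact le_sup_left
    · exact sup_le hTK hCK

end Cfsg.Agent.Helper25.AG
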