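import Mathlib
import Cfsg.Agent.Helper25.AG1
import Cfsg.Agent.S3056

set_option autoImplicit false

namespace Cfsg.Agent.Helper25.AG

open Cfsg.Agent.Helper10 Cfsg.Agent.Helper9.Gold

/-- If `N / T` is chain-connected, `N` is generated by normalizers of subgroups of the Sylow
subgroup properly containing `T`. -/
theorem gen_of_chainConnected {N : Type*} [Group N] [Finite N] {p : ℕ} [Fact p.Prime]
    (Q : Sylow p N) (T : Subgroup N) [hTn : T.Normal] (hTQ : T ≤ (Q : Subgroup N))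
    (hne : ∃ q ∈ (Q : Subgroup N), q ∉ T)
    (hcc : Cfsg.IsSylowChainConnected p (N ⧸ T)) :
    Subgroup.closure {n : N | ∃ U : Subgroup N, T ≤ U ∧ U ≤ (Q : Subgroup N) ∧
      (∃ u ∈ U, u ∉ T) ∧ n ∈ Subgroup.normalizer (U : Set N)} = ⊤ := by
  classical
  obtain ⟨M, hM⟩ : ∃ M : Subgroup N, M = Subgroup.closure {n : N | ∃ U : Subgroup N, T ≤ U ∧
      U ≤ (Q : Subgroup N) ∧ (∃ u ∈ U, u ∉ T) ∧ n ∈ Subgroup.normalizer (U : Set N)} := ⟨_, rfl⟩
  rw [← hM]
  by_contra hMtop
  have hTnorm : ∀ x : N, x ∈ Subgroup.normalizer (T : Set N) := by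
    intro x
    rw [Subgroup.mem_normalizer_iff]
    intro t
    constructor
    · intro ht; exact hTn.conj_mem t ht x
    · intro ht
      have := hTn.conj_mem _ ht x⁻¹
      simpa [mul_assoc] using this
  have hQM : (Q : Subgroup N) ≤ M := by
    intro q hq
    rw [hM]
    exact Subgroup.subset_closure ⟨Q, hTQ, le_rfl, hne, Subgroup.le_normalizer hq⟩
  have hTM : T ≤ M := hTQ.trans hQM
  have hTp : IsPGroup p T := Q.isPGroup'.to_le hTQ
  have key : ∀ (A : Set N) (g : N), Dec (sylFam Q 0) A g → (∃ a ∈ A, a ∉ T) → g ∈ M := by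
    intro A g hdec
    induction hdec with
    | nil A => intro _; exact Subgroup.one_mem _
    | cons A U x g hU hx hA hdec ih =>
      rintro ⟨a, haA, haT⟩
      have hxM : x ∈ M := by
        rw [hM]
        apply Subgroup.subset_closure
        refine ⟨U ⊔ T, le_sup_right, sup_le hU.1 hTQ,
          ⟨a, Subgroup.mem_sup_left (hA haA), haT⟩, ?_⟩
        apply Cfsg.Agent.Helper16.mem_normalizer_of_map_conj_eq
        rw [Subgroup.map_sup, Cfsg.Agent.Helper16.map_conj_eq_of_mem_normalizer hx,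
          Cfsg.Agent.Helper16.map_conj_eq_of_mem_normalizer (hTnorm x)]
      refine Subgroup.mul_mem _ hxM (ih ⟨x⁻¹ * a * x, ⟨a, haA, rfl⟩, ?_⟩)
      intro h
      apply haT
      have := hTn.conj_mem _ h x
      simpa [mul_assoc] using this
  have hM1 : M.map (QuotientGroup.mk' T) ≠ ⊤ := by
    intro h
    apply hMtop
    rw [eq_top_iff]
    intro n _
    have h1 : QuotientGroup.mk' T n ∈ M.map (QuotientGroup.mk' T) := by rw [h]; trivial
    obtain ⟨m, hm, hmn⟩ := h1
    have h2 : m⁻¹ * n ∈ T := QuotientGroup.eq.mp hmn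
    have := Subgroup.mul_mem _ hm (hTM h2)
    simpa using this
  have hM2 : p ∣ Nat.card (M.map (QuotientGroup.mk' T)) := by
    obtain ⟨q, hqQ, hqT⟩ := hne
    have hq1 : (QuotientGroup.mk' T q) ≠ 1 := by
      intro h; apply hqT; exact (QuotientGroup.eq_one_iff q).mp h
    have hqM : QuotientGroup.mk' T q ∈ M.map (QuotientGroup.mk' T) :=
      Subgroup.mem_map_of_mem _ (hQM hqQ)
    obtain ⟨k, hk⟩ := (Q.isPGroup') ⟨q, hqQ⟩
    have hk' : q ^ p ^ k = 1 := congrArg Subtype.val hk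
    have hord : orderOf (QuotientGroup.mk' T q) ∣ p ^ k :=
      orderOf_dvd_of_pow_eq_one (by rw [← map_pow, hk', map_one])
    have hpd : p ∣ orderOf (QuotientGroup.mk' T q) := by
      obtain ⟨j, hj, hje⟩ := (Nat.dvd_prime_pow Fact.out).1 hord
      cases j with
      | zero => exfalso; apply hq1; rw [pow_zero] at hje; exact orderOf_eq_one_iff.mp hje
      | succ j => rw [hje, pow_succ]; exact dvd_mul_left _ _
    exact hpd.trans (Subgroup.orderOf_dvd_natCard _ hqM)
  have hM3 : ∀ gb : N ⧸ T, gb ∉ M.map (QuotientGroup.mk' T) →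
      ¬ p ∣ Nat.card ↥(M.map (QuotientGroup.mk' T) ⊓
        (M.map (QuotientGroup.mk' T)).map (MulAut.conj gb).toMonoidHom) := by
    intro gb hgb hdvd
    obtain ⟨g, rfl⟩ := QuotientGroup.mk'_surjective T gb
    have hgM : g ∉ M := fun h => hgb (Subgroup.mem_map_of_mem _ h)
    obtain ⟨xb, hxb⟩ := exists_prime_orderOf_dvd_card' p hdvd
    have hxo : orderOf (xb : N ⧸ T) = p := by rw [Subgroup.orderOf_coe]; exact hxb
    obtain ⟨hx1, hx2⟩ := Subgroup.mem_inf.1 xb.2
    obtain ⟨d, hdM, hdx⟩ := hx1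
    rw [Cfsg.Agent.Helper16.mem_map_conj_iff] at hx2
    obtain ⟨e, heM, hex⟩ := hx2
    have hd'M : g⁻¹ * d * g ∈ M := by
      have h1 : QuotientGroup.mk' T e = QuotientGroup.mk' T (g⁻¹ * d * g) := by
        rw [hex, ← hdx]; simp
      have h2 : e⁻¹ * (g⁻¹ * d * g) ∈ T := QuotientGroup.eq.mp h1
      have := Subgroup.mul_mem _ heM (hTM h2)
      simpa using this
    have hdT : d ∉ T := by
      intro h
      have h1 : (xb : N ⧸ T) = 1 := by rw [← hdx]; exact (QuotientGroup.eq_one_iff d).mpr h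
      rw [h1, orderOf_one] at hxo
      exact (Fact.out : p.Prime).one_lt.ne hxo
    have hdp : d ^ p ∈ T := by
      apply (QuotientGroup.eq_one_iff _).mp
      have h1 : QuotientGroup.mk' T (d ^ p) = 1 := by
        rw [map_pow, hdx, ← hxo, pow_orderOf_eq_one]
      exact h1
    obtain ⟨j, hj⟩ : ∃ j, orderOf d = p ^ j := by
      obtain ⟨k, hk⟩ := hTp ⟨d ^ p, hdp⟩
      have hk' : (d ^ p) ^ p ^ k = 1 := congrArg Subtype.val hk
      have h1 : orderOf d ∣ p ^ (k + 1) :=
        orderOf_dvd_of_pow_eq_one (by rw [pow_succ', pow_mul]; exact hk')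
      obtain ⟨j, -, hj⟩ := (Nat.dvd_prime_pow Fact.out).1 h1
      exact ⟨j, hj⟩
    have hZp : IsPGroup p (Subgroup.zpowers d) :=
      IsPGroup.of_card (n := j) (by rw [Nat.card_zpowers, hj])
    have hZp' : IsPGroup p (Subgroup.zpowers (g⁻¹ * d * g)) := by
      have e1 : g⁻¹ * d * g = (MulAut.conj g⁻¹) d := by simp [MulAut.conj_apply]
      exact IsPGroup.of_card (n := j) (by
        rw [Nat.card_zpowers, e1, (MulAut.conj g⁻¹).orderOf_eq d, hj])
    have hidx : ¬ p ∣ (Q : Subgroup N).relIndex M :=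
      fun h => Q.not_dvd_index (h.trans (Subgroup.relIndex_dvd_index_of_le hQM))
    obtain ⟨m, hm, hmd⟩ := exists_conj_into_of_relIndex M Q Q.isPGroup' hidx _ hZp
      ((Subgroup.zpowers_le).2 hdM)
    obtain ⟨m', hm', hmd'⟩ := exists_conj_into_of_relIndex M Q Q.isPGroup' hidx _ hZp'
      ((Subgroup.zpowers_le).2 hd'M)
    have h1 : m * d * m⁻¹ ∈ (Q : Subgroup N) := hmd d (Subgroup.mem_zpowers d)
    have h2 : m' * (g⁻¹ * d * g) * m'⁻¹ ∈ (Q : Subgroup N) := hmd' _ (Subgroup.mem_zpowers _)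
    have hdec := dec_sylFam_set Q {m * d * m⁻¹} (m' * g⁻¹ * m⁻¹)⁻¹
      (Set.singleton_subset_iff.2 h1) (by
        rw [cj_subset_iff]
        intro a ha
        rw [Set.mem_singleton_iff] at ha
        subst ha
        have e1 : (m' * g⁻¹ * m⁻¹)⁻¹⁻¹ * (m * d * m⁻¹) * (m' * g⁻¹ * m⁻¹)⁻¹ =
            m' * (g⁻¹ * d * g) * m'⁻¹ := by group
        rw [e1]; exact h2)
    have hh := key _ _ hdec ⟨_, Set.mem_singleton _, fun h => hdT (by
      have := hTn.conj_mem _ h m⁻¹
      simpa [mul_assoc] using this)⟩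
    apply hgM
    have h3 : m' * g⁻¹ * m⁻¹ ∈ M := by simpa using Subgroup.inv_mem _ hh
    have h4 : g⁻¹ ∈ M := by
      have := Subgroup.mul_mem _ (Subgroup.mul_mem _ (Subgroup.inv_mem _ hm') h3) hm
      simpa [mul_assoc] using this
    simpa using Subgroup.inv_mem _ h4
  exact ((Cfsg.Agent.S3056.result p).mpr ⟨_, hM1, hM2, hM3⟩) hcc

variable {G : Type*} [Group G]

theorem dec_of_chainConnected [Finite G] {p : ℕ} [Fact p.Prime] (P : Sylow p G) (T : Subgroup G)
    (hTP : T ≤ (P : Subgroup G))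
    (hidx : ¬ p ∣ ((P : Subgroup G) ⊓ Subgroup.normalizer (T : Set G)).relIndex
      (Subgroup.normalizer (T : Set G)))
    (hTne : ¬ (P : Subgroup G) ≤ T)
    (hcc : Cfsg.IsSylowChainConnected p
      (↥(Subgroup.normalizer (T : Set G)) ⧸ T.subgroupOf (Subgroup.normalizer (T : Set G)))) :
    ∀ z ∈ Subgroup.normalizer (T : Set G),
      Dec {U : Subgroup G | U ≤ (P : Subgroup G) ∧ Nat.card T < Nat.card U} (T : Set G) z := by
  obtain ⟨PN, hPN⟩ := exists_sylow (Subgroup.normalizer (T : Set G))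
    ((P : Subgroup G) ⊓ Subgroup.normalizer (T : Set G)) (P.isPGroup'.to_le inf_le_left) hidx
  have hTQ : T.subgroupOf (Subgroup.normalizer (T : Set G)) ≤ (PN : Subgroup _) := by
    rw [hPN]
    intro x hx
    exact ⟨hTP hx, x.2⟩
  have hne : ∃ q ∈ (PN : Subgroup ↥(Subgroup.normalizer (T : Set G))),
      q ∉ T.subgroupOf (Subgroup.normalizer (T : Set G)) := by
    obtain ⟨n, hnP, hnT, hnN⟩ :=
      Cfsg.Agent.Helper16.exists_mem_normalizer_not_mem P.isPGroup' hTP hTne
    refine ⟨⟨n, hnN⟩, ?_, hnT⟩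
    rw [hPN]
    exact ⟨hnP, hnN⟩
  have gen := gen_of_chainConnected PN (T.subgroupOf (Subgroup.normalizer (T : Set G))) hTQ hne hcc
  have hall : ∀ n : ↥(Subgroup.normalizer (T : Set G)),
      n ∈ Subgroup.closure {n : ↥(Subgroup.normalizer (T : Set G)) |
        ∃ U : Subgroup ↥(Subgroup.normalizer (T : Set G)),
        T.subgroupOf (Subgroup.normalizer (T : Set G)) ≤ U ∧ U ≤ (PN : Subgroup _) ∧
        (∃ u ∈ U, u ∉ T.subgroupOf (Subgroup.normalizer (T : Set G))) ∧
        n ∈ Subgroup.normalizer (U : Set ↥(Subgroup.normalizer (T : Set G)))} →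
      Dec {U : Subgroup G | U ≤ (P : Subgroup G) ∧ Nat.card T < Nat.card U} (T : Set G)
        (n : G) := by
    intro n hn
    induction hn using Subgroup.closure_induction with
    | mem n hn =>
      obtain ⟨U, hTU, hUQ, ⟨u, huU, huT⟩, hnU⟩ := hn
      have hTU' : T ≤ U.map (Subgroup.normalizer (T : Set G)).subtype := by
        intro t ht
        exact ⟨⟨t, Subgroup.le_normalizer ht⟩, hTU ht, rfl⟩
      refine Dec.single (T := U.map (Subgroup.normalizer (T : Set G)).subtype) ⟨?_, ?_⟩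
        (map_subtype_normalizer _ U n hnU) (SetLike.coe_subset_coe.2 hTU')
      · rintro _ ⟨u', hu', rfl⟩
        have h1 := hUQ hu'
        rw [hPN] at h1
        exact h1.1
      · refine lt_of_le_of_ne (Subgroup.card_le_of_le hTU') (fun h => huT ?_)
        have h2 := Subgroup.eq_of_le_of_card_ge hTU' h.ge
        have h3 : (u : G) ∈ U.map (Subgroup.normalizer (T : Set G)).subtype := ⟨u, huU, rfl⟩
        rw [← h2] at h3
        exact h3
    | one => exact Dec.nil _
    | mul a b _ _ ha hb =>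
      exact Dec.comp ha (by rw [cj_normalizer a.2]; exact hb)
    | inv a _ ha =>
      have h1 := ha.inv
      rwa [cj_normalizer a.2] at h1
  intro z hz
  exact hall ⟨z, hz⟩ (by rw [gen]; trivial)

end Cfsg.Agent.Helper25.AG
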