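import Mathlib
import Cfsg.Agent.Helper25.AG1
import Cfsg.Agent.S3058
import Cfsg.Agent.Helper26.FusNormal3

set_option autoImplicit false

namespace Cfsg.Agent.Helper25.AG

open Cfsg.Agent.Helper10 Cfsg.Agent.Helper9.Gold

variable {G : Type*} [Group G]

theorem dvd_relIndex_of_pgroup [Finite G] {p : ℕ} [Fact p.Prime] {T R K : Subgroup G}
    (hR : IsPGroup p R) (hTR : T ≤ R) (hRK : R ≤ K) (hne : ∃ r ∈ R, r ∉ T) :
    p ∣ T.relIndex K := by
  obtain ⟨n, hn⟩ := hR.index (T.subgroupOf R)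
  have hrel : T.relIndex R = p ^ n := hn
  have h1 : T.relIndex R ∣ T.relIndex K := by
    rw [← Subgroup.relIndex_mul_relIndex T R K hTR hRK]; exact dvd_mul_right _ _
  cases n with
  | zero =>
    exfalso
    rw [pow_zero] at hrel
    obtain ⟨r, hr, hrT⟩ := hne
    exact hrT (Subgroup.relIndex_eq_one.1 hrel hr)
  | succ n =>
    rw [hrel] at h1
    exact (dvd_pow_self p (Nat.succ_ne_zero n)).trans h1

theorem card_map_mk (T Y : Subgroup G) (hYN : Y ≤ Subgroup.normalizer (T : Set G)) :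
    Nat.card ((Y.subgroupOf (Subgroup.normalizer (T : Set G))).map
      (QuotientGroup.mk' (T.subgroupOf (Subgroup.normalizer (T : Set G))))) = T.relIndex Y := by
  rw [← Subgroup.relIndex_bot_left, ← Subgroup.relIndex_comap, MonoidHom.comap_bot,
    QuotientGroup.ker_mk', Subgroup.relIndex_subgroupOf hYN]

theorem exists_minimal_X [Finite G] {p : ℕ} [Fact p.Prime] (P : Sylow p G) (T : Subgroup G)
    (hTP : T ≤ (P : Subgroup G)) (hTne : ¬ (P : Subgroup G) ≤ T)
    (hncc : ¬ Cfsg.IsSylowChainConnected p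
      (↥(Subgroup.normalizer (T : Set G)) ⧸ T.subgroupOf (Subgroup.normalizer (T : Set G)))) :
    ∃ X : Subgroup G, T ≤ X ∧ X ≤ Subgroup.normalizer (T : Set G) ∧
      Subgroup.normalizer (T : Set G) ≤ Subgroup.normalizer (X : Set G) ∧ p ∣ T.relIndex X ∧
      ∀ Y : Subgroup G, T ≤ Y → Y ≤ Subgroup.normalizer (T : Set G) →
        Subgroup.normalizer (T : Set G) ≤ Subgroup.normalizer (Y : Set G) →
        p ∣ T.relIndex Y → X ≤ Y := by
  classical
  have hN𝒴 : Subgroup.normalizer (T : Set G) ∈ {Y : Subgroup G | T ≤ Y ∧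
      Y ≤ Subgroup.normalizer (T : Set G) ∧
      Subgroup.normalizer (T : Set G) ≤ Subgroup.normalizer (Y : Set G) ∧ p ∣ T.relIndex Y} := by
    refine ⟨Subgroup.le_normalizer, le_rfl, Subgroup.le_normalizer, ?_⟩
    obtain ⟨n, hnP, hnT, hnN⟩ :=
      Cfsg.Agent.Helper16.exists_mem_normalizer_not_mem P.isPGroup' hTP hTne
    exact dvd_relIndex_of_pgroup (R := (P : Subgroup G) ⊓ Subgroup.normalizer (T : Set G))
      (P.isPGroup'.to_le inf_le_left) (le_inf hTP Subgroup.le_normalizer) inf_le_right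
      ⟨n, ⟨hnP, hnN⟩, hnT⟩
  obtain ⟨X, hX, hmin⟩ := Set.exists_min_image _ (fun Y : Subgroup G => Nat.card Y)
    (Set.toFinite _) ⟨_, hN𝒴⟩
  obtain ⟨hTX, hXN, hNX, hpX⟩ := hX
  refine ⟨X, hTX, hXN, hNX, hpX, ?_⟩
  intro Y hTY hYN hNY hpY
  have hXY : X ⊓ Y ∈ {Y : Subgroup G | T ≤ Y ∧
      Y ≤ Subgroup.normalizer (T : Set G) ∧
      Subgroup.normalizer (T : Set G) ≤ Subgroup.normalizer (Y : Set G) ∧ p ∣ T.relIndex Y} := by
    refine ⟨le_inf hTX hTY, inf_le_left.trans hXN, ?_, ?_⟩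
    · intro n hn
      apply Cfsg.Agent.Helper16.mem_normalizer_of_map_conj_eq
      rw [Subgroup.map_inf _ _ _ (MulAut.conj n).injective,
        Cfsg.Agent.Helper16.map_conj_eq_of_mem_normalizer (hNX hn),
        Cfsg.Agent.Helper16.map_conj_eq_of_mem_normalizer (hNY hn)]
    · haveI hXn : (X.subgroupOf (Subgroup.normalizer (T : Set G))).Normal :=
        (Subgroup.normal_subgroupOf_iff_le_normalizer hXN).mpr hNX
      have hYn : (Y.subgroupOf (Subgroup.normalizer (T : Set G))).Normal :=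
        (Subgroup.normal_subgroupOf_iff_le_normalizer hYN).mpr hNY
      have h1 : ((X.subgroupOf (Subgroup.normalizer (T : Set G))).map
          (QuotientGroup.mk' (T.subgroupOf (Subgroup.normalizer (T : Set G))))).Normal :=
        hXn.map _ (QuotientGroup.mk'_surjective _)
      have h2' : ((Y.subgroupOf (Subgroup.normalizer (T : Set G))).map
          (QuotientGroup.mk' (T.subgroupOf (Subgroup.normalizer (T : Set G))))).Normal :=
        hYn.map _ (QuotientGroup.mk'_surjective _)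
      have h := Cfsg.Agent.S3058.result p hncc
        ((X.subgroupOf (Subgroup.normalizer (T : Set G))).map
          (QuotientGroup.mk' (T.subgroupOf (Subgroup.normalizer (T : Set G)))))
        ((Y.subgroupOf (Subgroup.normalizer (T : Set G))).map
          (QuotientGroup.mk' (T.subgroupOf (Subgroup.normalizer (T : Set G)))))
        (by rw [card_map_mk T X hXN]; exact hpX) (by rw [card_map_mk T Y hYN]; exact hpY)
      have hle : (X.subgroupOf (Subgroup.normalizer (T : Set G))).map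
          (QuotientGroup.mk' (T.subgroupOf (Subgroup.normalizer (T : Set G)))) ⊓
          (Y.subgroupOf (Subgroup.normalizer (T : Set G))).map
          (QuotientGroup.mk' (T.subgroupOf (Subgroup.normalizer (T : Set G)))) ≤
          ((X ⊓ Y).subgroupOf (Subgroup.normalizer (T : Set G))).map
          (QuotientGroup.mk' (T.subgroupOf (Subgroup.normalizer (T : Set G)))) := by
        rintro xb ⟨⟨a, ha, rfl⟩, ⟨b, hb, hab⟩⟩
        have h2 : b⁻¹ * a ∈ T.subgroupOf (Subgroup.normalizer (T : Set G)) :=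
          QuotientGroup.eq.mp hab
        have h3 : b⁻¹ * a ∈ Y.subgroupOf (Subgroup.normalizer (T : Set G)) := hTY h2
        have haY : a ∈ Y.subgroupOf (Subgroup.normalizer (T : Set G)) := by
          have := Subgroup.mul_mem _ hb h3
          simpa using this
        exact ⟨a, ⟨ha, haY⟩, rfl⟩
      rw [← card_map_mk T (X ⊓ Y) (inf_le_left.trans hXN)]
      exact h.trans (Subgroup.card_dvd_of_le hle)
  have h1 := hmin _ hXY
  have h2 : X ⊓ Y = X := Subgroup.eq_of_le_of_card_ge inf_le_left h1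
  exact inf_eq_left.1 h2

theorem frattini_decomp [Finite G] {p : ℕ} [Fact p.Prime] (P : Sylow p G) (N X : Subgroup G)
    (hidx : ¬ p ∣ ((P : Subgroup G) ⊓ N).relIndex N) (hXN : X ≤ N)
    (hNX : N ≤ Subgroup.normalizer (X : Set G)) (z : G) (hz : z ∈ N) :
    ∃ x₀ ∈ (Cfsg.pResidual p ↥X).map X.subtype, ∃ n ∈ N,
      n ∈ Subgroup.normalizer (((P : Subgroup G) ⊓ X : Subgroup G) : Set G) ∧ z = x₀ * n := by
  have hidxX : ¬ p ∣ ((P : Subgroup G) ⊓ X).relIndex X := idx_of_normal (p := p) (P : Subgroup G) N X hXN hNX hidx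
  have hPXp : IsPGroup p ((P : Subgroup G) ⊓ X : Subgroup G) := P.isPGroup'.to_le inf_le_left
  have hRX : ((P : Subgroup G) ⊓ X).map (MulAut.conj z).toMonoidHom ≤ X := by
    calc ((P : Subgroup G) ⊓ X).map (MulAut.conj z).toMonoidHom
        ≤ X.map (MulAut.conj z).toMonoidHom := Subgroup.map_mono inf_le_right
      _ = X := Cfsg.Agent.Helper16.map_conj_eq_of_mem_normalizer (hNX hz)
  obtain ⟨k, hk, hkR⟩ := exists_conj_into_of_relIndex X ((P : Subgroup G) ⊓ X) hPXp hidxX _
    (hPXp.map _) hRX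
  have hkz : k * z ∈ Subgroup.normalizer (((P : Subgroup G) ⊓ X : Subgroup G) : Set G) := by
    apply Cfsg.Agent.Helper9.mem_normalizer_of_conj_le
    intro q hq
    have h1 := hkR _ ⟨q, hq, rfl⟩
    have e : k * z * q * (k * z)⁻¹ = k * ((MulAut.conj z).toMonoidHom q) * k⁻¹ := by
      simp [MulAut.conj_apply, mul_assoc]
    rw [e]; exact h1
  obtain ⟨PX, hPX⟩ := exists_sylow X ((P : Subgroup G) ⊓ X) hPXp hidxX
  obtain ⟨β, hβ, γ, hγ, hkβγ⟩ := Cfsg.Agent.Helper26.exists_mul_pResidual_sylow PX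
    (⟨k⁻¹, Subgroup.inv_mem _ hk⟩ : ↥X)
  have hγ' : (γ : G) ∈ (P : Subgroup G) ⊓ X := by
    have h1 : γ ∈ (PX : Subgroup ↥X) := hγ
    rw [hPX] at h1
    exact h1
  have hk' : k⁻¹ = (β : G) * (γ : G) := by
    have := congrArg Subtype.val hkβγ
    simpa using this
  refine ⟨(β : G), ⟨β, hβ, rfl⟩, (γ : G) * (k * z),
    Subgroup.mul_mem _ (hXN γ.2) (Subgroup.mul_mem _ (hXN hk) hz),
    Subgroup.mul_mem _ (Subgroup.le_normalizer hγ') hkz, ?_⟩
  calc z = k⁻¹ * (k * z) := by group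
    _ = (β : G) * (γ : G) * (k * z) := by rw [hk']
    _ = (β : G) * ((γ : G) * (k * z)) := by group

end Cfsg.Agent.Helper25.AG
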