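import Mathlib
import Cfsg.Agent.Helper25.AG1
import Cfsg.Agent.Helper25.AG2
import Cfsg.Agent.Helper25.AG3

set_option autoImplicit false

namespace Cfsg.Agent.Helper25.AG

open Cfsg.Agent.Helper10 Cfsg.Agent.Helper9.Gold

variable {G : Type*} [Group G]

theorem mainS [Finite G] {p : ℕ} [Fact p.Prime] (P : Sylow p G) :
    ∀ (d : ℕ) (T : Subgroup G), T ≤ (P : Subgroup G) →
      ¬ p ∣ ((P : Subgroup G) ⊓ Subgroup.normalizer (T : Set G)).relIndex
        (Subgroup.normalizer (T : Set G)) →
      Nat.card (P : Subgroup G) - Nat.card T = d →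
      ∀ z ∈ Subgroup.normalizer (T : Set G), Good P (T : Set G) z := by
  intro d
  induction d using Nat.strong_induction_on with
  | _ d ih =>
    intro T hTP hidx hd z hz
    have hcT : Nat.card T ≤ Nat.card (P : Subgroup G) := Subgroup.card_le_of_le hTP
    have star : ∀ U : Subgroup G, U ≤ (P : Subgroup G) → Nat.card T < Nat.card U →
        ∀ g : G, cj g (U : Set G) ⊆ (P : Subgroup G) → Good P (U : Set G) g := by
      intro U hUP hlt g hg
      have hdec := dec_sylFam P (Nat.card T + 1) U hUP (Nat.succ_le_of_lt hlt) g hg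
      have h1 := good_of_dec P (sylFam P (Nat.card T + 1))
        (fun U' hU' y hy => sylFam_conj P _ U' hU' y hy) (by
          rintro U' ⟨hU'P, hU'idx, hU'm⟩ x hx
          have hcU' : Nat.card U' ≤ Nat.card (P : Subgroup G) := Subgroup.card_le_of_le hU'P
          exact ih (Nat.card (P : Subgroup G) - Nat.card U') (by omega) U' hU'P hU'idx rfl x hx)
        _ _ hdec 1 (Subgroup.one_mem _)
      simpa [cj_one] using h1
    by_cases htop : (P : Subgroup G) ≤ T
    · have hTeq : T = (P : Subgroup G) := le_antisymm hTP htop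
      exact ⟨1, 1, z, Subgroup.one_mem _, by rw [← hTeq]; exact hz, by group, DecR.nil _⟩
    rcases reduction P T hTP hidx z hz with hgold | ⟨D₂, c, n, hTD, hne, hDP, hc, hn, rfl⟩
    · obtain ⟨h3, h4⟩ := gold_conds P T hgold
      by_cases hcc : Cfsg.IsSylowChainConnected p
          (↥(Subgroup.normalizer (T : Set G)) ⧸ T.subgroupOf (Subgroup.normalizer (T : Set G)))
      · have hdec := dec_of_chainConnected P T hTP hidx htop hcc z hz
        have h1 := good_of_dec P
          {U : Subgroup G | U ≤ (P : Subgroup G) ∧ Nat.card T < Nat.card U} (by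
            rintro U ⟨hUP, hlt⟩ y hy
            refine ⟨?_, ?_⟩
            · calc U.map (MulAut.conj y).toMonoidHom
                  ≤ (P : Subgroup G).map (MulAut.conj y).toMonoidHom := Subgroup.map_mono hUP
                _ = P := Cfsg.Agent.Helper16.map_conj_eq_of_mem_normalizer hy
            · rw [Subgroup.card_map_of_injective (MulAut.conj y).injective]; exact hlt) (by
            rintro U ⟨hUP, hlt⟩ x hx
            exact star U hUP hlt x (by
              rw [cj_normalizer hx]; exact SetLike.coe_subset_coe.2 hUP))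
          _ _ hdec 1 (Subgroup.one_mem _)
        simpa [cj_one] using h1
      · obtain ⟨X, hTX, hXN, hNX, hpX, hXmin⟩ := exists_minimal_X P T hTP htop hcc
        obtain ⟨x₀, hx₀, n, hnN, hnU, rfl⟩ :=
          frattini_decomp P (Subgroup.normalizer (T : Set G)) X hidx hXN hNX z hz
        have hx₀N : x₀ ∈ Subgroup.normalizer (T : Set G) := by
          obtain ⟨b, -, rfl⟩ := hx₀
          exact hXN b.2
        have hstepS : StepS P T x₀ := by
          refine ⟨X, hTP, hidx, h3, h4, hcc, ⟨hTX, hXN,
            (Subgroup.normal_subgroupOf_iff_le_normalizer hXN).mpr hNX, hpX, ?_⟩, hx₀⟩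
          intro Y hTY hYN hYn hpY
          exact hXmin Y hTY hYN ((Subgroup.normal_subgroupOf_iff_le_normalizer hYN).mp hYn) hpY
        have hTU : T ≤ (P : Subgroup G) ⊓ X := le_inf hTP hTX
        have hlt : Nat.card T < Nat.card ((P : Subgroup G) ⊓ X : Subgroup G) := by
          refine lt_of_le_of_ne (Subgroup.card_le_of_le hTU) (fun h => ?_)
          have h2 := Subgroup.eq_of_le_of_card_ge hTU h.ge
          have h5 := idx_of_normal (p := p) (P : Subgroup G) _ X hXN hNX hidx
          rw [← h2] at h5
          exact h5 hpX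
        have hg := star _ inf_le_left hlt n (by
          rw [cj_normalizer hnU]; exact SetLike.coe_subset_coe.2 inf_le_left)
        obtain ⟨c₂, u₂, y₂, hc₂, hy₂, hn2, hd₂⟩ := hg.mono (SetLike.coe_subset_coe.2 hTU)
        refine ⟨x₀ * c₂ * x₀⁻¹, x₀ * u₂, y₂, ?_, hy₂, by rw [hn2]; group, ?_⟩
        · have h6 := normalizer_le_normalizer_centralizer T hx₀N
          exact (Subgroup.mem_normalizer_iff.1 h6 c₂).1 hc₂
        · exact DecR.cons _ T x₀ u₂ hstepS subset_rfl (by
            rw [cj_normalizer hx₀N]; exact hd₂)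
    · have hlt : Nat.card T < Nat.card D₂ :=
        lt_of_le_of_ne (Subgroup.card_le_of_le hTD)
          (fun h => hne (Subgroup.eq_of_le_of_card_ge hTD h.ge))
      have h1 := star D₂ hDP hlt n (by
        rw [cj_normalizer hn]; exact SetLike.coe_subset_coe.2 hDP)
      obtain ⟨c', u, y, hc', hy, hn', hd'⟩ := h1.mono (SetLike.coe_subset_coe.2 hTD)
      exact ⟨c * c', u, y, Subgroup.mul_mem _ hc hc', hy, by rw [hn']; group, hd'⟩

theorem good_all [Finite G] {p : ℕ} [Fact p.Prime] (P : Sylow p G) (U : Subgroup G)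
    (hUP : U ≤ (P : Subgroup G)) (g : G) (hg : cj g (U : Set G) ⊆ (P : Subgroup G)) :
    Good P (U : Set G) g := by
  have hdec := dec_sylFam P 0 U hUP (Nat.zero_le _) g hg
  have h1 := good_of_dec P (sylFam P 0)
    (fun U' hU' y hy => sylFam_conj P _ U' hU' y hy) (by
      rintro U' ⟨hU'P, hU'idx, -⟩ x hx
      exact mainS P _ U' hU'P hU'idx rfl x hx)
    _ _ hdec 1 (Subgroup.one_mem _)
  simpa [cj_one] using h1

end Cfsg.Agent.Helper25.AG
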