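import Mathlib
import Cfsg.Agent.Helper23.Balance
import Cfsg.Agent.Helper9.PPrimeCore
import Cfsg.Agent.Helper7.CharP
import Cfsg.Agent.S0629

/-!
helper25: `q`-solvability of solvable-by-`q'`-by-`q` groups.
-/

set_option autoImplicit false

namespace Cfsg.Agent.Helper25.Bal

open Cfsg

universe u

/-- A group of `q`-power order is `q`-solvable. -/
theorem psolv_of_card_pow {q : ℕ} {X : Type*} [Group X] (k : ℕ) (h : Nat.card X = q ^ k) :
    IsPSolvable q X := by
  apply Cfsg.Agent.Helper23.isPSolvable_of_bottom (⊤ : Subgroup X)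
    (Or.inl ⟨k, by rw [Subgroup.card_top, h]⟩)
  haveI : Subsingleton (X ⧸ (⊤ : Subgroup X)) := QuotientGroup.subsingleton_quotient_top
  refine ⟨0, fun _ => ⊥, rfl, ?_, ?_, ?_, ?_⟩
  · exact Subsingleton.elim _ _
  · intro i j _; exact le_rfl
  · intro i; infer_instance
  · intro i; exact i.elim0

/-- A finite group with a solvable normal subgroup and `q`-solvable quotient is `q`-solvable. -/
theorem psolv_of_solvable_normal (q : ℕ) [Fact q.Prime] :
    ∀ (n : ℕ) (X : Type u) [Group X] [Finite X] (L : Subgroup X) [L.Normal],
      Group.IsSolvable L → Nat.card L ≤ n → IsPSolvable q (X ⧸ L) → IsPSolvable q X := by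
  intro n
  induction n with
  | zero =>
    intro X _ _ L _ _ hcard _
    have := Nat.card_pos (α := L)
    omega
  | succ n ih =>
    intro X _ _ L _ hsol hcard hquot
    by_cases hL : L = ⊥
    · subst hL
      exact Cfsg.Agent.Helper23.isPSolvable_of_bottom ⊥ (Or.inr (by simp)) hquot
    · haveI : Nontrivial L := (Subgroup.nontrivial_iff_ne_bot L).mpr hL
      haveI := hsol
      obtain ⟨N₀, hN₀n, hN₀1, hN₀⟩ := Cfsg.Agent.Helper23.exists_normal_p_or_p' q L
      obtain ⟨N, hNn, hNL, hN1, hN⟩ : ∃ N : Subgroup X, N.Normal ∧ N ≤ L ∧ N ≠ ⊥ ∧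
          ((∃ m : ℕ, Nat.card N = q ^ m) ∨ (Nat.card N).Coprime q) := by
        rcases hN₀ with hq | hq'
        · haveI := Cfsg.Agent.Helper7.pCore_characteristic q L
          refine ⟨(pCore q L).map L.subtype, ConjAct.normal_of_characteristic_of_normal,
            ?_, ?_, Or.inl ?_⟩
          · rintro _ ⟨d, _, rfl⟩; exact d.2
          · intro h
            have h1 : N₀ ≤ pCore q L := Cfsg.Agent.Helper23.le_pCore hN₀n (by
              obtain ⟨m, hm⟩ := hq
              exact IsPGroup.of_card hm)
            have h2 : pCore q L = ⊥ := by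
              rw [eq_bot_iff]
              intro x hx
              have h3 : (x : X) ∈ (pCore q L).map L.subtype := ⟨x, hx, rfl⟩
              rw [h] at h3
              exact Subgroup.mem_bot.mpr (Subtype.ext (Subgroup.mem_bot.mp h3))
            rw [h2] at h1
            exact hN₀1 (le_bot_iff.mp h1)
          · have h3 : IsPGroup q (pCore q L) := Cfsg.Agent.Helper23.pCore_isPGroup q
            obtain ⟨m, hm⟩ := IsPGroup.iff_card.mp h3
            exact ⟨m, by rw [Subgroup.card_map_of_injective (Subgroup.subtype_injective _)]; exact hm⟩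
        · haveI := Cfsg.Agent.Helper9.pPrimeCore_characteristic q L
          refine ⟨(pPrimeCore q L).map L.subtype, ConjAct.normal_of_characteristic_of_normal,
            ?_, ?_, Or.inr ?_⟩
          · rintro _ ⟨d, _, rfl⟩; exact d.2
          · intro h
            have h1 : N₀ ≤ pPrimeCore q L := Cfsg.Agent.Helper23.le_pPrimeCore hN₀n hq'
            have h2 : pPrimeCore q L = ⊥ := by
              rw [eq_bot_iff]
              intro x hx
              have h3 : (x : X) ∈ (pPrimeCore q L).map L.subtype := ⟨x, hx, rfl⟩
              rw [h] at h3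
              exact Subgroup.mem_bot.mpr (Subtype.ext (Subgroup.mem_bot.mp h3))
            rw [h2] at h1
            exact hN₀1 (le_bot_iff.mp h1)
          · rw [Subgroup.card_map_of_injective (Subgroup.subtype_injective _)]
            exact Cfsg.Agent.Helper23.pPrimeCore_coprime q
      haveI := hNn
      apply Cfsg.Agent.Helper23.isPSolvable_of_bottom N hN
      haveI : (L.map (QuotientGroup.mk' N)).Normal :=
        Subgroup.Normal.map inferInstance _ (QuotientGroup.mk'_surjective N)
      apply ih (X ⧸ N) (L.map (QuotientGroup.mk' N))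
      · exact Group.isSolvable_of_surjective (f := (QuotientGroup.mk' N).subgroupMap L)
          (MonoidHom.subgroupMap_surjective _ _)
      · have h1 : Nat.card (L.map (QuotientGroup.mk' N)) = N.relIndex L := by
          rw [← Subgroup.relIndex_bot_left, ← Subgroup.relIndex_comap, MonoidHom.comap_bot,
            QuotientGroup.ker_mk']
        have h2 : Nat.card L = Nat.card N * N.relIndex L :=
          Cfsg.Agent.Helper23.card_eq_card_mul_relIndex hNL
        have h3 : 1 < Nat.card N := (Subgroup.one_lt_card_iff_ne_bot N).mpr hN1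
        have h4 : 0 < N.relIndex L := by
          rcases Nat.eq_zero_or_pos (N.relIndex L) with h0 | h0
          · rw [h0, mul_zero] at h2
            have := Nat.card_pos (α := L)
            omega
          · exact h0
        rw [h1]
        nlinarith
      · apply Cfsg.Agent.S0629.isPSolvable_of_surjective
          (QuotientGroup.map L (L.map (QuotientGroup.mk' N)) (QuotientGroup.mk' N)
            (Subgroup.le_comap_map _ _)) ?_ hquot
        intro y
        obtain ⟨y', rfl⟩ := QuotientGroup.mk'_surjective _ y
        obtain ⟨x, rfl⟩ := QuotientGroup.mk'_surjective _ y'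
        exact ⟨QuotientGroup.mk' L x, rfl⟩

/-- Solvable-by-`q'`-by-`q` groups are `q`-solvable. -/
theorem psolv_sandwich (q : ℕ) [Fact q.Prime] {X : Type u} [Group X] [Finite X]
    (L N : Subgroup X) [L.Normal] [N.Normal] (hsol : Group.IsSolvable L)
    (hN : (Nat.card (N.map (QuotientGroup.mk' L))).Coprime q)
    (hidx : ∃ k : ℕ, N.index = q ^ k) (hLN : L ≤ N) : IsPSolvable q X := by
  apply psolv_of_solvable_normal q (Nat.card L) X L hsol le_rfl
  haveI : (N.map (QuotientGroup.mk' L)).Normal :=
    Subgroup.Normal.map inferInstance _ (QuotientGroup.mk'_surjective L)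
  apply Cfsg.Agent.Helper23.isPSolvable_of_bottom (N.map (QuotientGroup.mk' L)) (Or.inr hN)
  obtain ⟨k, hk⟩ := hidx
  apply psolv_of_card_pow k
  rw [← Subgroup.index_eq_card, Subgroup.index_map_eq N (QuotientGroup.mk'_surjective L)
    (by rw [QuotientGroup.ker_mk']; exact hLN)]
  exact hk

end Cfsg.Agent.Helper25.Bal
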