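import Mathlib
import Cfsg.Agent.Helper25.Bal1

/-!
helper25: a `q'`-subgroup `D` of `H` centralized by the `q`-element `z` and normalized by `C_H(z)`
meets `E L` inside `O_{q'}(H)`, when `L` is a solvable normal subgroup, `E` a `q'`-subgroup and
`E L` is normal in `H`.
-/

set_option autoImplicit false

namespace Cfsg.Agent.Helper25.Bal

open Cfsg
open scoped Pointwise

variable {G : Type*} [Group G]

theorem mem_normalizer_of_conj {A : Subgroup G} {x : G} (h1 : ∀ a ∈ A, x * a * x⁻¹ ∈ A)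
    (h2 : ∀ a ∈ A, x⁻¹ * a * x ∈ A) : x ∈ Subgroup.normalizer (A : Set G) := by
  rw [Subgroup.mem_normalizer_iff]
  intro h
  refine ⟨h1 h, fun hh => ?_⟩
  have h3 := h2 _ hh
  have e : x⁻¹ * (x * h * x⁻¹) * x = h := by group
  rwa [e] at h3

theorem conj_sup_mem {A B : Subgroup G} {c : G} (hA : ∀ a ∈ A, c * a * c⁻¹ ∈ A ⊔ B)
    (hB : ∀ b ∈ B, c * b * c⁻¹ ∈ A ⊔ B) : ∀ x ∈ A ⊔ B, c * x * c⁻¹ ∈ A ⊔ B := by
  have h : A ⊔ B ≤ (A ⊔ B).comap (MulAut.conj c).toMonoidHom := by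
    apply sup_le
    · intro a ha
      show c * a * c⁻¹ ∈ A ⊔ B
      exact hA a ha
    · intro b hb
      show c * b * c⁻¹ ∈ A ⊔ B
      exact hB b hb
  intro x hx
  exact h hx

theorem core_le [Finite G] {q : ℕ} [Fact q.Prime] (H L D E : Subgroup G) (z : G)
    [hLn : L.Normal] (hLH : L ≤ H) (hLsol : Group.IsSolvable L)
    (hEH : E ≤ H) (hEq : (Nat.card E).Coprime q)
    (hELn : ∀ h ∈ H, ∀ x ∈ E ⊔ L, h * x * h⁻¹ ∈ E ⊔ L)
    (hzH : z ∈ H) (hz : ∃ k : ℕ, orderOf z = q ^ k)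
    (hDq : (Nat.card D).Coprime q) (hDz : ∀ d ∈ D, z * d = d * z)
    (hDn : ∀ c ∈ H, c * z = z * c → ∀ d ∈ D, c * d * c⁻¹ ∈ D) :
    D ⊓ (E ⊔ L) ≤ (pPrimeCore q ↥H).map H.subtype := by
  classical
  obtain ⟨k, hk⟩ := hz
  have hzk : z ^ q ^ k = 1 := by rw [← hk]; exact pow_orderOf_eq_one z
  obtain ⟨X, hX⟩ : ∃ X : Subgroup G, X = (E ⊔ L) ⊔ Subgroup.zpowers z := ⟨_, rfl⟩
  have hN₁X : E ⊔ L ≤ X := by rw [hX]; exact le_sup_left
  have hzX : z ∈ X := by rw [hX]; exact (le_sup_right : Subgroup.zpowers z ≤ _) (Subgroup.mem_zpowers z)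
  have hLN₁ : L ≤ E ⊔ L := le_sup_right
  have hLX : L ≤ X := hLN₁.trans hN₁X
  have hN₁H : E ⊔ L ≤ H := sup_le hEH hLH
  have hXH : X ≤ H := by rw [hX]; exact sup_le hN₁H (Subgroup.zpowers_le.mpr hzH)
  obtain ⟨L', hL'⟩ : ∃ L' : Subgroup X, L' = L.subgroupOf X := ⟨_, rfl⟩
  obtain ⟨N', hN'⟩ : ∃ N' : Subgroup X, N' = (E ⊔ L).subgroupOf X := ⟨_, rfl⟩
  haveI hL'n : L'.Normal := by rw [hL']; exact Subgroup.normal_subgroupOf
  haveI hN'n : N'.Normal := by
    constructor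
    intro n hn g
    rw [hN', Subgroup.mem_subgroupOf] at hn ⊢
    exact hELn g (hXH g.2) n hn
  have hL'N' : L' ≤ N' := by
    intro x hx
    rw [hL', Subgroup.mem_subgroupOf] at hx
    rw [hN', Subgroup.mem_subgroupOf]
    exact hLN₁ hx
  have hsolL' : Group.IsSolvable L' := by
    rw [hL']
    exact Group.isSolvable_of_isSolvable_injective
      (f := (Subgroup.subgroupOfEquivOfLe hLX).toMonoidHom)
      (Subgroup.subgroupOfEquivOfLe hLX).injective
  obtain ⟨z', hz'⟩ : ∃ z' : X, (z' : G) = z := ⟨⟨z, hzX⟩, rfl⟩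
  have hz'k : z' ^ q ^ k = 1 := by
    apply Subtype.ext
    rw [Subgroup.coe_pow, hz', hzk]; rfl
  -- `X / N'` is a `q`-group
  have hquot : IsPGroup q (X ⧸ N') := by
    have hall : ∀ x : X, QuotientGroup.mk' N' x ∈ Subgroup.zpowers (QuotientGroup.mk' N' z') := by
      have hle : (E ⊔ L) ⊔ Subgroup.zpowers z ≤
          ((Subgroup.zpowers (QuotientGroup.mk' N' z')).comap (QuotientGroup.mk' N')).map
            X.subtype := by
        apply sup_le
        · intro a ha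
          refine ⟨⟨a, hN₁X ha⟩, ?_, rfl⟩
          have h1 : QuotientGroup.mk' N' ⟨a, hN₁X ha⟩ = 1 := by
            rw [QuotientGroup.mk'_apply, QuotientGroup.eq_one_iff, hN', Subgroup.mem_subgroupOf]
            exact ha
          show QuotientGroup.mk' N' ⟨a, hN₁X ha⟩ ∈ Subgroup.zpowers (QuotientGroup.mk' N' z')
          rw [h1]; exact Subgroup.one_mem _
        · rw [Subgroup.zpowers_le]
          exact ⟨z', Subgroup.mem_zpowers _, hz'⟩
      intro x
      obtain ⟨y, hy, hyx⟩ := hle (hX.le x.2)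
      have h2 : y = x := Subtype.ext hyx
      rw [← h2]; exact hy
    intro g
    obtain ⟨x, rfl⟩ := QuotientGroup.mk'_surjective N' g
    obtain ⟨i, hi⟩ := Subgroup.mem_zpowers_iff.mp (hall x)
    refine ⟨k, ?_⟩
    rw [← hi, ← zpow_natCast, ← zpow_mul, mul_comm, zpow_mul, zpow_natCast, ← map_pow, hz'k,
      map_one, one_zpow]
  obtain ⟨k₁, hk₁⟩ := IsPGroup.iff_card.mp hquot
  have hidx : ∃ k : ℕ, N'.index = q ^ k := ⟨k₁, by rw [Subgroup.index_eq_card]; exact hk₁⟩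
  -- `N' / L'` is a `q'`-group
  have hNq : (Nat.card (N'.map (QuotientGroup.mk' L'))).Coprime q := by
    apply Cfsg.Agent.Helper9.coprime_of_forall_pow_eq_one
    rintro ⟨y, hy⟩ hyq
    obtain ⟨x, hx, rfl⟩ := hy
    have hxN : (x : G) ∈ E ⊔ L := by
      have hx' : x ∈ N' := hx
      rw [hN', Subgroup.mem_subgroupOf] at hx'
      exact hx'
    have hmul : (x : G) ∈ (E : Set G) * (L : Set G) := by
      rw [← Subgroup.mul_normal]; exact hxN
    obtain ⟨e, he, l, hl, hel⟩ := Set.mem_mul.mp hmul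
    have hxm : x ^ Nat.card E ∈ L' := by
      rw [hL', Subgroup.mem_subgroupOf, Subgroup.coe_pow, ← hel]
      have h5 : ((e * l : G) : G ⧸ L) ^ Nat.card E = 1 := by
        rw [QuotientGroup.mk_mul, (QuotientGroup.eq_one_iff l).mpr hl, mul_one,
          ← QuotientGroup.mk_pow, Cfsg.Agent.Helper23.pow_card_subgroup_eq_one E he]
        rfl
      rw [← QuotientGroup.mk_pow] at h5
      exact (QuotientGroup.eq_one_iff _).mp h5
    have h1 : (QuotientGroup.mk' L' x) ^ Nat.card E = 1 := by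
      rw [← map_pow, QuotientGroup.mk'_apply, QuotientGroup.eq_one_iff]; exact hxm
    have h2 : (QuotientGroup.mk' L' x) ^ q = 1 := by
      have h6 := congrArg Subtype.val hyq
      simpa using h6
    have h3 : QuotientGroup.mk' L' x = 1 := by
      have hd1 := orderOf_dvd_of_pow_eq_one h1
      have hd2 := orderOf_dvd_of_pow_eq_one h2
      have hd := Nat.dvd_gcd hd1 hd2
      rw [Nat.Coprime.gcd_eq_one hEq] at hd
      exact orderOf_eq_one_iff.mp (Nat.dvd_one.mp hd)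
    exact Subtype.ext h3
  have hsolX : IsPSolvable q X := psolv_sandwich q L' N' hsolL' hNq hidx hL'N'
  have hc := Cfsg.Agent.Helper23.centralizer_pCore_quotient_le hsolX
  obtain ⟨K', hK'⟩ : ∃ K' : Subgroup X, K' = (D ⊓ (E ⊔ L)).subgroupOf X := ⟨_, rfl⟩
  have hKle : K' ≤ pPrimeCore q ↥X := by
    apply Cfsg.Agent.Helper23.le_pPrimeCore_of_centralizes hc (Subgroup.zpowers z') K'
      (Cfsg.Agent.Helper23.isPGroup_zpowers_of_pow z' k hz'k)
    · have e1 : Nat.card K' = Nat.card ↥(D ⊓ (E ⊔ L)) := by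
        rw [hK']
        exact Nat.card_congr (Subgroup.subgroupOfEquivOfLe (inf_le_right.trans hN₁X)).toEquiv
      rw [e1]
      exact Nat.Coprime.coprime_dvd_left (Subgroup.card_dvd_of_le inf_le_left) hDq
    · intro x hx y hy
      obtain ⟨i, rfl⟩ := Subgroup.mem_zpowers_iff.mp hx
      rw [hK', Subgroup.mem_subgroupOf] at hy
      have hcomm : Commute z' y := by
        apply Subtype.ext
        rw [Subgroup.coe_mul, Subgroup.coe_mul, hz']
        exact hDz _ hy.1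
      exact (hcomm.zpow_left i).eq
    · intro c hcz y hy
      have hcz' : (c : G) * z = z * (c : G) := by
        have h7 := congrArg Subtype.val (hcz z' (Subgroup.mem_zpowers z'))
        rw [Subgroup.coe_mul, Subgroup.coe_mul, hz'] at h7
        exact h7
      rw [hK', Subgroup.mem_subgroupOf] at hy ⊢
      exact ⟨hDn c (hXH c.2) hcz' _ hy.1, hELn c (hXH c.2) _ hy.2⟩
  have hR'n : (pPrimeCore q ↥X).Normal := inferInstance
  have hR'c : (Nat.card (pPrimeCore q ↥X)).Coprime q := Cfsg.Agent.Helper23.pPrimeCore_coprime q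
  have hR'N' : pPrimeCore q ↥X ≤ N' := by
    intro r hr
    have h1 : (QuotientGroup.mk' N' r) ^ Nat.card (pPrimeCore q ↥X) = 1 := by
      rw [← map_pow, Cfsg.Agent.Helper23.pow_card_subgroup_eq_one _ hr, map_one]
    obtain ⟨j, hj⟩ := hquot (QuotientGroup.mk' N' r)
    have hd1 := orderOf_dvd_of_pow_eq_one h1
    have hd2 := orderOf_dvd_of_pow_eq_one hj
    have hd := Nat.dvd_gcd hd1 hd2
    rw [Nat.Coprime.gcd_eq_one (Nat.Coprime.pow_right j hR'c)] at hd
    have h3 : QuotientGroup.mk' N' r = 1 := orderOf_eq_one_iff.mp (Nat.dvd_one.mp hd)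
    rw [QuotientGroup.mk'_apply, QuotientGroup.eq_one_iff] at h3
    exact h3
  obtain ⟨RG, hRG⟩ : ∃ RG : Subgroup G, RG = (pPrimeCore q ↥X).map X.subtype := ⟨_, rfl⟩
  have hRGN₁ : RG ≤ E ⊔ L := by
    rw [hRG]
    rintro _ ⟨r, hr, rfl⟩
    have h1 := hR'N' hr
    rw [hN', Subgroup.mem_subgroupOf] at h1
    exact h1
  have hRGH : RG ≤ H := hRGN₁.trans hN₁H
  have hNHn : ((E ⊔ L).subgroupOf H).Normal := by
    constructor
    intro n hn g
    rw [Subgroup.mem_subgroupOf] at hn ⊢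
    exact hELn g g.2 n hn
  have hsub : (RG.subgroupOf H).IsSubnormal := by
    apply Subgroup.IsSubnormal.step (RG.subgroupOf H) ((E ⊔ L).subgroupOf H) ?_
      hNHn.isSubnormal ?_
    · intro x hx
      rw [Subgroup.mem_subgroupOf] at hx ⊢
      exact hRGN₁ hx
    · constructor
      intro n hn g
      rw [Subgroup.mem_subgroupOf, Subgroup.mem_subgroupOf] at hn ⊢
      rw [hRG] at hn ⊢
      obtain ⟨r, hr, hrn⟩ := hn
      have hgN : ((g : H) : G) ∈ E ⊔ L := Subgroup.mem_subgroupOf.mp g.2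
      have hconj := hR'n.conj_mem r hr ⟨((g : H) : G), hN₁X hgN⟩
      refine ⟨_, hconj, ?_⟩
      have hrn' : (r : G) = ((n : H) : G) := hrn
      show ((g : H) : G) * (r : G) * ((g : H) : G)⁻¹ = ((g : H) : G) * ((n : H) : G) * ((g : H) : G)⁻¹
      rw [hrn']
  have hRHc : (Nat.card (RG.subgroupOf H)).Coprime q := by
    have e1 : Nat.card (RG.subgroupOf H) = Nat.card RG :=
      Nat.card_congr (Subgroup.subgroupOfEquivOfLe hRGH).toEquiv
    have e2 : Nat.card RG = Nat.card (pPrimeCore q ↥X) := by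
      rw [hRG]
      exact Subgroup.card_map_of_injective (Subgroup.subtype_injective _)
    rw [e1, e2]; exact hR'c
  have hfin := Cfsg.Agent.Helper9.subnormal_le_pPrimeCore q hsub hRHc
  intro x hx
  have hxX : x ∈ X := hN₁X hx.2
  have h1 : (⟨x, hxX⟩ : X) ∈ pPrimeCore q ↥X :=
    hKle (by rw [hK', Subgroup.mem_subgroupOf]; exact hx)
  have h2 : x ∈ RG := by rw [hRG]; exact ⟨⟨x, hxX⟩, h1, rfl⟩
  have hxH : x ∈ H := hRGH h2
  exact ⟨⟨x, hxH⟩, hfin (by rw [Subgroup.mem_subgroupOf]; exact h2), rfl⟩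

end Cfsg.Agent.Helper25.Bal
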