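import Mathlib
import Cfsg.Agent.S0093
import Cfsg.Agent.S0121

set_option autoImplicit false

namespace Cfsg.Agent.Helper25

open Cfsg
open scoped commutatorElement

/-- The exponent bound: `p` for odd `p`, `4` for `p = 2`. -/
def smallExp (p : ℕ) : ℕ := if p = 2 then 4 else p

theorem dvd_smallExp (p : ℕ) : p ∣ smallExp p := by
  unfold smallExp
  split_ifs with h
  · subst h; norm_num
  · exact dvd_rfl

theorem smallExp_sum (p : ℕ) [hp : Fact p.Prime] :
    p ∣ ∑ i ∈ Finset.range (smallExp p), i := by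
  unfold smallExp
  split_ifs with h
  · subst h; decide
  · have hodd : Odd p := hp.out.odd_of_ne_two h
    obtain ⟨k, hk⟩ := hodd
    have h2 := Finset.sum_range_id_mul_two p
    have h3 : (∑ i ∈ Finset.range p, i) * 2 = (p * k) * 2 := by
      rw [h2, hk]; simp; ring
    have h4 : ∑ i ∈ Finset.range p, i = p * k := Nat.eq_of_mul_eq_mul_right (by norm_num) h3
    rw [h4]; exact dvd_mul_right _ _

section C2

variable {X : Type*} [Group X]

theorem c2_pow_aux (x y c : X) (hyx : y * x = x * y * c) (hcy : Commute c y) (k : ℕ) :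
    y ^ k * x = x * y ^ k * c ^ k := by
  induction k with
  | zero => simp
  | succ k ih =>
    have h1 : c * y ^ k = y ^ k * c := (hcy.pow_right k).eq
    calc y ^ (k + 1) * x = y * (y ^ k * x) := by rw [pow_succ', mul_assoc]
      _ = y * (x * y ^ k * c ^ k) := by rw [ih]
      _ = (y * x) * y ^ k * c ^ k := by simp only [mul_assoc]
      _ = (x * y * c) * y ^ k * c ^ k := by rw [hyx]
      _ = x * y * (c * y ^ k) * c ^ k := by simp only [mul_assoc]
      _ = x * y * (y ^ k * c) * c ^ k := by rw [h1]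
      _ = x * (y * y ^ k) * (c * c ^ k) := by simp only [mul_assoc]
      _ = x * y ^ (k + 1) * c ^ (k + 1) := by rw [← pow_succ', ← pow_succ']

theorem c2_pow_mul (x y c : X) (hyx : y * x = x * y * c)
    (hcx : Commute c x) (hcy : Commute c y) (n : ℕ) :
    (x * y) ^ n = x ^ n * y ^ n * c ^ (∑ i ∈ Finset.range n, i) := by
  induction n with
  | zero => simp
  | succ n ih =>
    have h1 : c ^ (∑ i ∈ Finset.range n, i) * (x * y)
        = (x * y) * c ^ (∑ i ∈ Finset.range n, i) :=
      ((hcx.mul_right hcy).pow_left _).eq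
    have h2 : c ^ n * y = y * c ^ n := (hcy.pow_left n).eq
    calc (x * y) ^ (n + 1) = x ^ n * y ^ n * c ^ (∑ i ∈ Finset.range n, i) * (x * y) := by
          rw [pow_succ, ih]
      _ = x ^ n * y ^ n * (c ^ (∑ i ∈ Finset.range n, i) * (x * y)) := by rw [mul_assoc]
      _ = x ^ n * y ^ n * ((x * y) * c ^ (∑ i ∈ Finset.range n, i)) := by rw [h1]
      _ = x ^ n * (y ^ n * x) * y * c ^ (∑ i ∈ Finset.range n, i) := by simp only [mul_assoc]
      _ = x ^ n * (x * y ^ n * c ^ n) * y * c ^ (∑ i ∈ Finset.range n, i) := by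
          rw [c2_pow_aux x y c hyx hcy n]
      _ = x ^ n * x * y ^ n * (c ^ n * y) * c ^ (∑ i ∈ Finset.range n, i) := by
          simp only [mul_assoc]
      _ = x ^ n * x * y ^ n * (y * c ^ n) * c ^ (∑ i ∈ Finset.range n, i) := by rw [h2]
      _ = x ^ n * x * (y ^ n * y) * (c ^ (∑ i ∈ Finset.range n, i) * c ^ n) := by
          rw [pow_mul_comm c (∑ i ∈ Finset.range n, i) n]; simp only [mul_assoc]
      _ = x ^ (n + 1) * y ^ (n + 1) * c ^ (∑ i ∈ Finset.range (n + 1), i) := by
          rw [Finset.sum_range_succ, pow_add c, pow_succ x, pow_succ y]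

theorem comm_of_closure {k : Set X} (h : ∀ x ∈ k, ∀ y ∈ k, x * y = y * x) :
    ∀ x ∈ Subgroup.closure k, ∀ y ∈ Subgroup.closure k, x * y = y * x := by
  have hk : k ⊆ Subgroup.centralizer k := by
    intro x hx
    rw [SetLike.mem_coe, Subgroup.mem_centralizer_iff]
    intro y hy
    exact h y hy x hx
  have h1 : Subgroup.closure k ≤ Subgroup.centralizer k := (Subgroup.closure_le _).2 hk
  have h2 : Subgroup.closure k ≤ Subgroup.centralizer (Subgroup.centralizer k : Set X) :=
    (Subgroup.closure_le _).2 (fun x hx => by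
      rw [SetLike.mem_coe, Subgroup.mem_centralizer_iff]
      intro y hy
      exact ((Subgroup.mem_centralizer_iff.1 hy) x hx).symm)
  intro x hx y hy
  exact ((Subgroup.mem_centralizer_iff.1 (h2 hy)) x (h1 hx))

/-- If `b x = x * y`, `b y = y`, `b` has order prime to `p` and `y` has `p`-power order then
`y = 1`. -/
theorem fix_of_coprime {p : ℕ} (b : MulAut X) (hb : (orderOf b).Coprime p) (x y : X)
    (hx : b x = x * y) (hy : b y = y) {j : ℕ} (hyp : y ^ (p ^ j) = 1) : y = 1 := by
  have hpow : ∀ n : ℕ, (b ^ n) x = x * y ^ n := by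
    intro n
    induction n with
    | zero => simp
    | succ n ih =>
      rw [pow_succ', MulAut.mul_apply, ih, map_mul, map_pow, hx, hy, mul_assoc, ← pow_succ']
  have h1 := hpow (orderOf b)
  rw [pow_orderOf_eq_one, MulAut.one_apply] at h1
  have h2 : y ^ orderOf b = 1 := by
    have : x * 1 = x * y ^ orderOf b := by rw [mul_one]; exact h1
    exact (mul_left_cancel this).symm
  have h3 : orderOf y ∣ orderOf b := orderOf_dvd_of_pow_eq_one h2
  have h4 : orderOf y ∣ p ^ j := orderOf_dvd_of_pow_eq_one hyp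
  have h5 : orderOf y ∣ 1 := by
    have := Nat.dvd_gcd h3 h4
    rwa [(Nat.Coprime.pow_right j hb).gcd_eq_one] at this
  exact orderOf_eq_one_iff.1 (Nat.dvd_one.1 h5)

end C2

section Frat

variable {P : Type*} [Group P] [Finite P] {p : ℕ} [Fact p.Prime]

theorem pow_mem_frattini_of_pgroup (hP : IsPGroup p P) (x : P) : x ^ p ∈ frattini P := by
  have hp : p.Prime := Fact.out
  simp only [frattini, Order.radical, Subgroup.mem_iInf]
  intro M hM
  have hMn : M.Normal :=
    ((Group.isNilpotent_of_finite_tfae (G := P)).out 0 2 rfl rfl).mp hP.isNilpotent M hM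
  by_contra hx
  have hle : M ≤ (Subgroup.zpowers ((QuotientGroup.mk x : P ⧸ M) ^ p)).comap
      (QuotientGroup.mk' M) := by
    intro y hy
    rw [Subgroup.mem_comap]
    have h1 : QuotientGroup.mk' M y = 1 := (QuotientGroup.eq_one_iff y).2 hy
    rw [h1]; exact Subgroup.one_mem _
  have hne : M ≠ (Subgroup.zpowers ((QuotientGroup.mk x : P ⧸ M) ^ p)).comap
      (QuotientGroup.mk' M) := by
    intro heq
    apply hx
    rw [heq, Subgroup.mem_comap, map_pow]
    exact Subgroup.mem_zpowers _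
  have htop := hM.2 _ (lt_of_le_of_ne hle hne)
  have h1 : x ∈ (Subgroup.zpowers ((QuotientGroup.mk x : P ⧸ M) ^ p)).comap
      (QuotientGroup.mk' M) := by rw [htop]; exact Subgroup.mem_top _
  rw [Subgroup.mem_comap, Subgroup.mem_zpowers_iff] at h1
  obtain ⟨j, hj⟩ := h1
  have hQ : IsPGroup p (P ⧸ M) := hP.to_quotient M
  obtain ⟨k, hk⟩ := hQ (QuotientGroup.mk x)
  have h2 : (QuotientGroup.mk x : P ⧸ M) = 1 := by
    have h3 : (QuotientGroup.mk x : P ⧸ M) ^ ((p : ℤ) * j - 1) = 1 := by
      rw [zpow_sub, zpow_mul, zpow_natCast, zpow_one]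
      have h4 : QuotientGroup.mk' M x = (QuotientGroup.mk x : P ⧸ M) := rfl
      rw [h4] at hj
      rw [hj, mul_inv_cancel]
    have h5 : (orderOf (QuotientGroup.mk x : P ⧸ M) : ℤ) ∣ (p : ℤ) * j - 1 :=
      orderOf_dvd_iff_zpow_eq_one.2 h3
    have h6 : orderOf (QuotientGroup.mk x : P ⧸ M) ∣ p ^ k := orderOf_dvd_of_pow_eq_one hk
    obtain ⟨i, -, hi⟩ := (Nat.dvd_prime_pow hp).1 h6
    rcases Nat.eq_zero_or_pos i with h0 | h0
    · rw [h0, pow_zero] at hi
      exact orderOf_eq_one_iff.1 hi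
    · exfalso
      have h7 : (p : ℤ) ∣ (p : ℤ) * j - 1 := by
        refine dvd_trans ?_ h5
        rw [hi]
        exact_mod_cast dvd_pow_self p h0.ne'
      have h8 : (p : ℤ) ∣ 1 := by
        have h9 : (p : ℤ) ∣ (p : ℤ) * j - ((p : ℤ) * j - 1) := dvd_sub (dvd_mul_right _ _) h7
        rwa [sub_sub_cancel] at h9
      have h10 : (p : ℤ) = 1 ∨ (p : ℤ) = -1 := Int.isUnit_iff.1 (isUnit_of_dvd_one h8)
      have hp2 := hp.two_le
      omega
  apply hx
  rw [← QuotientGroup.eq_one_iff, QuotientGroup.mk_pow, h2, one_pow]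

end Frat

end Cfsg.Agent.Helper25
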