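import Mathlib
import Cfsg.Agent.Helper25.CritA

set_option autoImplicit false

namespace Cfsg.Agent.Helper25

open Cfsg
open scoped commutatorElement

/-- Every finite `p`-group `Q` has a normal abelian subgroup `A` of exponent dividing `p`
(`4` if `p = 2`) such that every automorphism of `Q` fixing `A` elementwise has `p`-power order. -/
theorem exists_normal_abelian_pcent {Q : Type*} [Group Q] [Finite Q] {p : ℕ} [hp : Fact p.Prime]
    (hQ : IsPGroup p Q) :
    ∃ A : Subgroup Q, A.Normal ∧ (∀ a ∈ A, ∀ b ∈ A, a * b = b * a) ∧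
      (∀ a ∈ A, a ^ smallExp p = 1) ∧
      ∀ δ : MulAut Q, (∀ a ∈ A, δ a = a) → ∃ k : ℕ, δ ^ (p ^ k) = 1 := by
  obtain ⟨C, hchar, h1, h2, h3⟩ := Cfsg.Agent.S0093.result hQ
  haveI hCn : C.Normal := Subgroup.normal_of_characteristic C
  obtain ⟨m', hm'⟩ := dvd_smallExp p
  -- commutators with elements of `C` are central in `C`
  have hcomm : ∀ x ∈ C, ∀ g : Q, x * g * x⁻¹ * g⁻¹ ∈ Subgroup.centralizer (C : Set Q) := by
    intro x hx g
    have := h2 (Subgroup.commutator_mem_commutator hx (Subgroup.mem_top g))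
    rw [commutatorElement_def] at this
    exact this.2
  have hcomm' : ∀ x ∈ C, ∀ g : Q, g * x * g⁻¹ * x⁻¹ ∈ Subgroup.centralizer (C : Set Q) := by
    intro x hx g
    have := Subgroup.inv_mem _ (hcomm x hx g)
    have e : (x * g * x⁻¹ * g⁻¹)⁻¹ = g * x * g⁻¹ * x⁻¹ := by group
    rwa [e] at this
  have hpowc : ∀ x ∈ C, x ^ p ∈ Subgroup.centralizer (C : Set Q) := by
    intro x hx
    have hCp : IsPGroup p C := hQ.to_subgroup C
    have := pow_mem_frattini_of_pgroup hCp (⟨x, hx⟩ : C)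
    exact h1 (Subgroup.mem_map_of_mem C.subtype this)
  have hcent : ∀ z ∈ Subgroup.centralizer (C : Set Q), ∀ x ∈ C, Commute z x := by
    intro z hz x hx
    exact ((Subgroup.mem_centralizer_iff.1 hz) x hx).symm
  -- the power map is multiplicative on `C`
  have hpm : ∀ x ∈ C, ∀ y ∈ C, (x * y) ^ smallExp p = x ^ smallExp p * y ^ smallExp p := by
    intro x hx y hy
    have hc : y⁻¹ * x⁻¹ * y * x ∈ Subgroup.centralizer (C : Set Q) := by
      have := hcomm y⁻¹ (C.inv_mem hy) x⁻¹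
      simpa using this
    have hyx : y * x = x * y * (y⁻¹ * x⁻¹ * y * x) := by group
    have hcx := hcent _ hc x hx
    have hcy := hcent _ hc y hy
    have hcp : (y⁻¹ * x⁻¹ * y * x) ^ p = 1 := by
      have e1 := c2_pow_aux x y _ hyx hcy p
      have e2 : y ^ p * x = x * y ^ p := (hcent _ (hpowc y hy) x hx).eq
      rw [e2] at e1
      have e3 : x * y ^ p * 1 = x * y ^ p * (y⁻¹ * x⁻¹ * y * x) ^ p := by rw [mul_one]; exact e1
      exact (mul_left_cancel e3).symm
    rw [c2_pow_mul x y _ hyx hcx hcy]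
    obtain ⟨s, hs⟩ := smallExp_sum p
    rw [hs, pow_mul, hcp, one_pow, mul_one]
  -- the subgroup `D` of elements of `C` of small exponent
  let D : Subgroup Q :=
    { carrier := {x | x ∈ C ∧ x ^ smallExp p = 1}
      mul_mem' := by
        rintro x y ⟨hx, hx1⟩ ⟨hy, hy1⟩
        exact ⟨C.mul_mem hx hy, by rw [hpm x hx y hy, hx1, hy1, one_mul]⟩
      one_mem' := ⟨C.one_mem, one_pow _⟩
      inv_mem' := by
        rintro x ⟨hx, hx1⟩
        exact ⟨C.inv_mem hx, by rw [inv_pow, hx1, inv_one]⟩ }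
  have hD : ∀ x, x ∈ D ↔ x ∈ C ∧ x ^ smallExp p = 1 := fun x => Iff.rfl
  have hDconj : ∀ q : Q, ∀ x ∈ D, q * x * q⁻¹ ∈ D := by
    intro q x hx
    rw [hD] at hx ⊢
    refine ⟨hCn.conj_mem x hx.1 q, ?_⟩
    rw [conj_pow, hx.2, mul_one, mul_inv_cancel]
  -- a maximal abelian subgroup of `D`
  obtain ⟨A, -, hAmax⟩ := Finite.exists_le_maximal
    (p := fun B : Subgroup Q => B ≤ D ∧ ∀ a ∈ B, ∀ b ∈ B, a * b = b * a) (a := ⊥)
    ⟨bot_le, by
      intro a ha b hb
      rw [Subgroup.mem_bot] at ha hb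
      rw [ha, hb]⟩
  obtain ⟨⟨hAD, hAab⟩, hAm⟩ := hAmax
  -- self-centralizing in `D`
  have hself : ∀ d ∈ D, (∀ a ∈ A, d * a = a * d) → d ∈ A := by
    intro d hd hda
    have hk : ∀ x ∈ ((A : Set Q) ∪ {d}), ∀ y ∈ ((A : Set Q) ∪ {d}), x * y = y * x := by
      rintro x (hx | hx) y (hy | hy)
      · exact hAab x hx y hy
      · rw [Set.mem_singleton_iff] at hy; rw [hy]; exact (hda x hx).symm
      · rw [Set.mem_singleton_iff] at hx; rw [hx]; exact hda y hy
      · rw [Set.mem_singleton_iff] at hx hy; rw [hx, hy]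
    have hB := comm_of_closure hk
    have hBD : Subgroup.closure ((A : Set Q) ∪ {d}) ≤ D := by
      rw [Subgroup.closure_le]
      rintro x (hx | hx)
      · exact hAD hx
      · rw [Set.mem_singleton_iff] at hx; rw [hx]; exact hd
    have hAB : A ≤ Subgroup.closure ((A : Set Q) ∪ {d}) := fun x hx =>
      Subgroup.subset_closure (Or.inl hx)
    have := hAm ⟨hBD, hB⟩ hAB
    exact this (Subgroup.subset_closure (Or.inr rfl))
  have hDC : ∀ x ∈ D, x ∈ C := fun x hx => hx.1
  have hzA : ∀ z ∈ D, z ∈ Subgroup.centralizer (C : Set Q) → z ∈ A := by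
    intro z hz hzc
    apply hself z hz
    intro a ha
    exact (hcent z hzc a (hDC a (hAD ha))).eq
  have hAnormal : A.Normal := by
    constructor
    intro a ha q
    have hw : q * a * q⁻¹ * a⁻¹ ∈ A := by
      apply hzA
      · exact D.mul_mem (hDconj q a (hAD ha)) (D.inv_mem (hAD ha))
      · exact hcomm' a (hDC a (hAD ha)) q
    have := A.mul_mem hw ha
    simpa using this
  refine ⟨A, hAnormal, hAab, fun a ha => (hAD ha).2, ?_⟩
  -- automorphisms fixing `A`
  intro δ hδ
  have hfin : Finite (MulAut Q) := Finite.of_injective (fun f : MulAut Q => (f : Q → Q))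
    (fun f g h => MulEquiv.ext (congrFun h))
  have hN : 0 < orderOf δ := orderOf_pos δ
  obtain ⟨k, n, hn, hkn⟩ := Nat.exists_eq_pow_mul_and_not_dvd hN.ne' p hp.out.ne_one
  refine ⟨k, ?_⟩
  have hcop : (orderOf (δ ^ (p ^ k))).Coprime p := by
    have h4 : (δ ^ (p ^ k)) ^ n = 1 := by rw [← pow_mul, ← hkn, pow_orderOf_eq_one]
    have h5 : orderOf (δ ^ (p ^ k)) ∣ n := orderOf_dvd_of_pow_eq_one h4
    have h6 : n.Coprime p := (Nat.Coprime.symm ((Nat.Prime.coprime_iff_not_dvd hp.out).2 hn))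
    exact Nat.Coprime.coprime_dvd_left h5 h6
  have hfixA : ∀ a ∈ A, (δ ^ (p ^ k)) a = a := by
    intro a ha
    have : ∀ j : ℕ, (δ ^ j) a = a := by
      intro j
      induction j with
      | zero => simp
      | succ j ih => rw [pow_succ, MulAut.mul_apply, hδ a ha, ih]
    exact this _
  generalize δ ^ (p ^ k) = b at hcop hfixA
  have hbC : ∀ x, x ∈ C ↔ b x ∈ C := by
    intro x
    have := Subgroup.characteristic_iff_comap_eq.1 hchar b
    constructor
    · intro hx
      rw [← this] at hx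
      exact hx
    · intro hx
      rw [← this]
      exact hx
  have hpp : ∀ y : Q, ∃ j : ℕ, y ^ (p ^ j) = 1 := fun y => hQ y
  -- `b` fixes `D`
  have hbD : ∀ d ∈ D, b d = d := by
    intro d hd
    have hbd : b d ∈ D := by
      rw [hD]
      exact ⟨(hbC d).1 hd.1, by rw [← map_pow, hd.2, map_one]⟩
    have hy : d⁻¹ * b d ∈ D := D.mul_mem (D.inv_mem hd) hbd
    have hyA : d⁻¹ * b d ∈ A := by
      apply hself _ hy
      intro a ha
      have hz : d * a * d⁻¹ * a⁻¹ ∈ A := by
        apply hzA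
        · exact D.mul_mem (hDconj d a (hAD ha)) (D.inv_mem (hAD ha))
        · exact hcomm d hd.1 a
      have e1 := hfixA _ hz
      rw [map_mul, map_mul, map_mul, map_inv, map_inv, hfixA a ha] at e1
      have e2 : b d * a * (b d)⁻¹ = d * a * d⁻¹ := by
        have := congrArg (· * a) e1
        simpa using this
      calc d⁻¹ * b d * a = d⁻¹ * (b d * a * (b d)⁻¹) * b d := by group
        _ = d⁻¹ * (d * a * d⁻¹) * b d := by rw [e2]
        _ = a * (d⁻¹ * b d) := by group
    obtain ⟨j, hj⟩ := hpp (d⁻¹ * b d)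
    have h5 := fix_of_coprime b hcop d (d⁻¹ * b d) (by group) (hfixA _ hyA) hj
    have : b d = d * (d⁻¹ * b d) := by group
    rw [this, h5, mul_one]
  -- `b` fixes `Z(C)`
  have hbZ : ∀ j : ℕ, ∀ z : Q, z ∈ C → z ∈ Subgroup.centralizer (C : Set Q) → z ^ (p ^ j) = 1 →
      b z = z := by
    intro j
    induction j with
    | zero =>
      intro z _ _ hz
      rw [pow_zero, pow_one] at hz
      rw [hz, map_one]
    | succ j ih =>
      intro z hzC hzc hz
      have hzp : b (z ^ p) = z ^ p := by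
        apply ih (z ^ p) (C.pow_mem hzC p) (Subgroup.pow_mem _ hzc p)
        rw [← pow_mul, ← pow_succ']; exact hz
      have hbz : b z ∈ C := (hbC z).1 hzC
      have hcomm2 : Commute z⁻¹ (b z) := ((hcent z hzc (b z) hbz).inv_left)
      have hy : (z⁻¹ * b z) ^ p = 1 := by
        rw [hcomm2.mul_pow, inv_pow, ← map_pow, hzp, inv_mul_cancel]
      have hyD : z⁻¹ * b z ∈ D := by
        rw [hD]
        refine ⟨C.mul_mem (C.inv_mem hzC) hbz, ?_⟩
        rw [hm', pow_mul, hy, one_pow]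
      obtain ⟨i, hi⟩ := hpp (z⁻¹ * b z)
      have h5 := fix_of_coprime b hcop z (z⁻¹ * b z) (by group) (hbD _ hyD) hi
      have : b z = z * (z⁻¹ * b z) := by group
      rw [this, h5, mul_one]
  -- `b` fixes `C`
  have hbCfix : ∀ x ∈ C, b x = x := by
    intro x hx
    have hbx : b x ∈ C := (hbC x).1 hx
    have hxm : x ^ smallExp p ∈ Subgroup.centralizer (C : Set Q) := by
      rw [hm', pow_mul]; exact Subgroup.pow_mem _ (hpowc x hx) m'
    obtain ⟨j, hj⟩ := hpp (x ^ smallExp p)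
    have hfixm : b (x ^ smallExp p) = x ^ smallExp p :=
      hbZ j _ (C.pow_mem hx _) hxm hj
    have hyD : x⁻¹ * b x ∈ D := by
      rw [hD]
      refine ⟨C.mul_mem (C.inv_mem hx) hbx, ?_⟩
      rw [hpm _ (C.inv_mem hx) _ hbx, inv_pow, ← map_pow, hfixm, inv_mul_cancel]
    obtain ⟨i, hi⟩ := hpp (x⁻¹ * b x)
    have h5 := fix_of_coprime b hcop x (x⁻¹ * b x) (by group) (hbD _ hyD) hi
    have : b x = x * (x⁻¹ * b x) := by group
    rw [this, h5, mul_one]
  exact Cfsg.Agent.S0121.result hQ C hchar h1 h2 h3 b hcop hbCfix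

end Cfsg.Agent.Helper25
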