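import Mathlib
import Cfsg.Agent.Helper26.FusSat
import Cfsg.Agent.Helper25.FusAut

set_option autoImplicit false

namespace Cfsg.Agent.Helper25

open Cfsg Cfsg.FusionSystem Cfsg.Agent.Helper26

variable {Ω : Type*} [Group Ω] {S : Subgroup Ω}

/-- If `F` (saturated) is generated by `Aut_F(S)` and a subsystem `E` over the same `S` in the
Frattini sense, then every `p`-element of `Aut_F(P)` lies in `Aut_E(P)`. -/
theorem pElt_mem_of_frattini {p : ℕ} [Fact p.Prime] [Finite S] (F E : FusionSystem S)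
    (hF : F.IsSaturated p)
    (hFr : ∀ (P : Subgroup Ω), P ≤ S → ∀ (φ : P →* Ω), φ ∈ F.Hom P →
      ∃ α ∈ F.autGroup S, ∃ φ₀ ∈ E.Hom P, ∀ (x : P) (hx : φ₀ x ∈ S),
        φ x = ((α ⟨φ₀ x, hx⟩ : S) : Ω))
    {P : Subgroup Ω} (hP : P ≤ S) (τ : MulAut P) (hτ : τ ∈ F.autGroup P) (k : ℕ)
    (hk : τ ^ p ^ k = 1) : τ ∈ E.autGroup P := by
  obtain ⟨Q, hPQ, hQa, -⟩ := hF P hP
  obtain ⟨ω, hω, s, hs, hωτ⟩ :=
    exists_conj_to_inner F hPQ hQa τ ((mem_autGroup_iff F hP τ).1 hτ) k hk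
  obtain ⟨α, hα, φ₀, hφ₀, hαφ⟩ := hFr P hP _ hω
  have hφ₀S : ∀ x : P, φ₀ x ∈ S := (E.le_of_mem hφ₀).2
  obtain ⟨s', hs'⟩ : ∃ s' : S, α s' = ⟨s, hs⟩ := ⟨α⁻¹ ⟨s, hs⟩, by simp⟩
  have key : ∀ x : P, φ₀ (τ x) = (s' : Ω) * φ₀ x * (s' : Ω)⁻¹ := by
    intro x
    have h1 := hαφ (τ x) (hφ₀S _)
    have h2 := hαφ x (hφ₀S _)
    have h3 := hωτ x
    have h4 : (α ⟨φ₀ (τ x), hφ₀S _⟩ : S) = α (s' * ⟨φ₀ x, hφ₀S _⟩ * s'⁻¹) := by
      apply Subtype.ext
      rw [map_mul, map_mul, map_inv, hs']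
      show ((α ⟨φ₀ (τ x), _⟩ : S) : Ω) = s * ((α ⟨φ₀ x, _⟩ : S) : Ω) * s⁻¹
      rw [← h1, ← h2]; exact h3
    exact congrArg Subtype.val (α.injective h4)
  rw [mem_autGroup_iff E hP]
  obtain ⟨e₀, he₀, he₀x⟩ := exists_iso_of_hom E hφ₀ rfl
  have hR : φ₀.range ≤ S := he₀.le_right
  have hc : conjHom φ₀.range (s' : Ω) ∈ E.Hom φ₀.range := E.conj_mem hR s'.2
  have hcr : ∀ y : φ₀.range, conjHom φ₀.range (s' : Ω) y ∈ φ₀.range := by
    rintro ⟨_, x, rfl⟩
    exact ⟨τ x, key x⟩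
  have h1 : (conjHom φ₀.range (s' : Ω)).comp e₀.toMonoidHom ∈ E.Hom P := he₀.comp_hom hc
  refine fs_comp E h1 he₀.symm (fun x => hcr _) ?_
  intro x
  show (τ x : Ω) = ((e₀.symm ⟨_, hcr (e₀ x)⟩ : P) : Ω)
  congr 1
  rw [MulEquiv.eq_symm_apply]
  apply Subtype.ext
  rw [he₀x]
  show φ₀ (τ x) = (s' : Ω) * ((e₀ x : φ₀.range) : Ω) * (s' : Ω)⁻¹
  rw [he₀x]
  exact key x

/-- Powers of an automorphism fixing a subgroup `R` pointwise and moving every element by an
element of `R`. -/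
theorem pow_of_fix {N R : Subgroup Ω} (τ : MulAut N) (h1 : ∀ x : N, (x : Ω) ∈ R → τ x = x)
    (h2 : ∀ x : N, ((x⁻¹ * τ x : N) : Ω) ∈ R) (k : ℕ) :
    ∀ x : N, (τ ^ k) x = x * (x⁻¹ * τ x) ^ k := by
  induction k with
  | zero => intro x; simp
  | succ k ih =>
    intro x
    have h3 : (τ ^ (k + 1)) x = τ ((τ ^ k) x) := by
      rw [pow_succ']; rfl
    rw [h3, ih x, map_mul, map_pow, h1 _ (h2 x), pow_succ', ← mul_assoc, mul_inv_cancel_left]

/-- A centric subgroup is fully centralized. -/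
theorem centric_fullyCentralized [Finite S] (E : FusionSystem S) {R : Subgroup Ω}
    (hR : E.IsCentric R) : E.IsFullyCentralized R := by
  refine ⟨hR.1, fun Q hQ => ?_⟩
  obtain ⟨e, he⟩ := (isConj_iff E).1 hQ
  have hQc : centralizerIn S Q ≤ Q := hR.2 Q hQ
  have hmem : ∀ z : centralizerIn S Q, ((e.symm ⟨z, hQc z.2⟩ : R) : Ω) ∈ centralizerIn S R := by
    intro z
    rw [mem_centralizerIn_iff]
    refine ⟨hR.1 (e.symm ⟨z, hQc z.2⟩).2, fun y hy => ?_⟩
    have hz := (mem_centralizerIn_iff.1 z.2).2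
    have h1 : (⟨y, hy⟩ : R) = e.symm (e ⟨y, hy⟩) := (e.symm_apply_apply _).symm
    have h2 : e.symm (e ⟨y, hy⟩) * e.symm ⟨z, hQc z.2⟩ =
        e.symm ⟨z, hQc z.2⟩ * e.symm (e ⟨y, hy⟩) := by
      rw [← map_mul, ← map_mul]
      congr 1
      apply Subtype.ext
      exact hz _ (e ⟨y, hy⟩).2
    rw [← h1] at h2
    exact congrArg Subtype.val h2
  refine Nat.card_le_card_of_injective
    (fun z : centralizerIn S Q => (⟨_, hmem z⟩ : centralizerIn S R)) ?_
  intro a b hab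
  have h0 := Subtype.ext_iff.1 hab
  have h1 : ((e.symm ⟨a, hQc a.2⟩ : R) : Ω) = ((e.symm ⟨b, hQc b.2⟩ : R) : Ω) := h0
  have h2 := e.symm.injective (Subtype.ext h1)
  have h3 := Subtype.ext_iff.1 h2
  exact Subtype.ext h3

/-- Extending along a centric subgroup: an automorphism `α ∈ Aut_F(S)` that normalizes a centric
subgroup `R` and restricts to a map of `E` on `R` is a map of `E`, provided `E` is saturated and
contains all `p`-elements of the automorphism groups of `F`. -/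
theorem centric_extend {p : ℕ} [Fact p.Prime] [Finite S] (hS : IsPGroup p S)
    (F E : FusionSystem S) (hEF : ∀ P : Subgroup Ω, E.Hom P ⊆ F.Hom P) (hE : E.IsSaturated p)
    (hp : ∀ (P : Subgroup Ω), P ≤ S → ∀ τ : MulAut P, τ ∈ F.autGroup P → ∀ k : ℕ,
      τ ^ p ^ k = 1 → τ ∈ E.autGroup P)
    (α : MulAut S) (hα : α ∈ F.autGroup S) :
    ∀ (n : ℕ) (R : Subgroup Ω), Nat.card S - Nat.card R = n → F.IsCentric R →
      (∀ x : S, (x : Ω) ∈ R → ((α x : S) : Ω) ∈ R) →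
      (∃ χ ∈ E.Hom R, ∀ (x : R) (hx : (x : Ω) ∈ S), χ x = ((α ⟨x, hx⟩ : S) : Ω)) →
      α ∈ E.autGroup S := by
  intro n
  induction n using Nat.strong_induction_on with
  | _ n ih =>
    intro R hn hRc hαR hχ
    obtain ⟨χ, hχ, hχα⟩ := hχ
    have hRS : R ≤ S := hRc.1
    have hαiso : IsIso F α := (mem_autGroup_iff F le_rfl α).1 hα
    by_cases hRS' : R = S
    · subst hRS'
      rw [mem_autGroup_iff E le_rfl]
      exact fs_congr E hχ (fun x => (hχα x x.2).symm)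
    · obtain ⟨g, hgN, hgR⟩ := exists_normalizerIn_not_mem hS hRS hRS'
      have hfinR : Finite R := finite_of_le hRS
      have hNS : normalizerIn S R ≤ S := inf_le_left
      have hRN : R ≤ normalizerIn S R := le_normalizerIn hRS
      -- surjectivity of `α` on `R`
      have hsurj : ∀ y : Ω, y ∈ R → ∃ x : S, (x : Ω) ∈ R ∧ ((α x : S) : Ω) = y := by
        have hinj : Function.Injective
            (fun x : R => (⟨((α ⟨x, hRS x.2⟩ : S) : Ω), hαR _ x.2⟩ : R)) := by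
          intro a b hab
          have h0 := Subtype.ext_iff.1 hab
          have h1 : ((α ⟨a, hRS a.2⟩ : S) : Ω) = ((α ⟨b, hRS b.2⟩ : S) : Ω) := h0
          have h2 := α.injective (Subtype.ext h1)
          have h3 := Subtype.ext_iff.1 h2
          exact Subtype.ext h3
        intro y hy
        obtain ⟨x, hx⟩ := Finite.surjective_of_injective hinj ⟨y, hy⟩
        exact ⟨⟨x, hRS x.2⟩, x.2, Subtype.ext_iff.1 hx⟩
      -- `α` maps `N_S(R)` to itself
      have hαN : ∀ x : S, (x : Ω) ∈ normalizerIn S R →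
          ((α x : S) : Ω) ∈ normalizerIn S R := by
        intro x hx
        rw [mem_normalizerIn_iff] at hx ⊢
        refine ⟨(α x).2, fun h => ⟨fun hh => ?_, fun hh => ?_⟩⟩
        · obtain ⟨y, hyR, hy⟩ := hsurj h hh
          have h1 : ((α x : S) : Ω) * h * ((α x : S) : Ω)⁻¹ = ((α (x * y * x⁻¹) : S) : Ω) := by
            rw [map_mul, map_mul, map_inv, ← hy]; rfl
          rw [h1]
          exact hαR _ ((hx.2 _).1 hyR)
        · obtain ⟨y, hyR, hy⟩ := hsurj _ hh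
          have h1 : h = ((α (x⁻¹ * y * x) : S) : Ω) := by
            rw [map_mul, map_mul, map_inv]
            show h = ((α x : S) : Ω)⁻¹ * ((α y : S) : Ω) * ((α x : S) : Ω)
            rw [hy]; group
          rw [h1]
          refine hαR _ ?_
          have h2 : (x : Ω) * ((x : Ω)⁻¹ * (y : Ω) * (x : Ω)) * (x : Ω)⁻¹ = (y : Ω) := by group
          exact (hx.2 ((x : Ω)⁻¹ * y * x)).2 (by rw [h2]; exact hyR)
      -- the isomorphism of `E` on `R`
      have hχR : ∀ x : R, χ x ∈ R := fun x => by rw [hχα x (hRS x.2)]; exact hαR _ x.2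
      obtain ⟨e, he, hex⟩ := exists_iso_of_hom_of_card E hχ hχR le_rfl
      have hRcE : E.IsCentric R :=
        ⟨hRS, fun Q hQ => hRc.2 Q (by obtain ⟨φ, hφ, hr⟩ := hQ; exact ⟨φ, hEF _ hφ, hr⟩)⟩
      have hrec : E.IsReceptive R :=
        sat_receptive_of_fullyCentralized hS E hE (centric_fullyCentralized E hRcE)
      obtain ⟨χ₂, hχ₂, hχ₂e⟩ := receptive_ext E hrec he
      have hNext : normalizerIn S R ≤ extender S R (R.subtype.comp e.toMonoidHom) := by
        intro g hg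
        rw [mem_extender_iff']
        refine ⟨hg.1, hg.2, ((α ⟨g, hg.1⟩ : S) : Ω), (α ⟨g, hg.1⟩).2, fun x y hy => ?_⟩
        show ((e y : R) : Ω) =
          ((α ⟨g, hg.1⟩ : S) : Ω) * ((e x : R) : Ω) * ((α ⟨g, hg.1⟩ : S) : Ω)⁻¹
        rw [hex, hex, hχα y (hRS y.2), hχα x (hRS x.2)]
        have h1 : (⟨(y : Ω), hRS y.2⟩ : S) = ⟨g, hg.1⟩ * ⟨x, hRS x.2⟩ * ⟨g, hg.1⟩⁻¹ :=
          Subtype.ext hy
        rw [h1, map_mul, map_mul, map_inv]; rfl
      obtain ⟨ψ, hψ, hψx⟩ : ∃ ψ ∈ E.Hom (normalizerIn S R),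
          ∀ x : normalizerIn S R, ψ x = χ₂ ⟨x, hNext x.2⟩ :=
        ⟨_, fs_restrict E hNext hχ₂, fun x => rfl⟩
      have hψR : ∀ (x : normalizerIn S R), (x : Ω) ∈ R →
          ψ x = ((α ⟨x, hNS x.2⟩ : S) : Ω) := by
        intro x hx
        rw [hψx, hχ₂e ⟨x, hx⟩ (hNext x.2), hex, hχα ⟨x, hx⟩ (hNS x.2)]
      have hψS : ∀ x, ψ x ∈ S := (E.le_of_mem hψ).2
      have hw : ∀ x : normalizerIn S R, ((α ⟨x, hNS x.2⟩ : S) : Ω)⁻¹ * ψ x ∈ R := by
        intro x
        apply hRc.2 R (isConj_refl F hRS)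
        rw [mem_centralizerIn_iff]
        refine ⟨S.mul_mem (S.inv_mem (α _).2) (hψS x), fun h hh => ?_⟩
        obtain ⟨y, hyR, hy⟩ := hsurj h hh
        have hxy : (x : Ω) * y * (x : Ω)⁻¹ ∈ R := ((mem_normalizerIn_iff.1 x.2).2 _).1 hyR
        have h1 := hψR (x * ⟨y, hRN hyR⟩ * x⁻¹) hxy
        rw [map_mul, map_mul, map_inv, hψR ⟨y, hRN hyR⟩ hyR] at h1
        have h2 : (⟨((x * ⟨(y : Ω), hRN hyR⟩ * x⁻¹ : normalizerIn S R) : Ω),
            hNS (x * ⟨(y : Ω), hRN hyR⟩ * x⁻¹).2⟩ : S)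
            = ⟨x, hNS x.2⟩ * y * ⟨x, hNS x.2⟩⁻¹ := Subtype.ext rfl
        rw [h2, map_mul, map_mul, map_inv] at h1
        have h3 : ψ x * ((α y : S) : Ω) * (ψ x)⁻¹ = ((α ⟨x, hNS x.2⟩ : S) : Ω) *
            ((α y : S) : Ω) * ((α ⟨x, hNS x.2⟩ : S) : Ω)⁻¹ := h1
        rw [← hy]
        have h4 : ψ x * ((α y : S) : Ω) = ((α ⟨x, hNS x.2⟩ : S) : Ω) * ((α y : S) : Ω) *
            ((α ⟨x, hNS x.2⟩ : S) : Ω)⁻¹ * ψ x := by
          rw [← h3]; group
        calc ((α y : S) : Ω) * (((α ⟨x, hNS x.2⟩ : S) : Ω)⁻¹ * ψ x)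
            = ((α ⟨x, hNS x.2⟩ : S) : Ω)⁻¹ * (((α ⟨x, hNS x.2⟩ : S) : Ω) * ((α y : S) : Ω) *
                ((α ⟨x, hNS x.2⟩ : S) : Ω)⁻¹ * ψ x) := by group
          _ = ((α ⟨x, hNS x.2⟩ : S) : Ω)⁻¹ * ψ x * ((α y : S) : Ω) := by
            rw [← h4]; group
      have hψN : ∀ x : normalizerIn S R, ψ x ∈ normalizerIn S R := by
        intro x
        have h1 : ψ x = ((α ⟨x, hNS x.2⟩ : S) : Ω) *
            (((α ⟨x, hNS x.2⟩ : S) : Ω)⁻¹ * ψ x) := by group
        rw [h1]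
        exact Subgroup.mul_mem _ (hαN _ x.2) (hRN (hw x))
      obtain ⟨β, hβ, hβx⟩ := exists_iso_of_hom_of_card E hψ hψN le_rfl
      have hαres : (S.subtype.comp α.toMonoidHom).comp (Subgroup.inclusion hNS) ∈
          F.Hom (normalizerIn S R) := fs_restrict F hNS hαiso
      obtain ⟨αN, hαNiso, hαNx⟩ :=
        exists_iso_of_hom_of_card F hαres (fun x => hαN _ x.2) le_rfl
      have hαNx' : ∀ x : normalizerIn S R,
          ((αN x : normalizerIn S R) : Ω) = ((α ⟨x, hNS x.2⟩ : S) : Ω) := fun x => hαNx x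
      have hαNF : (αN : MulAut (normalizerIn S R)) ∈ F.autGroup (normalizerIn S R) :=
        (mem_autGroup_iff F hNS _).2 hαNiso
      have hβF : (β : MulAut (normalizerIn S R)) ∈ F.autGroup (normalizerIn S R) :=
        (mem_autGroup_iff F hNS _).2 (hEF _ hβ)
      have hβE : (β : MulAut (normalizerIn S R)) ∈ E.autGroup (normalizerIn S R) :=
        (mem_autGroup_iff E hNS _).2 hβ
      obtain ⟨τ, hτdef⟩ : ∃ τ : MulAut (normalizerIn S R),
          τ = (αN : MulAut (normalizerIn S R))⁻¹ * β := ⟨_, rfl⟩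
      have hτF : τ ∈ F.autGroup (normalizerIn S R) := by
        rw [hτdef]; exact Subgroup.mul_mem _ (Subgroup.inv_mem _ hαNF) hβF
      have hατ : ∀ x, αN (τ x) = β x := by
        intro x
        rw [hτdef]
        exact MulAut.apply_inv_self (normalizerIn S R) (αN : MulAut (normalizerIn S R)) (β x)
      have hτ1 : ∀ x : normalizerIn S R, (x : Ω) ∈ R → τ x = x := by
        intro x hx
        apply αN.injective
        rw [hατ]
        apply Subtype.ext
        rw [hβx, hαNx', hψR x hx]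
      have hτ2 : ∀ x : normalizerIn S R, ((x⁻¹ * τ x : normalizerIn S R) : Ω) ∈ R := by
        intro x
        obtain ⟨y, hyR, hy⟩ := hsurj _ (hw x)
        have h1 : αN ⟨y, hRN hyR⟩ = αN (x⁻¹ * τ x) := by
          rw [map_mul, map_inv, hατ]
          apply Subtype.ext
          show ((αN ⟨y, hRN hyR⟩ : normalizerIn S R) : Ω) =
            ((αN x : normalizerIn S R) : Ω)⁻¹ * ((β x : normalizerIn S R) : Ω)
          rw [hαNx', hαNx', hβx]
          exact hy
        have h2 := αN.injective h1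
        rw [← h2]; exact hyR
      obtain ⟨m, hm⟩ := IsPGroup.iff_card.1 (isPGroup_of_le hS hRS)
      have hτp : τ ^ p ^ m = 1 := by
        apply MulEquiv.ext
        intro x
        rw [pow_of_fix τ hτ1 hτ2 (p ^ m) x]
        have h5 : (x⁻¹ * τ x) ^ p ^ m = 1 := by
          apply Subtype.ext
          have h3 : (⟨_, hτ2 x⟩ : R) ^ Nat.card R = 1 := pow_card_eq_one'
          have h4 := congrArg Subtype.val h3
          rw [← hm]
          exact h4
        rw [h5, mul_one]; rfl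
      have hτE := hp _ hNS τ hτF m hτp
      have hαNE : (αN : MulAut (normalizerIn S R)) ∈ E.autGroup (normalizerIn S R) := by
        have h1 : (αN : MulAut (normalizerIn S R)) = β * τ⁻¹ := by rw [hτdef]; group
        rw [h1]; exact Subgroup.mul_mem _ hβE (Subgroup.inv_mem _ hτE)
      have hlt : Nat.card R < Nat.card (normalizerIn S R) :=
        card_lt_of_mem_not_mem hNS hRN hgN hgR
      have hle : Nat.card (normalizerIn S R) ≤ Nat.card S := Subgroup.card_le_of_le hNS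
      refine ih (Nat.card S - Nat.card (normalizerIn S R)) (by omega) (normalizerIn S R) rfl
        (centric_of_le F hRc hRN hNS) hαN ?_
      exact ⟨_, (mem_autGroup_iff E hNS _).1 hαNE, fun x hx => hαNx' x⟩

end Cfsg.Agent.Helper25
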