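import Mathlib
import Cfsg.Agent.S5160
import Cfsg.Agent.Helper26.Alperin

set_option autoImplicit false

namespace Cfsg.Agent.Helper25

open Cfsg Cfsg.FusionSystem Cfsg.Agent.Helper26

section Top

variable {Ω : Type*} [Group Ω] {S : Subgroup Ω}

theorem conj_top_eq [Finite S] (F : FusionSystem S) {Q : Subgroup Ω} (h : F.IsConj S Q) : Q = S := by
  obtain ⟨e, he⟩ := (isConj_iff F).1 h
  have hQS : Q ≤ S := he.le_right
  have hc : Nat.card S = Nat.card Q := Nat.card_congr e.toEquiv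
  exact Subgroup.eq_of_le_of_card_ge hQS hc.le

theorem top_fullyNormalized [Finite S] (F : FusionSystem S) : F.IsFullyNormalized S := by
  refine ⟨le_rfl, fun Q _ => ?_⟩
  exact Subgroup.card_le_of_le ((inf_le_left : normalizerIn S Q ≤ S).trans (le_normalizerIn le_rfl))

theorem top_centric [Finite S] (F : FusionSystem S) : F.IsCentric S := by
  refine ⟨le_rfl, fun Q hQ => ?_⟩
  rw [conj_top_eq F hQ]
  exact inf_le_left

theorem top_radical {p : ℕ} [Fact p.Prime] [Finite S] (hS : IsPGroup p S) (F : FusionSystem S)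
    (hF : F.IsSaturated p) : F.IsRadical p S := by
  refine ⟨le_rfl, le_antisymm ?_ (inn_le_pCore_map hS F le_rfl)⟩
  obtain ⟨-, ⟨-, R, hR⟩, -⟩ := sat_of_fullyNormalized hS F hF (top_fullyNormalized F)
  rintro _ ⟨γ, hγ, rfl⟩
  have h1 : γ ∈ (R : Subgroup (F.autGroup S)) := pCore_le_sylow' R hγ
  rw [hR, Subgroup.mem_subgroupOf] at h1
  obtain ⟨s, hs, hsx⟩ := (Helper26.mem_autInducedBy_iff S S _).1 h1
  refine ⟨⟨s, hs⟩, ?_⟩
  apply MulEquiv.ext
  intro x
  apply Subtype.ext
  exact (hsx x).symm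

end Top

/-- A finite group with one class of involutions whose Sylow 2-subgroup `S` sits in the
centralizer of a central involution `z` of `S` as in a dihedral group (an abelian-like subgroup
`C` containing `z` as its only involution, all elements of `C_G(z)` outside `C` being involutions
inverting `C`) has a simple 2-fusion system. -/
theorem simple_of_dihedral_type {G : Type*} [Group G] [Finite G] (S : Sylow 2 G) (z : G)
    (C : Subgroup G)
    (hconj : ∀ x y : G, orderOf x = 2 → orderOf y = 2 → IsConj x y)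
    (hzS : z ∈ (S : Subgroup G)) (hz1 : z ≠ 1) (hz2 : z * z = 1)
    (hzc : ∀ s ∈ (S : Subgroup G), s * z = z * s)
    (hC3 : ∀ g : G, g * z = z * g → g ∉ C → g * g = 1 ∧ ∀ c ∈ C, g * c * g⁻¹ = c⁻¹)
    (hC4 : ∀ c ∈ C, c * c = 1 → c = 1 ∨ c = z)
    (hC5 : ∃ s ∈ (S : Subgroup G), s ∉ C)
    (hC6 : ∃ a ∈ (S : Subgroup G), a ∈ C ∧ a * a ≠ 1) :
    (groupFusionSystem (S : Subgroup G)).IsSimple 2 := by
  obtain ⟨s₀, hs₀S, hs₀C⟩ := hC5
  obtain ⟨a₀, ha₀S, ha₀C, ha₀⟩ := hC6
  have hs₀ := hC3 s₀ (hzc s₀ hs₀S) hs₀C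
  have hSp : IsPGroup 2 (S : Subgroup G) := S.isPGroup'
  have hcen : ∀ z' ∈ (S : Subgroup G), z' ≠ 1 → z' * z' = 1 →
      (∀ s ∈ (S : Subgroup G), s * z' = z' * s) → z' = z := by
    intro z' hz'S hz'1 hz'2 hz'c
    by_cases hz'C : z' ∈ C
    · rcases hC4 z' hz'C hz'2 with h | h
      · exact absurd h hz'1
      · exact h
    · exfalso
      have h1 := (hC3 z' (hz'c z hzS).symm hz'C).2 a₀ ha₀C
      have h2 := hz'c a₀ ha₀S
      apply ha₀
      have h3 : z' * a₀ * z'⁻¹ = a₀ := by rw [← h2, mul_inv_cancel_right]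
      rw [h3] at h1
      calc a₀ * a₀ = a₀ * a₀⁻¹ := by rw [← h1]
        _ = 1 := mul_inv_cancel _
  have hN : ∀ g : G, g ∈ Subgroup.normalizer ((S : Subgroup G) : Set G) →
      ∃ k : ℕ, orderOf g = 2 ^ k := by
    intro g hg
    have hgS : ∀ s, s ∈ (S : Subgroup G) ↔ g * s * g⁻¹ ∈ (S : Subgroup G) :=
      fun s => Subgroup.mem_normalizer_iff.1 hg s
    have hgz : g * z * g⁻¹ = z := by
      apply hcen
      · exact (hgS z).1 hzS
      · intro h
        apply hz1
        have h1 : z = g⁻¹ * (g * z * g⁻¹) * g := by group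
        rw [h1, h]; group
      · calc g * z * g⁻¹ * (g * z * g⁻¹) = g * (z * z) * g⁻¹ := by group
          _ = 1 := by rw [hz2]; group
      · intro s hs
        have hs' : g⁻¹ * s * g ∈ (S : Subgroup G) := by
          rw [hgS]
          have h1 : g * (g⁻¹ * s * g) * g⁻¹ = s := by group
          rw [h1]; exact hs
        have h1 := hzc _ hs'
        calc s * (g * z * g⁻¹) = g * ((g⁻¹ * s * g) * z) * g⁻¹ := by group
          _ = g * (z * (g⁻¹ * s * g)) * g⁻¹ := by rw [h1]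
          _ = g * z * g⁻¹ * s := by group
    have hgz' : g * z = z * g := by
      calc g * z = g * z * g⁻¹ * g := by group
        _ = z * g := by rw [hgz]
    by_cases hgC : g ∈ C
    · have h1 := hs₀.2 g hgC
      have h2 : g * s₀ * g⁻¹ ∈ (S : Subgroup G) := (hgS s₀).1 hs₀S
      have h3 : g * g = (g * s₀ * g⁻¹) * s₀⁻¹ := by
        have h0 : (g * s₀ * g⁻¹) * s₀⁻¹ = g * (s₀ * g * s₀⁻¹)⁻¹ := by group
        rw [h0, h1, inv_inv]
      have h4 : g * g ∈ (S : Subgroup G) := by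
        rw [h3]; exact Subgroup.mul_mem _ h2 (Subgroup.inv_mem _ hs₀S)
      obtain ⟨k, hk⟩ := hSp ⟨g * g, h4⟩
      have hk' : (g * g) ^ 2 ^ k = 1 := by
        have := congrArg Subtype.val hk
        simpa using this
      have h5 : g ^ 2 ^ (k + 1) = 1 := by
        rw [pow_succ, mul_comm, pow_mul, pow_two]; exact hk'
      obtain ⟨j, -, hj⟩ := (Nat.dvd_prime_pow Nat.prime_two).1 (orderOf_dvd_of_pow_eq_one h5)
      exact ⟨j, hj⟩
    · have h1 := (hC3 g hgz' hgC).1
      have h6 : orderOf g ∣ 2 ^ 1 := orderOf_dvd_of_pow_eq_one (by rw [pow_one, pow_two]; exact h1)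
      obtain ⟨j, -, hj⟩ := (Nat.dvd_prime_pow Nat.prime_two).1 h6
      exact ⟨j, hj⟩
  refine Cfsg.Agent.S5160.result 2 S ?_ ?_ ?_
  · intro h
    apply hz1
    rw [h] at hzS
    exact Subgroup.mem_bot.1 hzS
  · intro T hT
    by_cases hT1 : T = ⊥
    · exact Or.inl hT1
    right
    obtain ⟨hTS, hTsc⟩ := hT
    have hTp : IsPGroup 2 T := isPGroup_of_le hSp hTS
    obtain ⟨n, hn⟩ := IsPGroup.iff_card.1 hTp
    have hn0 : n ≠ 0 := by
      rintro rfl
      rw [pow_zero] at hn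
      exact hT1 (Subgroup.card_eq_one.1 hn)
    have hdvd : 2 ∣ Nat.card T := by rw [hn]; exact dvd_pow_self 2 hn0
    obtain ⟨t', ht'⟩ := exists_prime_orderOf_dvd_card' 2 hdvd
    obtain ⟨t, htT, ht2⟩ : ∃ t ∈ T, orderOf t = 2 :=
      ⟨t', t'.2, by rw [Subgroup.orderOf_coe]; exact ht'⟩
    have hinv : ∀ s ∈ (S : Subgroup G), orderOf s = 2 → s ∈ T := by
      intro s hs hs2
      obtain ⟨g, hg⟩ := isConj_iff.1 (hconj t s ht2 hs2)
      have hle : Subgroup.zpowers t ≤ T := (Subgroup.zpowers_le).2 htT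
      have hφ : conjHom (Subgroup.zpowers t) g ∈
          (groupFusionSystem (S : Subgroup G)).Hom (Subgroup.zpowers t) := by
        refine ⟨hle.trans hTS, ?_, g, fun x => rfl⟩
        rintro ⟨_, i, rfl⟩
        show g * t ^ i * g⁻¹ ∈ (S : Subgroup G)
        have h1 : g * t ^ i * g⁻¹ = (g * t * g⁻¹) ^ i := by rw [conj_zpow]
        rw [h1, hg]; exact Subgroup.zpow_mem _ hs i
      have h2 : g * t * g⁻¹ ∈ T := hTsc _ hle _ hφ ⟨t, Subgroup.mem_zpowers t⟩
      rw [hg] at h2; exact h2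
    have hs₀2 : orderOf s₀ = 2 :=
      orderOf_eq_prime (by rw [pow_two]; exact hs₀.1) (fun h => hs₀C (h ▸ C.one_mem))
    apply le_antisymm hTS
    intro s hs
    by_cases hsC : s ∈ C
    · have h1 : s₀ * s ∉ C := fun h => hs₀C (by
        have := C.mul_mem h (C.inv_mem hsC)
        simpa using this)
      have h2 : s₀ * s ∈ (S : Subgroup G) := Subgroup.mul_mem _ hs₀S hs
      have h3 := (hC3 _ (hzc _ h2) h1).1
      have h4 : orderOf (s₀ * s) = 2 :=
        orderOf_eq_prime (by rw [pow_two]; exact h3) (fun h => h1 (h ▸ C.one_mem))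
      have h5 := T.mul_mem (T.inv_mem (hinv s₀ hs₀S hs₀2)) (hinv _ h2 h4)
      simpa using h5
    · have h3 := (hC3 _ (hzc _ hs) hsC).1
      exact hinv s hs (orderOf_eq_prime (by rw [pow_two]; exact h3) (fun h => hsC (h ▸ C.one_mem)))
  · apply le_antisymm
    · have hR : (groupFusionSystem (S : Subgroup G)).IsFullyNormalized (S : Subgroup G) ∧
          (groupFusionSystem (S : Subgroup G)).IsRadical 2 (S : Subgroup G) ∧
          (groupFusionSystem (S : Subgroup G)).IsCentric (S : Subgroup G) :=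
        ⟨top_fullyNormalized _, top_radical hSp _ (groupFusionSystem_isSaturated 2 S),
          top_centric _⟩
      refine le_trans ?_ (le_iSup₂_of_le (S : Subgroup G) hR le_rfl)
      intro α hα
      obtain ⟨g, -, hg⟩ := (Helper26.mem_autInducedBy_iff _ _ α).1 hα
      have hgN : g ∈ Subgroup.normalizer ((S : Subgroup G) : Set G) :=
        (mem_normalizerIn_of_aut (S := ⊤) (Subgroup.mem_top g) hg).2
      exact (Helper26.mem_autInducedBy_iff _ _ α).2 ⟨g, Subgroup.subset_closure ⟨hgN, hN g hgN⟩, hg⟩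
    · refine iSup₂_le fun R hR => ?_
      intro α hα
      obtain ⟨g, -, hg⟩ := (Helper26.mem_autInducedBy_iff _ _ α).1 hα
      exact (Helper26.mem_autInducedBy_iff _ _ α).2 ⟨g, Subgroup.mem_top g, hg⟩

end Cfsg.Agent.Helper25
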