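import Mathlib
import Cfsg.Agent.Helper25.Mat1

set_option autoImplicit false
set_option maxRecDepth 1000000

namespace Cfsg.Agent.Helper25
namespace Mat

open Cfsg Cfsg.Agent.Helper28 Cfsg.Agent.Helper28.Golay
open scoped Pointwise

def m11_gens : List (List Nat) :=
   [[0, 1, 2, 3, 12, 5, 9, 10, 16, 6, 7, 22, 4, 18, 14, 19, 8, 17, 13, 15, 21, 20, 11, 23],
    [0, 1, 3, 2, 12, 5, 6, 7, 18, 9, 10, 22, 4, 16, 14, 21, 13, 23, 8, 20, 19, 15, 11, 17],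
    [0, 1, 3, 2, 9, 14, 12, 22, 8, 4, 11, 10, 6, 18, 5, 19, 16, 17, 13, 15, 20, 21, 7, 23],
    [0, 1, 2, 3, 16, 17, 13, 19, 4, 18, 15, 20, 8, 9, 23, 7, 12, 5, 6, 10, 22, 11, 21, 14],
    [0, 1, 2, 3, 8, 17, 18, 15, 12, 13, 19, 21, 16, 6, 23, 10, 4, 5, 9, 7, 11, 22, 20, 14]]

def m11_L : List (List Nat) :=
   [[0, 1, 2, 3, 4, 5, 6, 7, 8, 9, 10, 11, 12, 13, 14, 15, 16, 17, 18, 19, 20, 21, 22, 23],
    [0, 1, 2, 3, 12, 5, 9, 10, 16, 6, 7, 22, 4, 18, 14, 19, 8, 17, 13, 15, 21, 20, 11, 23],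
    [0, 1, 3, 2, 12, 5, 6, 7, 18, 9, 10, 22, 4, 16, 14, 21, 13, 23, 8, 20, 19, 15, 11, 17],
    [0, 1, 3, 2, 9, 14, 12, 22, 8, 4, 11, 10, 6, 18, 5, 19, 16, 17, 13, 15, 20, 21, 7, 23],
    [0, 1, 2, 3, 16, 17, 13, 19, 4, 18, 15, 20, 8, 9, 23, 7, 12, 5, 6, 10, 22, 11, 21, 14],
    [0, 1, 2, 3, 8, 17, 18, 15, 12, 13, 19, 21, 16, 6, 23, 10, 4, 5, 9, 7, 11, 22, 20, 14],
    [0, 1, 3, 2, 4, 5, 9, 10, 13, 6, 7, 11, 12, 8, 14, 20, 18, 23, 16, 21, 15, 19, 22, 17],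
    [0, 1, 3, 2, 6, 14, 4, 11, 16, 12, 22, 7, 9, 13, 5, 15, 8, 17, 18, 19, 21, 20, 10, 23],
    [0, 1, 2, 3, 6, 14, 12, 22, 13, 4, 11, 7, 9, 16, 5, 21, 18, 23, 8, 20, 15, 19, 10, 17],
    [0, 1, 3, 2, 8, 17, 13, 19, 6, 18, 15, 21, 16, 12, 23, 11, 9, 14, 4, 22, 10, 7, 20, 5],
    [0, 1, 3, 2, 16, 17, 18, 15, 9, 13, 19, 20, 8, 4, 23, 22, 6, 14, 12, 11, 7, 10, 21, 5],
    [0, 1, 2, 3, 9, 14, 4, 11, 18, 12, 22, 10, 6, 8, 5, 20, 13, 23, 16, 21, 19, 15, 7, 17],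
    [0, 1, 3, 2, 18, 23, 8, 21, 4, 16, 20, 15, 13, 6, 17, 10, 12, 5, 9, 7, 22, 11, 19, 14],
    [0, 1, 3, 2, 13, 23, 16, 20, 12, 8, 21, 19, 18, 9, 17, 7, 4, 5, 6, 10, 11, 22, 15, 14],
    [0, 1, 2, 3, 13, 23, 8, 21, 9, 16, 20, 19, 18, 12, 17, 11, 6, 14, 4, 22, 7, 10, 15, 5],
    [0, 1, 2, 3, 18, 23, 16, 20, 6, 8, 21, 15, 13, 4, 17, 22, 9, 14, 12, 11, 10, 7, 19, 5]]

def m11_words : List (List Nat) :=
   [[],
    [0],
    [1],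
    [2],
    [3],
    [4],
    [1, 0],
    [2, 0],
    [2, 1],
    [3, 1],
    [4, 1],
    [1, 2],
    [3, 2],
    [4, 2],
    [3, 2, 1],
    [4, 2, 1]]

def m11_CL : List (List Nat) :=
   [[0, 1, 6, 9, 4, 14, 3, 17, 16, 2, 23, 22, 12, 18, 5, 19, 13, 10, 8, 20, 21, 15, 11, 7],
    [0, 16, 8, 1, 3, 21, 6, 15, 9, 12, 19, 22, 2, 13, 17, 11, 4, 23, 18, 10, 14, 5, 7, 20],
    [0, 2, 3, 1, 18, 5, 9, 20, 12, 6, 21, 22, 13, 16, 17, 10, 4, 23, 8, 7, 15, 19, 11, 14]]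

def m11_D : List (List Nat) :=
   [[0, 1, 3, 2, 12, 5, 6, 7, 18, 9, 10, 22, 4, 16, 14, 21, 13, 23, 8, 20, 19, 15, 11, 17],
    [0, 1, 3, 2, 9, 14, 12, 22, 8, 4, 11, 10, 6, 18, 5, 19, 16, 17, 13, 15, 20, 21, 7, 23],
    [0, 1, 2, 3, 9, 14, 4, 11, 18, 12, 22, 10, 6, 8, 5, 20, 13, 23, 16, 21, 19, 15, 7, 17],
    [0, 1, 2, 3, 16, 17, 13, 19, 4, 18, 15, 20, 8, 9, 23, 7, 12, 5, 6, 10, 22, 11, 21, 14],
    [0, 1, 2, 3, 8, 17, 18, 15, 12, 13, 19, 21, 16, 6, 23, 10, 4, 5, 9, 7, 11, 22, 20, 14]]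

def m11_Tz : List Nat := [0, 1, 2, 3, 12, 5, 9, 10, 16, 6, 7, 22, 4, 18, 14, 19, 8, 17, 13, 15, 21, 20, 11, 23]

theorem m11_h1 : (m11_L.all (inGS [340831] [0])) = true := by decide +kernel

theorem m11_h2 : (m11_gens.all (fun G => tmem G m11_L)) = true := by decide +kernel

theorem m11_h3 : tmem idT m11_L = true := by decide +kernel

theorem m11_h4 : closedOK m11_gens m11_L = true := by decide +kernel

theorem m11_h5 : invOK m11_gens = true := by decide +kernel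

theorem m11_h6 : wordsOK m11_gens m11_L m11_words = true := by decide +kernel

theorem m11_h7 : pow8OK m11_L = true := by decide +kernel

theorem m11_h8 : centOK m11_gens m11_L m11_Tz = true := by decide +kernel

theorem m11_h9 : (m11_CL.all (inGS [340831] [0])) = true := by decide +kernel

theorem m11_h10 : derivOK m11_CL m11_L [m11_Tz] m11_D = true := by decide +kernel

theorem m11_h11 : (m11_gens.all (fun G => tmem G (m11_D ++ [m11_Tz]))) = true := by decide +kernel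

theorem m11_h12 : tmem m11_Tz m11_L = true := by decide +kernel

theorem m11_h13 : movesOK m11_Tz = true := by decide +kernel

theorem m11_h14 : chainOK [340831] m11_L [0] [1, 2, 3, 4] = true := by decide +kernel

theorem m11_h15 : GS [340831] ([1, 2, 3, 4].reverse ++ [0]) = ⊥ := by
  exact triv12

theorem m11_data : ∃ P : Sylow 2 ↥(GS [340831] [0]), SimpleData 2 (P : Subgroup ↥(GS [340831] [0])) :=
  mathieu_simpleData [340831] [0] (by decide) m11_gens m11_L m11_words m11_CL m11_D m11_Tz [1, 2, 3, 4]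
    m11_h1 m11_h2 m11_h3 m11_h4 m11_h5 m11_h6 m11_h7 m11_h8 m11_h9 m11_h10 m11_h11 m11_h12 m11_h13 m11_h14 m11_h15

end Mat
end Cfsg.Agent.Helper25
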