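import Mathlib
import Cfsg.Agent.Helper25.Mat1

set_option autoImplicit false
set_option maxRecDepth 1000000

namespace Cfsg.Agent.Helper25
namespace Mat

open Cfsg Cfsg.Agent.Helper28 Cfsg.Agent.Helper28.Golay
open scoped Pointwise

def m12_gens : List (List Nat) :=
   [[0, 1, 2, 3, 12, 5, 9, 10, 16, 6, 7, 22, 4, 18, 14, 19, 8, 17, 13, 15, 21, 20, 11, 23],
    [0, 1, 3, 2, 12, 5, 6, 7, 18, 9, 10, 22, 4, 16, 14, 21, 13, 23, 8, 20, 19, 15, 11, 17],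
    [2, 3, 0, 1, 4, 17, 9, 7, 8, 6, 10, 22, 12, 18, 23, 15, 16, 5, 13, 19, 21, 20, 11, 14],
    [1, 0, 2, 3, 9, 5, 12, 22, 16, 4, 11, 10, 6, 13, 14, 15, 8, 23, 18, 19, 21, 20, 7, 17],
    [3, 2, 1, 0, 13, 5, 16, 21, 6, 8, 20, 15, 18, 12, 14, 22, 9, 17, 4, 11, 7, 10, 19, 23],
    [3, 2, 1, 0, 18, 5, 8, 20, 9, 16, 21, 19, 13, 4, 14, 11, 6, 17, 12, 22, 10, 7, 15, 23]]

def m12_L : List (List Nat) :=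
   [[0, 1, 2, 3, 4, 5, 6, 7, 8, 9, 10, 11, 12, 13, 14, 15, 16, 17, 18, 19, 20, 21, 22, 23],
    [0, 1, 2, 3, 12, 5, 9, 10, 16, 6, 7, 22, 4, 18, 14, 19, 8, 17, 13, 15, 21, 20, 11, 23],
    [0, 1, 3, 2, 12, 5, 6, 7, 18, 9, 10, 22, 4, 16, 14, 21, 13, 23, 8, 20, 19, 15, 11, 17],
    [2, 3, 0, 1, 4, 17, 9, 7, 8, 6, 10, 22, 12, 18, 23, 15, 16, 5, 13, 19, 21, 20, 11, 14],
    [1, 0, 2, 3, 9, 5, 12, 22, 16, 4, 11, 10, 6, 13, 14, 15, 8, 23, 18, 19, 21, 20, 7, 17],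
    [3, 2, 1, 0, 13, 5, 16, 21, 6, 8, 20, 15, 18, 12, 14, 22, 9, 17, 4, 11, 7, 10, 19, 23],
    [3, 2, 1, 0, 18, 5, 8, 20, 9, 16, 21, 19, 13, 4, 14, 11, 6, 17, 12, 22, 10, 7, 15, 23],
    [0, 1, 3, 2, 4, 5, 9, 10, 13, 6, 7, 11, 12, 8, 14, 20, 18, 23, 16, 21, 15, 19, 22, 17],
    [2, 3, 0, 1, 12, 17, 6, 10, 16, 9, 7, 11, 4, 13, 23, 19, 8, 5, 18, 15, 20, 21, 22, 14],
    [1, 0, 2, 3, 6, 5, 4, 11, 8, 12, 22, 7, 9, 18, 14, 19, 16, 23, 13, 15, 20, 21, 10, 17],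
    [2, 3, 1, 0, 12, 17, 9, 7, 13, 6, 10, 11, 4, 16, 23, 20, 18, 14, 8, 21, 19, 15, 22, 5],
    [1, 0, 3, 2, 6, 5, 12, 22, 18, 4, 11, 7, 9, 8, 14, 20, 13, 17, 16, 21, 19, 15, 10, 23],
    [3, 2, 0, 1, 18, 5, 16, 21, 4, 8, 20, 19, 13, 9, 14, 10, 12, 23, 6, 7, 11, 22, 15, 17],
    [3, 2, 0, 1, 13, 5, 8, 20, 12, 16, 21, 15, 18, 6, 14, 7, 4, 23, 9, 10, 22, 11, 19, 17],
    [3, 2, 0, 1, 12, 23, 9, 7, 18, 6, 10, 11, 4, 8, 17, 21, 13, 5, 16, 20, 15, 19, 22, 14],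
    [2, 3, 1, 0, 9, 23, 4, 22, 16, 12, 11, 7, 6, 18, 17, 15, 8, 5, 13, 19, 20, 21, 10, 14],
    [1, 0, 3, 2, 13, 17, 8, 21, 6, 16, 20, 19, 18, 4, 23, 22, 9, 5, 12, 11, 10, 7, 15, 14],
    [1, 0, 3, 2, 18, 17, 16, 20, 9, 8, 21, 15, 13, 12, 23, 11, 6, 5, 4, 22, 7, 10, 19, 14],
    [1, 0, 3, 2, 9, 5, 4, 11, 13, 12, 22, 10, 6, 16, 14, 21, 18, 17, 8, 20, 15, 19, 7, 23],
    [3, 2, 0, 1, 6, 17, 12, 11, 16, 4, 22, 10, 9, 18, 23, 15, 8, 14, 13, 19, 20, 21, 7, 5],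
    [2, 3, 1, 0, 8, 5, 18, 19, 9, 13, 15, 20, 16, 12, 14, 22, 6, 23, 4, 11, 10, 7, 21, 17],
    [2, 3, 1, 0, 16, 5, 13, 15, 6, 18, 19, 21, 8, 4, 14, 11, 9, 23, 12, 22, 7, 10, 20, 17],
    [2, 3, 1, 0, 4, 17, 6, 10, 18, 9, 7, 22, 12, 8, 23, 21, 13, 14, 16, 20, 15, 19, 11, 5],
    [3, 2, 0, 1, 4, 23, 6, 10, 13, 9, 7, 22, 12, 16, 17, 20, 18, 5, 8, 21, 19, 15, 11, 14],
    [2, 3, 1, 0, 6, 23, 12, 11, 8, 4, 22, 10, 9, 13, 17, 19, 16, 5, 18, 15, 21, 20, 7, 14],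
    [3, 2, 0, 1, 9, 17, 4, 22, 8, 12, 11, 7, 6, 13, 23, 19, 16, 14, 18, 15, 21, 20, 10, 5],
    [3, 2, 1, 0, 4, 23, 9, 7, 16, 6, 10, 22, 12, 13, 17, 19, 8, 14, 18, 15, 20, 21, 11, 5],
    [2, 3, 0, 1, 6, 23, 4, 22, 13, 12, 11, 10, 9, 8, 17, 21, 18, 14, 16, 20, 19, 15, 7, 5],
    [1, 0, 2, 3, 18, 17, 8, 21, 12, 16, 20, 15, 13, 9, 23, 7, 4, 14, 6, 10, 11, 22, 19, 5],
    [1, 0, 2, 3, 13, 17, 16, 20, 4, 8, 21, 19, 18, 6, 23, 10, 12, 14, 9, 7, 22, 11, 15, 5],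
    [3, 2, 1, 0, 9, 17, 12, 11, 13, 4, 22, 7, 6, 8, 23, 21, 18, 5, 16, 20, 19, 15, 10, 14],
    [2, 3, 0, 1, 16, 5, 18, 19, 4, 13, 15, 21, 8, 6, 14, 7, 12, 17, 9, 10, 11, 22, 20, 23],
    [2, 3, 0, 1, 8, 5, 13, 15, 12, 18, 19, 20, 16, 9, 14, 10, 4, 17, 6, 7, 22, 11, 21, 23],
    [1, 0, 2, 3, 12, 14, 6, 7, 13, 9, 10, 22, 4, 8, 5, 20, 18, 17, 16, 21, 15, 19, 11, 23],
    [3, 2, 1, 0, 6, 17, 4, 22, 18, 12, 11, 10, 9, 16, 23, 20, 13, 5, 8, 21, 15, 19, 7, 14],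
    [0, 1, 3, 2, 18, 23, 8, 21, 4, 16, 20, 15, 13, 6, 17, 10, 12, 5, 9, 7, 22, 11, 19, 14],
    [0, 1, 3, 2, 13, 23, 16, 20, 12, 8, 21, 19, 18, 9, 17, 7, 4, 5, 6, 10, 11, 22, 15, 14],
    [0, 1, 3, 2, 6, 14, 4, 11, 16, 12, 22, 7, 9, 13, 5, 15, 8, 17, 18, 19, 21, 20, 10, 23],
    [1, 0, 2, 3, 8, 23, 13, 19, 9, 18, 15, 21, 16, 4, 17, 22, 6, 5, 12, 11, 7, 10, 20, 14],
    [1, 0, 2, 3, 16, 23, 18, 15, 6, 13, 19, 20, 8, 12, 17, 11, 9, 5, 4, 22, 10, 7, 21, 14],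
    [3, 2, 1, 0, 12, 23, 6, 10, 8, 9, 7, 11, 4, 18, 17, 15, 16, 14, 13, 19, 21, 20, 22, 5],
    [0, 1, 3, 2, 16, 17, 18, 15, 9, 13, 19, 20, 8, 4, 23, 22, 6, 14, 12, 11, 7, 10, 21, 5],
    [0, 1, 3, 2, 8, 17, 13, 19, 6, 18, 15, 21, 16, 12, 23, 11, 9, 14, 4, 22, 10, 7, 20, 5],
    [2, 3, 0, 1, 9, 23, 12, 11, 18, 4, 22, 7, 6, 16, 17, 20, 13, 14, 8, 21, 15, 19, 10, 5],
    [1, 0, 2, 3, 4, 14, 9, 10, 18, 6, 7, 11, 12, 16, 5, 21, 13, 17, 8, 20, 19, 15, 22, 23],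
    [0, 1, 3, 2, 9, 14, 12, 22, 8, 4, 11, 10, 6, 18, 5, 19, 16, 17, 13, 15, 20, 21, 7, 23],
    [1, 0, 3, 2, 4, 14, 6, 7, 16, 9, 10, 11, 12, 18, 5, 19, 8, 23, 13, 15, 21, 20, 22, 17],
    [0, 1, 2, 3, 13, 23, 8, 21, 9, 16, 20, 19, 18, 12, 17, 11, 6, 14, 4, 22, 7, 10, 15, 5],
    [0, 1, 2, 3, 18, 23, 16, 20, 6, 8, 21, 15, 13, 4, 17, 22, 9, 14, 12, 11, 10, 7, 19, 5],
    [0, 1, 2, 3, 9, 14, 4, 11, 18, 12, 22, 10, 6, 8, 5, 20, 13, 23, 16, 21, 19, 15, 7, 17],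
    [1, 0, 3, 2, 16, 23, 13, 19, 12, 18, 15, 20, 8, 6, 17, 10, 4, 14, 9, 7, 11, 22, 21, 5],
    [1, 0, 3, 2, 8, 23, 18, 15, 4, 13, 19, 21, 16, 9, 17, 7, 12, 14, 6, 10, 22, 11, 20, 5],
    [0, 1, 2, 3, 8, 17, 18, 15, 12, 13, 19, 21, 16, 6, 23, 10, 4, 5, 9, 7, 11, 22, 20, 14],
    [0, 1, 2, 3, 16, 17, 13, 19, 4, 18, 15, 20, 8, 9, 23, 7, 12, 5, 6, 10, 22, 11, 21, 14],
    [0, 1, 2, 3, 6, 14, 12, 22, 13, 4, 11, 7, 9, 16, 5, 21, 18, 23, 8, 20, 15, 19, 10, 17],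
    [2, 3, 1, 0, 18, 14, 16, 21, 12, 8, 20, 19, 13, 6, 5, 7, 4, 17, 9, 10, 22, 11, 15, 23],
    [2, 3, 1, 0, 13, 14, 8, 20, 4, 16, 21, 15, 18, 9, 5, 10, 12, 17, 6, 7, 11, 22, 19, 23],
    [1, 0, 3, 2, 12, 14, 9, 10, 8, 6, 7, 22, 4, 13, 5, 15, 16, 23, 18, 19, 20, 21, 11, 17],
    [3, 2, 0, 1, 16, 14, 13, 15, 9, 18, 19, 21, 8, 12, 5, 22, 6, 17, 4, 11, 10, 7, 20, 23],
    [3, 2, 0, 1, 8, 14, 18, 19, 6, 13, 15, 20, 16, 4, 5, 11, 9, 17, 12, 22, 7, 10, 21, 23],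
    [2, 3, 0, 1, 13, 14, 16, 21, 9, 8, 20, 15, 18, 4, 5, 11, 6, 23, 12, 22, 10, 7, 19, 17],
    [2, 3, 0, 1, 18, 14, 8, 20, 6, 16, 21, 19, 13, 12, 5, 22, 9, 23, 4, 11, 7, 10, 15, 17],
    [3, 2, 1, 0, 8, 14, 13, 15, 4, 18, 19, 20, 16, 6, 5, 7, 12, 23, 9, 10, 11, 22, 21, 17],
    [3, 2, 1, 0, 16, 14, 18, 19, 12, 13, 15, 21, 8, 9, 5, 10, 4, 23, 6, 7, 22, 11, 20, 17]]

def m12_words : List (List Nat) :=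
   [[],
    [0],
    [1],
    [2],
    [3],
    [4],
    [5],
    [1, 0],
    [2, 0],
    [3, 0],
    [2, 1],
    [3, 1],
    [4, 1],
    [5, 1],
    [1, 2],
    [3, 2],
    [4, 2],
    [5, 2],
    [1, 3],
    [2, 3],
    [4, 3],
    [5, 3],
    [2, 1, 0],
    [1, 2, 0],
    [3, 2, 0],
    [2, 3, 0],
    [1, 2, 1],
    [3, 2, 1],
    [4, 2, 1],
    [5, 2, 1],
    [2, 3, 1],
    [4, 3, 1],
    [5, 3, 1],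
    [2, 1, 2],
    [3, 1, 2],
    [4, 1, 2],
    [5, 1, 2],
    [2, 3, 2],
    [4, 3, 2],
    [5, 3, 2],
    [3, 2, 3],
    [4, 2, 3],
    [5, 2, 3],
    [3, 2, 1, 0],
    [2, 1, 2, 0],
    [2, 3, 2, 0],
    [2, 1, 2, 1],
    [4, 1, 2, 1],
    [5, 1, 2, 1],
    [2, 3, 2, 1],
    [4, 3, 2, 1],
    [5, 3, 2, 1],
    [4, 2, 3, 1],
    [5, 2, 3, 1],
    [3, 2, 1, 2],
    [4, 2, 1, 2],
    [5, 2, 1, 2],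
    [3, 2, 3, 2],
    [4, 2, 3, 2],
    [5, 2, 3, 2],
    [4, 2, 1, 2, 1],
    [5, 2, 1, 2, 1],
    [4, 2, 3, 2, 1],
    [5, 2, 3, 2, 1]]

def m12_CL : List (List Nat) :=
   [[6, 1, 0, 9, 12, 14, 8, 17, 16, 18, 23, 21, 4, 2, 7, 20, 13, 10, 3, 19, 22, 11, 15, 5],
    [16, 8, 3, 1, 2, 10, 12, 15, 9, 4, 19, 14, 0, 18, 7, 21, 13, 5, 6, 22, 11, 20, 23, 17],
    [13, 18, 3, 2, 6, 5, 4, 11, 8, 9, 10, 7, 12, 0, 14, 23, 16, 19, 1, 17, 21, 20, 22, 15],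
    [9, 6, 8, 16, 2, 15, 0, 23, 12, 3, 5, 14, 1, 18, 19, 21, 4, 22, 13, 20, 10, 7, 17, 11]]

def m12_D : List (List Nat) :=
   [[0, 1, 3, 2, 12, 5, 6, 7, 18, 9, 10, 22, 4, 16, 14, 21, 13, 23, 8, 20, 19, 15, 11, 17],
    [2, 3, 0, 1, 4, 17, 9, 7, 8, 6, 10, 22, 12, 18, 23, 15, 16, 5, 13, 19, 21, 20, 11, 14],
    [1, 0, 2, 3, 9, 5, 12, 22, 16, 4, 11, 10, 6, 13, 14, 15, 8, 23, 18, 19, 21, 20, 7, 17],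
    [2, 3, 1, 0, 12, 17, 9, 7, 13, 6, 10, 11, 4, 16, 23, 20, 18, 14, 8, 21, 19, 15, 22, 5],
    [3, 2, 1, 0, 13, 5, 16, 21, 6, 8, 20, 15, 18, 12, 14, 22, 9, 17, 4, 11, 7, 10, 19, 23],
    [3, 2, 1, 0, 18, 5, 8, 20, 9, 16, 21, 19, 13, 4, 14, 11, 6, 17, 12, 22, 10, 7, 15, 23]]

def m12_Tz : List Nat := [0, 1, 2, 3, 12, 5, 9, 10, 16, 6, 7, 22, 4, 18, 14, 19, 8, 17, 13, 15, 21, 20, 11, 23]

theorem m12_h1 : (m12_L.all (inGS [340831] [])) = true := by decide +kernel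

theorem m12_h2 : (m12_gens.all (fun G => tmem G m12_L)) = true := by decide +kernel

theorem m12_h3 : tmem idT m12_L = true := by decide +kernel

theorem m12_h4 : closedOK m12_gens m12_L = true := by decide +kernel

theorem m12_h5 : invOK m12_gens = true := by decide +kernel

theorem m12_h6 : wordsOK m12_gens m12_L m12_words = true := by decide +kernel

theorem m12_h7 : pow8OK m12_L = true := by decide +kernel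

theorem m12_h8 : centOK m12_gens m12_L m12_Tz = true := by decide +kernel

theorem m12_h9 : (m12_CL.all (inGS [340831] [])) = true := by decide +kernel

theorem m12_h10 : derivOK m12_CL m12_L [m12_Tz] m12_D = true := by decide +kernel

theorem m12_h11 : (m12_gens.all (fun G => tmem G (m12_D ++ [m12_Tz]))) = true := by decide +kernel

theorem m12_h12 : tmem m12_Tz m12_L = true := by decide +kernel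

theorem m12_h13 : movesOK m12_Tz = true := by decide +kernel

theorem m12_h14 : chainOK [340831] m12_L [] [0, 1, 2, 3, 4] = true := by decide +kernel

theorem m12_h15 : GS [340831] ([0, 1, 2, 3, 4].reverse ++ []) = ⊥ := by
  exact triv12

theorem m12_data : ∃ P : Sylow 2 ↥(GS [340831] []), SimpleData 2 (P : Subgroup ↥(GS [340831] [])) :=
  mathieu_simpleData [340831] [] (by decide) m12_gens m12_L m12_words m12_CL m12_D m12_Tz [0, 1, 2, 3, 4]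
    m12_h1 m12_h2 m12_h3 m12_h4 m12_h5 m12_h6 m12_h7 m12_h8 m12_h9 m12_h10 m12_h11 m12_h12 m12_h13 m12_h14 m12_h15

end Mat
end Cfsg.Agent.Helper25
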