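import Mathlib
import Cfsg.Agent.Helper25.Mat1

set_option autoImplicit false
set_option maxRecDepth 1000000

namespace Cfsg.Agent.Helper25
namespace Mat

open Cfsg Cfsg.Agent.Helper28 Cfsg.Agent.Helper28.Golay
open scoped Pointwise

def m23_gens : List (List Nat) :=
   [[0, 20, 9, 16, 17, 5, 18, 12, 11, 2, 10, 8, 7, 13, 14, 15, 3, 4, 6, 21, 1, 19, 22, 23],
    [0, 7, 6, 3, 17, 22, 2, 1, 11, 18, 15, 8, 20, 13, 14, 10, 16, 4, 9, 19, 12, 21, 5, 23],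
    [0, 21, 8, 12, 18, 5, 17, 16, 2, 11, 10, 9, 3, 13, 14, 15, 7, 6, 4, 20, 19, 1, 22, 23],
    [0, 1, 18, 21, 17, 10, 9, 7, 11, 6, 5, 8, 12, 13, 14, 22, 19, 4, 2, 16, 20, 3, 15, 23],
    [0, 16, 4, 2, 20, 22, 8, 19, 7, 17, 10, 12, 21, 14, 13, 15, 9, 1, 11, 6, 3, 18, 5, 23],
    [0, 17, 3, 20, 2, 22, 19, 8, 6, 16, 10, 18, 11, 14, 13, 15, 1, 9, 21, 7, 4, 12, 5, 23]]

def m23_L : List (List Nat) :=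
   [[0, 1, 2, 3, 4, 5, 6, 7, 8, 9, 10, 11, 12, 13, 14, 15, 16, 17, 18, 19, 20, 21, 22, 23],
    [0, 20, 9, 16, 17, 5, 18, 12, 11, 2, 10, 8, 7, 13, 14, 15, 3, 4, 6, 21, 1, 19, 22, 23],
    [0, 7, 6, 3, 17, 22, 2, 1, 11, 18, 15, 8, 20, 13, 14, 10, 16, 4, 9, 19, 12, 21, 5, 23],
    [0, 21, 8, 12, 18, 5, 17, 16, 2, 11, 10, 9, 3, 13, 14, 15, 7, 6, 4, 20, 19, 1, 22, 23],
    [0, 1, 18, 21, 17, 10, 9, 7, 11, 6, 5, 8, 12, 13, 14, 22, 19, 4, 2, 16, 20, 3, 15, 23],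
    [0, 16, 4, 2, 20, 22, 8, 19, 7, 17, 10, 12, 21, 14, 13, 15, 9, 1, 11, 6, 3, 18, 5, 23],
    [0, 17, 3, 20, 2, 22, 19, 8, 6, 16, 10, 18, 11, 14, 13, 15, 1, 9, 21, 7, 4, 12, 5, 23],
    [0, 12, 18, 16, 4, 22, 9, 20, 8, 6, 15, 11, 1, 13, 14, 10, 3, 17, 2, 21, 7, 19, 5, 23],
    [0, 19, 11, 7, 6, 5, 4, 3, 9, 8, 10, 2, 16, 13, 14, 15, 12, 18, 17, 1, 21, 20, 22, 23],
    [0, 20, 6, 19, 4, 10, 2, 12, 8, 18, 5, 11, 7, 13, 14, 22, 21, 17, 9, 3, 1, 16, 15, 23],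
    [0, 3, 17, 9, 1, 22, 11, 21, 12, 4, 10, 7, 19, 14, 13, 15, 2, 20, 8, 18, 16, 6, 5, 23],
    [0, 4, 16, 1, 9, 22, 21, 11, 18, 3, 10, 6, 8, 14, 13, 15, 20, 2, 19, 12, 17, 7, 5, 23],
    [0, 16, 17, 12, 6, 22, 8, 21, 9, 4, 15, 2, 19, 13, 14, 10, 7, 18, 11, 20, 3, 1, 5, 23],
    [0, 7, 9, 21, 4, 15, 18, 1, 8, 2, 22, 11, 20, 13, 14, 5, 19, 17, 6, 16, 12, 3, 10, 23],
    [0, 19, 8, 2, 1, 5, 4, 16, 12, 11, 15, 7, 3, 14, 13, 10, 9, 20, 17, 6, 21, 18, 22, 23],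
    [0, 8, 19, 20, 9, 5, 3, 17, 18, 21, 15, 6, 4, 14, 13, 10, 1, 2, 16, 7, 11, 12, 22, 23],
    [0, 21, 11, 20, 9, 22, 4, 16, 6, 8, 15, 18, 3, 13, 14, 10, 1, 2, 17, 12, 19, 7, 5, 23],
    [0, 3, 11, 12, 2, 10, 4, 19, 18, 8, 5, 6, 21, 13, 14, 22, 7, 9, 17, 20, 16, 1, 15, 23],
    [0, 18, 7, 21, 11, 22, 1, 9, 4, 12, 10, 17, 2, 14, 13, 15, 19, 8, 20, 3, 6, 16, 5, 23],
    [0, 12, 6, 11, 21, 22, 9, 1, 3, 18, 10, 16, 20, 14, 13, 15, 8, 19, 2, 4, 7, 17, 5, 23],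
    [0, 21, 4, 1, 6, 10, 11, 16, 9, 17, 5, 2, 3, 13, 14, 22, 20, 18, 8, 7, 19, 12, 15, 23],
    [0, 16, 11, 18, 1, 10, 17, 19, 12, 8, 22, 7, 21, 14, 13, 5, 6, 20, 4, 9, 3, 2, 15, 23],
    [0, 17, 21, 12, 9, 10, 16, 8, 18, 19, 22, 6, 11, 14, 13, 5, 7, 2, 3, 1, 4, 20, 15, 23],
    [0, 16, 17, 6, 12, 5, 11, 19, 1, 4, 15, 20, 21, 14, 13, 10, 18, 7, 8, 2, 3, 9, 22, 23],
    [0, 7, 18, 8, 19, 22, 2, 20, 16, 6, 10, 3, 1, 14, 13, 15, 11, 21, 9, 17, 12, 4, 5, 23],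
    [0, 19, 17, 18, 20, 15, 11, 16, 7, 4, 5, 12, 3, 14, 13, 22, 6, 1, 8, 9, 21, 2, 10, 23],
    [0, 9, 20, 4, 3, 5, 7, 6, 19, 1, 10, 21, 18, 13, 14, 15, 17, 16, 12, 8, 2, 11, 22, 23],
    [0, 4, 3, 12, 6, 5, 19, 11, 2, 16, 15, 9, 8, 14, 13, 10, 7, 18, 21, 1, 17, 20, 22, 23],
    [0, 6, 12, 19, 8, 22, 20, 2, 17, 7, 10, 4, 9, 14, 13, 15, 21, 11, 1, 16, 18, 3, 5, 23],
    [0, 4, 21, 20, 18, 15, 16, 11, 9, 19, 5, 2, 8, 14, 13, 22, 1, 6, 3, 7, 17, 12, 10, 23],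
    [0, 3, 4, 7, 18, 22, 11, 19, 2, 17, 15, 9, 21, 13, 14, 10, 12, 6, 8, 1, 16, 20, 5, 23],
    [0, 12, 2, 19, 17, 15, 6, 20, 11, 9, 22, 8, 1, 13, 14, 5, 21, 4, 18, 3, 7, 16, 10, 23],
    [0, 21, 11, 9, 20, 5, 17, 3, 7, 8, 15, 12, 16, 14, 13, 10, 2, 1, 4, 18, 19, 6, 22, 23],
    [0, 11, 21, 1, 2, 5, 16, 4, 6, 19, 15, 18, 17, 14, 13, 10, 20, 9, 3, 12, 8, 7, 22, 23],
    [0, 19, 8, 1, 2, 22, 17, 3, 18, 11, 15, 6, 16, 13, 14, 10, 20, 9, 4, 7, 21, 12, 5, 23],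
    [0, 16, 8, 7, 9, 10, 17, 21, 6, 11, 5, 18, 19, 13, 14, 22, 12, 2, 4, 1, 3, 20, 15, 23],
    [0, 19, 17, 20, 18, 10, 8, 3, 2, 4, 5, 9, 16, 13, 14, 22, 1, 6, 11, 12, 21, 7, 15, 23],
    [0, 3, 8, 6, 20, 10, 4, 21, 7, 11, 22, 12, 19, 14, 13, 5, 18, 1, 17, 2, 16, 9, 15, 23],
    [0, 4, 19, 7, 2, 10, 3, 11, 6, 21, 22, 18, 8, 14, 13, 5, 12, 9, 16, 20, 17, 1, 15, 23],
    [0, 3, 4, 18, 7, 5, 8, 21, 20, 17, 15, 1, 19, 14, 13, 10, 6, 12, 11, 9, 16, 2, 22, 23],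
    [0, 21, 4, 6, 1, 15, 8, 3, 12, 17, 5, 7, 16, 14, 13, 22, 18, 20, 11, 2, 19, 9, 10, 23],
    [0, 2, 1, 17, 16, 5, 12, 18, 21, 20, 10, 19, 6, 13, 14, 15, 4, 3, 7, 11, 9, 8, 22, 23],
    [0, 17, 16, 7, 18, 5, 21, 8, 9, 3, 15, 2, 11, 14, 13, 10, 12, 6, 19, 20, 4, 1, 22, 23],
    [0, 17, 19, 1, 6, 15, 3, 8, 2, 21, 5, 9, 11, 14, 13, 22, 20, 18, 16, 12, 4, 7, 10, 23],
    [0, 16, 4, 20, 2, 5, 11, 21, 18, 17, 10, 6, 19, 13, 14, 15, 1, 9, 8, 12, 3, 7, 22, 23],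
    [0, 19, 4, 12, 9, 15, 11, 3, 6, 17, 22, 18, 16, 13, 14, 5, 7, 2, 8, 20, 21, 1, 10, 23],
    [0, 9, 1, 21, 8, 5, 7, 18, 17, 20, 15, 4, 6, 14, 13, 10, 19, 11, 12, 3, 2, 16, 22, 23],
    [0, 1, 9, 11, 19, 5, 6, 12, 16, 2, 15, 3, 7, 14, 13, 10, 8, 21, 18, 4, 20, 17, 22, 23],
    [0, 16, 11, 1, 18, 15, 4, 21, 2, 8, 22, 9, 19, 13, 14, 5, 20, 6, 17, 7, 3, 12, 10, 23],
    [0, 8, 16, 12, 2, 15, 21, 17, 6, 3, 5, 18, 4, 14, 13, 22, 7, 9, 19, 1, 11, 20, 10, 23],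
    [0, 19, 11, 6, 7, 22, 17, 16, 20, 8, 10, 1, 3, 14, 13, 15, 18, 12, 4, 2, 21, 9, 5, 23],
    [0, 20, 2, 8, 21, 5, 18, 7, 3, 9, 15, 16, 12, 14, 13, 10, 11, 19, 6, 17, 1, 4, 22, 23],
    [0, 6, 7, 4, 16, 22, 20, 9, 21, 12, 15, 19, 2, 13, 14, 10, 17, 3, 1, 8, 18, 11, 5, 23],
    [0, 11, 19, 12, 18, 22, 3, 4, 9, 21, 10, 2, 17, 14, 13, 15, 7, 6, 16, 1, 8, 20, 5, 23],
    [0, 2, 20, 19, 11, 5, 12, 6, 4, 1, 15, 17, 18, 14, 13, 10, 21, 8, 7, 16, 9, 3, 22, 23],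
    [0, 11, 16, 20, 6, 10, 21, 4, 2, 3, 22, 9, 17, 14, 13, 5, 1, 18, 19, 7, 8, 12, 15, 23],
    [0, 1, 9, 19, 11, 22, 18, 7, 17, 2, 15, 4, 12, 13, 14, 10, 21, 8, 6, 3, 20, 16, 5, 23],
    [0, 3, 8, 20, 6, 15, 17, 19, 9, 11, 22, 2, 21, 13, 14, 5, 1, 18, 4, 12, 16, 7, 10, 23],
    [0, 18, 12, 3, 17, 5, 20, 9, 8, 7, 15, 11, 2, 14, 13, 10, 16, 4, 1, 21, 6, 19, 22, 23],
    [0, 12, 18, 4, 16, 5, 2, 1, 19, 6, 15, 21, 20, 14, 13, 10, 17, 3, 9, 11, 7, 8, 22, 23],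
    [0, 12, 9, 3, 8, 10, 18, 20, 4, 2, 5, 17, 1, 13, 14, 22, 16, 11, 6, 19, 7, 21, 15, 23],
    [0, 2, 12, 21, 4, 10, 20, 6, 11, 7, 22, 8, 18, 14, 13, 5, 19, 17, 1, 3, 9, 16, 15, 23],
    [0, 20, 18, 11, 3, 10, 2, 7, 21, 6, 22, 19, 12, 14, 13, 5, 8, 16, 9, 4, 1, 17, 15, 23],
    [0, 2, 7, 3, 8, 15, 1, 6, 17, 12, 5, 4, 18, 14, 13, 22, 16, 11, 20, 21, 9, 19, 10, 23],
    [0, 11, 19, 18, 12, 5, 16, 17, 20, 21, 10, 1, 4, 13, 14, 15, 6, 7, 3, 2, 8, 9, 22, 23],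
    [0, 12, 9, 8, 3, 15, 6, 1, 21, 2, 5, 19, 20, 14, 13, 22, 11, 16, 18, 17, 7, 4, 10, 23],
    [0, 21, 17, 7, 2, 15, 8, 16, 18, 4, 22, 6, 3, 13, 14, 5, 12, 9, 11, 1, 19, 20, 10, 23],
    [0, 3, 17, 1, 9, 5, 8, 19, 6, 4, 10, 18, 21, 13, 14, 15, 20, 2, 11, 7, 16, 12, 22, 23],
    [0, 18, 20, 16, 8, 10, 12, 9, 17, 1, 22, 4, 2, 14, 13, 5, 3, 11, 7, 19, 6, 21, 15, 23],
    [0, 12, 2, 17, 19, 10, 18, 1, 16, 9, 22, 3, 20, 14, 13, 5, 4, 21, 6, 8, 7, 11, 15, 23],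
    [0, 16, 8, 9, 7, 15, 4, 19, 20, 11, 5, 1, 21, 14, 13, 22, 2, 12, 17, 18, 3, 6, 10, 23],
    [0, 7, 9, 4, 21, 10, 6, 20, 3, 2, 22, 16, 1, 14, 13, 5, 17, 19, 18, 11, 12, 8, 15, 23],
    [0, 9, 12, 11, 16, 10, 1, 6, 21, 7, 5, 19, 18, 13, 14, 22, 8, 3, 20, 17, 2, 4, 15, 23],
    [0, 6, 1, 3, 11, 10, 7, 2, 4, 20, 22, 17, 9, 14, 13, 5, 16, 8, 12, 21, 18, 19, 15, 23],
    [0, 7, 6, 17, 3, 5, 9, 20, 21, 18, 15, 19, 1, 14, 13, 10, 4, 16, 2, 8, 12, 11, 22, 23],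
    [0, 19, 4, 9, 12, 10, 8, 16, 1, 17, 22, 20, 3, 14, 13, 5, 2, 7, 11, 18, 21, 6, 15, 23],
    [0, 9, 1, 8, 21, 22, 12, 6, 16, 20, 15, 3, 18, 13, 14, 10, 11, 19, 7, 4, 2, 17, 5, 23],
    [0, 7, 2, 11, 16, 15, 18, 20, 19, 9, 5, 21, 1, 14, 13, 22, 8, 3, 6, 4, 12, 17, 10, 23],
    [0, 8, 21, 6, 7, 5, 3, 4, 1, 19, 10, 20, 17, 13, 14, 15, 18, 12, 16, 9, 11, 2, 22, 23],
    [0, 20, 6, 4, 19, 15, 9, 7, 16, 18, 5, 3, 12, 14, 13, 22, 17, 21, 2, 11, 1, 8, 10, 23],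
    [0, 6, 1, 11, 3, 15, 12, 9, 19, 20, 22, 21, 2, 13, 14, 5, 8, 16, 7, 17, 18, 4, 10, 23],
    [0, 18, 12, 17, 3, 22, 1, 2, 19, 7, 15, 21, 9, 13, 14, 10, 4, 16, 20, 11, 6, 8, 5, 23],
    [0, 6, 20, 17, 21, 10, 7, 9, 16, 1, 5, 3, 2, 13, 14, 22, 4, 19, 12, 11, 18, 8, 15, 23],
    [0, 20, 2, 21, 8, 22, 6, 12, 4, 9, 15, 17, 7, 13, 14, 10, 19, 11, 18, 16, 1, 3, 5, 23],
    [0, 2, 20, 11, 19, 22, 7, 18, 3, 1, 15, 16, 6, 13, 14, 10, 8, 21, 12, 17, 9, 4, 5, 23],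
    [0, 9, 12, 16, 11, 15, 20, 18, 4, 7, 5, 17, 6, 14, 13, 22, 3, 8, 1, 19, 2, 21, 10, 23],
    [0, 18, 1, 19, 4, 15, 7, 9, 11, 20, 5, 8, 2, 14, 13, 22, 21, 17, 12, 16, 6, 3, 10, 23],
    [0, 20, 18, 3, 11, 15, 9, 12, 17, 6, 22, 4, 7, 13, 14, 5, 16, 8, 2, 19, 1, 21, 10, 23],
    [0, 2, 12, 4, 21, 15, 1, 18, 16, 7, 22, 3, 6, 13, 14, 5, 17, 19, 20, 8, 9, 11, 10, 23],
    [0, 11, 3, 7, 9, 15, 19, 4, 18, 16, 5, 6, 17, 14, 13, 22, 12, 2, 21, 20, 8, 1, 10, 23],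
    [0, 21, 8, 18, 12, 22, 4, 3, 1, 11, 10, 20, 16, 14, 13, 15, 6, 7, 17, 9, 19, 2, 5, 23],
    [0, 8, 21, 7, 6, 22, 16, 17, 2, 19, 10, 9, 4, 14, 13, 15, 12, 18, 3, 20, 11, 1, 5, 23],
    [0, 8, 3, 1, 18, 10, 19, 17, 9, 16, 22, 2, 4, 14, 13, 5, 20, 6, 21, 12, 11, 7, 15, 23],
    [0, 6, 7, 16, 4, 5, 1, 2, 11, 12, 15, 8, 9, 14, 13, 10, 3, 17, 20, 19, 18, 21, 22, 23],
    [0, 7, 2, 16, 11, 10, 6, 1, 17, 9, 5, 4, 20, 13, 14, 22, 3, 8, 18, 21, 12, 19, 15, 23],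
    [0, 9, 7, 19, 17, 10, 1, 18, 8, 12, 22, 11, 6, 14, 13, 5, 21, 4, 20, 16, 2, 3, 15, 23],
    [0, 1, 6, 8, 16, 10, 9, 12, 19, 18, 22, 21, 7, 14, 13, 5, 11, 3, 2, 17, 20, 4, 15, 23],
    [0, 3, 11, 2, 12, 15, 17, 21, 1, 8, 5, 20, 19, 14, 13, 22, 9, 7, 4, 6, 16, 18, 10, 23],
    [0, 2, 7, 8, 3, 10, 20, 18, 19, 12, 5, 21, 6, 13, 14, 22, 11, 16, 1, 4, 9, 17, 15, 23],
    [0, 21, 17, 2, 7, 10, 11, 3, 20, 4, 22, 1, 16, 14, 13, 5, 9, 12, 8, 6, 19, 18, 15, 23],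
    [0, 1, 18, 17, 21, 15, 2, 12, 3, 6, 5, 16, 7, 14, 13, 22, 4, 19, 9, 8, 20, 11, 10, 23],
    [0, 18, 20, 8, 16, 15, 7, 2, 21, 1, 22, 19, 9, 13, 14, 5, 11, 3, 12, 4, 6, 17, 10, 23],
    [0, 18, 1, 4, 19, 10, 12, 2, 3, 20, 5, 16, 9, 13, 14, 22, 17, 21, 7, 8, 6, 11, 15, 23],
    [0, 6, 20, 21, 17, 15, 12, 2, 8, 1, 5, 11, 9, 14, 13, 22, 19, 4, 7, 3, 18, 16, 10, 23],
    [0, 1, 6, 16, 8, 15, 2, 7, 4, 18, 22, 17, 12, 13, 14, 5, 3, 11, 9, 21, 20, 19, 10, 23],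
    [0, 9, 7, 17, 19, 15, 20, 6, 3, 12, 22, 16, 18, 13, 14, 5, 4, 21, 1, 11, 2, 8, 10, 23],
    [0, 7, 18, 19, 8, 5, 9, 1, 4, 6, 10, 17, 20, 13, 14, 15, 21, 11, 2, 3, 12, 16, 22, 23],
    [0, 9, 20, 3, 4, 22, 12, 18, 11, 1, 10, 8, 6, 14, 13, 15, 16, 17, 7, 21, 2, 19, 5, 23],
    [0, 1, 2, 4, 3, 22, 18, 12, 21, 9, 10, 19, 7, 14, 13, 15, 17, 16, 6, 11, 20, 8, 5, 23],
    [0, 17, 16, 18, 7, 22, 19, 11, 1, 3, 15, 20, 8, 13, 14, 10, 6, 12, 21, 2, 4, 9, 5, 23],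
    [0, 20, 9, 17, 16, 22, 6, 7, 19, 2, 10, 21, 12, 14, 13, 15, 4, 3, 18, 8, 1, 11, 5, 23],
    [0, 6, 12, 8, 19, 5, 1, 9, 3, 7, 10, 16, 2, 13, 14, 15, 11, 21, 20, 4, 18, 17, 22, 23],
    [0, 4, 3, 6, 12, 22, 21, 8, 20, 16, 15, 1, 11, 13, 14, 10, 18, 7, 19, 9, 17, 2, 5, 23],
    [0, 12, 6, 21, 11, 5, 2, 20, 17, 18, 10, 4, 1, 13, 14, 15, 19, 8, 9, 16, 7, 3, 22, 23],
    [0, 18, 7, 11, 21, 5, 20, 2, 16, 12, 10, 3, 9, 13, 14, 15, 8, 19, 1, 17, 6, 4, 22, 23],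
    [0, 11, 21, 2, 1, 22, 3, 17, 7, 19, 15, 12, 4, 13, 14, 10, 9, 20, 16, 18, 8, 6, 5, 23],
    [0, 4, 21, 18, 20, 10, 3, 8, 12, 19, 5, 7, 11, 13, 14, 22, 6, 1, 16, 2, 17, 9, 15, 23],
    [0, 4, 19, 2, 7, 15, 16, 8, 1, 21, 22, 20, 11, 13, 14, 5, 9, 12, 3, 18, 17, 6, 10, 23],
    [0, 8, 19, 9, 20, 22, 16, 4, 12, 21, 15, 7, 17, 13, 14, 10, 2, 1, 3, 6, 11, 18, 5, 23],
    [0, 8, 16, 2, 12, 10, 19, 4, 20, 3, 5, 1, 17, 13, 14, 22, 9, 7, 21, 18, 11, 6, 15, 23],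
    [0, 11, 16, 6, 20, 15, 19, 17, 12, 3, 22, 7, 4, 13, 14, 5, 18, 1, 21, 9, 8, 2, 10, 23],
    [0, 2, 1, 16, 17, 22, 7, 6, 8, 20, 10, 11, 18, 14, 13, 15, 3, 4, 12, 19, 9, 21, 5, 23],
    [0, 11, 3, 9, 7, 10, 21, 17, 1, 16, 5, 20, 4, 13, 14, 22, 2, 12, 19, 6, 8, 18, 15, 23],
    [0, 8, 3, 18, 1, 15, 21, 4, 7, 16, 22, 12, 17, 13, 14, 5, 6, 20, 19, 2, 11, 9, 10, 23],
    [0, 17, 21, 9, 12, 15, 3, 11, 20, 19, 22, 1, 8, 13, 14, 5, 2, 7, 16, 6, 4, 18, 10, 23],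
    [0, 17, 19, 6, 1, 10, 16, 11, 7, 21, 5, 12, 8, 13, 14, 22, 18, 20, 3, 9, 4, 2, 15, 23],
    [0, 17, 3, 2, 20, 5, 21, 11, 12, 16, 10, 7, 8, 13, 14, 15, 9, 1, 19, 18, 4, 6, 22, 23],
    [0, 4, 16, 9, 1, 5, 19, 8, 7, 3, 10, 12, 11, 13, 14, 15, 2, 20, 21, 6, 17, 18, 22, 23]]

def m23_words : List (List Nat) :=
   [[],
    [0],
    [1],
    [2],
    [3],
    [4],
    [5],
    [1, 0],
    [2, 0],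
    [3, 0],
    [4, 0],
    [5, 0],
    [2, 1],
    [3, 1],
    [4, 1],
    [5, 1],
    [1, 2],
    [3, 2],
    [4, 2],
    [5, 2],
    [2, 3],
    [4, 3],
    [5, 3],
    [1, 4],
    [2, 4],
    [3, 4],
    [4, 4],
    [1, 5],
    [2, 5],
    [3, 5],
    [2, 1, 0],
    [3, 1, 0],
    [4, 1, 0],
    [5, 1, 0],
    [1, 2, 0],
    [3, 2, 0],
    [2, 3, 0],
    [4, 3, 0],
    [5, 3, 0],
    [1, 4, 0],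
    [3, 4, 0],
    [4, 4, 0],
    [1, 5, 0],
    [3, 5, 0],
    [1, 2, 1],
    [3, 2, 1],
    [4, 2, 1],
    [5, 2, 1],
    [2, 3, 1],
    [5, 3, 1],
    [1, 4, 1],
    [2, 4, 1],
    [4, 4, 1],
    [1, 5, 1],
    [2, 5, 1],
    [3, 5, 1],
    [2, 1, 2],
    [3, 1, 2],
    [4, 1, 2],
    [5, 1, 2],
    [2, 3, 2],
    [4, 3, 2],
    [5, 3, 2],
    [3, 4, 2],
    [4, 4, 2],
    [3, 5, 2],
    [1, 2, 3],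
    [3, 2, 3],
    [4, 2, 3],
    [5, 2, 3],
    [1, 4, 3],
    [2, 4, 3],
    [4, 4, 3],
    [2, 5, 3],
    [2, 1, 4],
    [3, 1, 4],
    [4, 1, 4],
    [3, 2, 4],
    [5, 2, 4],
    [2, 3, 4],
    [4, 3, 4],
    [1, 4, 4],
    [3, 4, 4],
    [4, 1, 5],
    [5, 1, 5],
    [3, 2, 5],
    [2, 3, 5],
    [4, 3, 5],
    [5, 3, 5],
    [5, 3, 1, 0],
    [1, 4, 1, 0],
    [1, 5, 1, 0],
    [3, 5, 1, 0],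
    [4, 1, 2, 0],
    [2, 3, 2, 0],
    [4, 3, 2, 0],
    [5, 3, 2, 0],
    [1, 4, 3, 0],
    [4, 4, 3, 0],
    [3, 1, 4, 0],
    [2, 3, 4, 0],
    [4, 3, 4, 0],
    [3, 4, 4, 0],
    [2, 3, 5, 0],
    [4, 3, 5, 0],
    [5, 3, 5, 0],
    [2, 1, 2, 1],
    [4, 1, 2, 1],
    [5, 1, 2, 1],
    [4, 4, 2, 1],
    [2, 1, 4, 1],
    [4, 1, 4, 1],
    [5, 2, 4, 1],
    [4, 1, 5, 1],
    [5, 1, 5, 1],
    [4, 4, 1, 2],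
    [4, 4, 3, 2],
    [4, 3, 4, 2],
    [1, 4, 4, 2],
    [3, 4, 4, 2],
    [5, 3, 5, 2],
    [4, 3, 2, 3],
    [4, 4, 2, 3],
    [5, 3, 2, 4],
    [2, 4, 3, 4],
    [2, 3, 4, 4],
    [4, 4, 1, 2, 1],
    [1, 4, 4, 2, 1]]

def m23_CL : List (List Nat) :=
   [[0, 1, 12, 5, 15, 16, 9, 6, 11, 20, 13, 8, 2, 21, 19, 14, 22, 10, 18, 4, 7, 17, 3, 23],
    [0, 16, 2, 13, 18, 1, 8, 7, 9, 6, 12, 11, 19, 15, 22, 3, 5, 4, 17, 10, 20, 14, 21, 23],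
    [0, 14, 21, 9, 2, 15, 5, 12, 4, 3, 16, 18, 1, 20, 7, 19, 11, 17, 10, 6, 13, 8, 22, 23],
    [0, 2, 18, 3, 21, 22, 7, 20, 11, 6, 13, 8, 1, 15, 10, 14, 16, 19, 12, 4, 9, 17, 5, 23]]

def m23_D : List (List Nat) :=
   [[0, 7, 6, 3, 17, 22, 2, 1, 11, 18, 15, 8, 20, 13, 14, 10, 16, 4, 9, 19, 12, 21, 5, 23],
    [0, 21, 8, 12, 18, 5, 17, 16, 2, 11, 10, 9, 3, 13, 14, 15, 7, 6, 4, 20, 19, 1, 22, 23],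
    [0, 21, 11, 20, 9, 22, 4, 16, 6, 8, 15, 18, 3, 13, 14, 10, 1, 2, 17, 12, 19, 7, 5, 23],
    [0, 1, 9, 19, 11, 22, 18, 7, 17, 2, 15, 4, 12, 13, 14, 10, 21, 8, 6, 3, 20, 16, 5, 23],
    [0, 1, 18, 21, 17, 10, 9, 7, 11, 6, 5, 8, 12, 13, 14, 22, 19, 4, 2, 16, 20, 3, 15, 23],
    [0, 19, 8, 1, 2, 22, 17, 3, 18, 11, 15, 6, 16, 13, 14, 10, 20, 9, 4, 7, 21, 12, 5, 23],
    [0, 16, 4, 2, 20, 22, 8, 19, 7, 17, 10, 12, 21, 14, 13, 15, 9, 1, 11, 6, 3, 18, 5, 23],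
    [0, 18, 12, 3, 17, 5, 20, 9, 8, 7, 15, 11, 2, 14, 13, 10, 16, 4, 1, 21, 6, 19, 22, 23],
    [0, 17, 3, 20, 2, 22, 19, 8, 6, 16, 10, 18, 11, 14, 13, 15, 1, 9, 21, 7, 4, 12, 5, 23]]

def m23_Tz : List Nat := [0, 20, 9, 16, 17, 5, 18, 12, 11, 2, 10, 8, 7, 13, 14, 15, 3, 4, 6, 21, 1, 19, 22, 23]

theorem m23_h1 : (m23_L.all (inGS [] [23])) = true := by decide +kernel

theorem m23_h2 : (m23_gens.all (fun G => tmem G m23_L)) = true := by decide +kernel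

theorem m23_h3 : tmem idT m23_L = true := by decide +kernel

theorem m23_h4 : closedOK m23_gens m23_L = true := by decide +kernel

theorem m23_h5 : invOK m23_gens = true := by decide +kernel

theorem m23_h6 : wordsOK m23_gens m23_L m23_words = true := by decide +kernel

theorem m23_h7 : pow8OK m23_L = true := by decide +kernel

theorem m23_h8 : centOK m23_gens m23_L m23_Tz = true := by decide +kernel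

theorem m23_h9 : (m23_CL.all (inGS [] [23])) = true := by decide +kernel

theorem m23_h10 : derivOK m23_CL m23_L [m23_Tz] m23_D = true := by decide +kernel

theorem m23_h11 : (m23_gens.all (fun G => tmem G (m23_D ++ [m23_Tz]))) = true := by decide +kernel

theorem m23_h12 : tmem m23_Tz m23_L = true := by decide +kernel

theorem m23_h13 : movesOK m23_Tz = true := by decide +kernel

theorem m23_h14 : chainOK [] m23_L [23] [1, 2, 5, 0, 9, 20] = true := by decide +kernel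

def m23_prog : List Step :=
  [Step.pushAll, Step.pushF, Step.bxor 0 1, Step.oct 8536111, Step.band 0 1, Step.oct 9701932, Step.band 0 1, Step.fix 0, Step.pushAll, Step.pushF, Step.bxor 0 1, Step.oct 5275709, Step.band 0 1, Step.oct 1245726, Step.band 0 1, Step.fix 0, Step.pushAll, Step.pushF, Step.bxor 0 1, Step.oct 8683614, Step.band 0 1, Step.oct 2162811, Step.band 0 1, Step.fix 0, Step.pushAll, Step.pushF, Step.bxor 0 1, Step.oct 9830549, Step.band 0 1, Step.oct 8978620, Step.band 0 1, Step.fix 0, Step.pushAll, Step.pushF, Step.bxor 0 1, Step.oct 1065303, Step.band 0 1, Step.oct 8536111, Step.pushAll, Step.bxor 0 1, Step.band 0 3, Step.fix 0, Step.pushAll, Step.pushF, Step.bxor 0 1, Step.oct 1050548, Step.band 0 1, Step.fix 0, Step.pushAll, Step.pushF, Step.bxor 0 1, Step.oct 9440193,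 Step.band 0 1, Step.fix 0, Step.pushAll, Step.pushF, Step.bxor 0 1, Step.oct 1053483, Step.band 0 1, Step.fix 0, Step.pushAll, Step.pushF, Step.bxor 0 1, Step.oct 8398155, Step.band 0 1, Step.fix 0, Step.pushAll, Step.pushF, Step.bxor 0 1, Step.oct 1065303, Step.band 0 1, Step.fix 0, Step.pushAll, Step.pushF, Step.bxor 0 1, Step.oct 9486564, Step.band 0 1, Step.fix 0, Step.pushAll, Step.pushF, Step.bxor 0 1, Step.oct 9543722, Step.band 0 1, Step.fix 0, Step.pushAll, Step.pushF, Step.bxor 0 1, Step.oct 1302533, Step.band 0 1, Step.fix 0, Step.pushAll, Step.pushF, Step.bxor 0 1, Step.oct 6832158, Step.pushAll, Step.bxor 0 1, Step.band 0 3, Step.fix 0, Step.pushAll, Step.pushF, Step.bxor 0 1, Step.oct 9347075, Step.band 0 1, Step.fix 0, Step.pushAll, Step.pushF, Step.bxor 0 1, Step.oct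 11100169, Step.band 0 1, Step.fix 0, Step.pushAll, Step.pushF, Step.bxor 0 1, Step.fix 0]

theorem m23_triv : trivCheck [20, 9, 0, 5, 2, 1, 23] m23_prog = true := by decide +kernel

theorem m23_h15 : GS [] ([1, 2, 5, 0, 9, 20].reverse ++ [23]) = ⊥ := by
  show GS [] [20, 9, 0, 5, 2, 1, 23] = ⊥
  rw [GS_nil_eq_Gfix]
  exact triv_sound m23_triv

theorem m23_data : ∃ P : Sylow 2 ↥(GS [] [23]), SimpleData 2 (P : Subgroup ↥(GS [] [23])) :=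
  mathieu_simpleData [] [23] (by decide) m23_gens m23_L m23_words m23_CL m23_D m23_Tz [1, 2, 5, 0, 9, 20]
    m23_h1 m23_h2 m23_h3 m23_h4 m23_h5 m23_h6 m23_h7 m23_h8 m23_h9 m23_h10 m23_h11 m23_h12 m23_h13 m23_h14 m23_h15

end Mat
end Cfsg.Agent.Helper25
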