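import Mathlib
import Cfsg.Agent.Helper25.NSmT
import Cfsg.Agent.Helper27.NS1

set_option autoImplicit false

namespace Cfsg.Agent.Helper25.OmMb

open Matrix Cfsg.Agent.Helper4.OrthPlane Cfsg.Agent.Helper4.Dickson Cfsg.Agent.Helper4.OSiegel

variable {ι : Type} [Fintype ι] [DecidableEq ι] {F : Type*} [Field F]

/-- A nonsingular vector orthogonal to two given vectors (dimension at least 5). -/
theorem exists_nonsing_perp (Q : (ι → F) → F) (hQ : Cfsg.Geo.IsNondegenerateQuadraticForm Q)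
    (hn : 5 ≤ Fintype.card ι) (a b : ι → F) :
    ∃ e, Q e ≠ 0 ∧ Bf Q hQ a e = 0 ∧ Bf Q hQ b e = 0 := by
  by_contra hcon
  have hU : ∀ e ∈ LinearMap.ker (Bf Q hQ a) ⊓ LinearMap.ker (Bf Q hQ b), Q e = 0 := by
    intro e he
    by_contra h
    rw [Submodule.mem_inf, LinearMap.mem_ker, LinearMap.mem_ker] at he
    exact hcon ⟨e, h, he.1, he.2⟩
  have h1 := Cfsg.Agent.Helper27.NS1.ts_bound Q hQ _ hU
  have h5 : Module.finrank F (ι → F) = Fintype.card ι := Module.finrank_fintype_fun_eq_card F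
  have hk : ∀ φ : (ι → F) →ₗ[F] F,
      Fintype.card ι ≤ Module.finrank F (LinearMap.ker φ) + 1 := by
    intro φ
    have h2 := LinearMap.finrank_range_add_finrank_ker φ
    have h3 : Module.finrank F (LinearMap.range φ) ≤ 1 := by
      have h4 := Submodule.finrank_le (LinearMap.range φ)
      rwa [Module.finrank_self] at h4
    omega
  have h6 := Submodule.finrank_sup_add_finrank_inf_eq (LinearMap.ker (Bf Q hQ a))
    (LinearMap.ker (Bf Q hQ b))
  have h7 := Submodule.finrank_le (LinearMap.ker (Bf Q hQ a) ⊔ LinearMap.ker (Bf Q hQ b))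
  have h8 := hk (Bf Q hQ a)
  have h9 := hk (Bf Q hQ b)
  omega

/-- In a hyperbolic plane `⟨w, z⟩` orthogonal to `a`: an isometry fixing `a` and scaling `w`. -/
theorem exc_case (Q : (ι → F) → F) (hQ : Cfsg.Geo.IsNondegenerateQuadraticForm Q)
    (hch : (2 : F) = 0) (a w z : ι → F) (hw : Q w = 0) (hz : Q z = 0)
    (hwa : Bf Q hQ w a = 0) (hza : Bf Q hQ z a = 0) (hwz : Bf Q hQ w z = 1)
    (β : F) (hβ0 : β ≠ 0) (hβ1 : β + 1 ≠ 0) :
    ∃ g : GL ι F, g ∈ Cfsg.isometryGroup F Q ∧ (g : Matrix ι ι F) *ᵥ a = a ∧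
      (g : Matrix ι ι F) *ᵥ (β • w + a) = (β + 1) • w + a := by
  have h2 : ∀ x : ι → F, x + x = 0 := by
    intro x
    rw [← two_smul F x, hch, zero_smul]
  have hBself : ∀ x, Bf Q hQ x x = 0 := by
    intro x
    rw [Bf_self Q hQ, hch, zero_mul]
  have hzw : Bf Q hQ z w = 1 := by rw [Bf_symm Q hQ]; exact hwz
  obtain ⟨d, hd⟩ : ∃ d : F, d = β * (β + 1)⁻¹ := ⟨_, rfl⟩
  have hd0 : d ≠ 0 := by
    rw [hd]
    exact mul_ne_zero hβ0 (inv_ne_zero hβ1)
  have hdβ : β * d⁻¹ = β + 1 := by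
    rw [hd, mul_inv, inv_inv, ← mul_assoc, mul_inv_cancel₀ hβ0, one_mul]
  have hQ1 : Q (w + z) = 1 := by
    rw [Q_add Q hQ, hw, hz, hwz, zero_add, zero_add]
  have hQd : Q (w + d • z) = d := by
    rw [Q_add_smul Q hQ, hw, hz, hwz, mul_zero, zero_add, zero_add, mul_one]
  have hQ10 : Q (w + z) ≠ 0 := by rw [hQ1]; exact one_ne_zero
  have hQd0 : Q (w + d • z) ≠ 0 := by rw [hQd]; exact hd0
  have e1a : R Q hQ (w + z) *ᵥ a = a := by
    rw [R_mulVec, map_add, LinearMap.add_apply, hwa, hza, add_zero, mul_zero, zero_smul, sub_zero]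
  have e2a : R Q hQ (w + d • z) *ᵥ a = a := by
    rw [R_mulVec, map_add, map_smul, LinearMap.add_apply, LinearMap.smul_apply, hwa, hza,
      smul_zero, add_zero, mul_zero, zero_smul, sub_zero]
  have e1w : R Q hQ (w + z) *ᵥ w = z := by
    rw [R_mulVec, map_add, LinearMap.add_apply, hBself, hzw, zero_add, hQ1, inv_one, one_mul,
      one_smul, sub_add_eq_sub_sub, sub_self, zero_sub]
    exact neg_eq_of_add_eq_zero_left (h2 z)
  have e2z : R Q hQ (w + d • z) *ᵥ z = d⁻¹ • w := by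
    rw [R_mulVec, map_add, map_smul, LinearMap.add_apply, LinearMap.smul_apply, hBself, hwz,
      smul_zero, add_zero, hQd, mul_one, smul_add, smul_smul, inv_mul_cancel₀ hd0, one_smul,
      sub_add_eq_sub_sub, sub_right_comm, sub_self, zero_sub]
    exact neg_eq_of_add_eq_zero_left (h2 _)
  have h3 : ((rG Q hQ (w + d • z) hQd0 * rG Q hQ (w + z) hQ10 : GL ι F) : Matrix ι ι F)
      = R Q hQ (w + d • z) * R Q hQ (w + z) := rfl
  refine ⟨rG Q hQ (w + d • z) hQd0 * rG Q hQ (w + z) hQ10,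
    Subgroup.mul_mem _ (rG_mem Q hQ _ hQd0) (rG_mem Q hQ _ hQ10), ?_, ?_⟩
  · rw [h3, ← Matrix.mulVec_mulVec, e1a, e2a]
  · rw [h3, ← Matrix.mulVec_mulVec, Matrix.mulVec_add, Matrix.mulVec_smul, e1w, e1a,
      Matrix.mulVec_add, Matrix.mulVec_smul, e2z, e2a, smul_smul, hdβ]

/-- An isometry fixing `a` and moving `b` to `b'` (characteristic two, all three of norm one, `b`
and `b'` different from `a` and with the same inner product with `a`). -/
theorem exists_iso_stab (Q : (ι → F) → F) (hQ : Cfsg.Geo.IsNondegenerateQuadraticForm Q)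
    (hch : (2 : F) = 0) (a b b' : ι → F) (ha : Q a = 1) (hb : Q b = 1)
    (hb' : Q b' = 1) (hba : b ≠ a) (hb'a : b' ≠ a) (h : Bf Q hQ a b = Bf Q hQ a b') :
    ∃ g : GL ι F, g ∈ Cfsg.isometryGroup F Q ∧ (g : Matrix ι ι F) *ᵥ a = a ∧
      (g : Matrix ι ι F) *ᵥ b = b' := by
  have h2 : ∀ x : ι → F, x + x = 0 := by
    intro x
    rw [← two_smul F x, hch, zero_smul]
  have hBself : ∀ x, Bf Q hQ x x = 0 := by
    intro x
    rw [Bf_self Q hQ, hch, zero_mul]
  have hF2 : ∀ c : F, c + c = 0 := by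
    intro c
    linear_combination c * hch
  have hwa : Bf Q hQ (b + b') a = 0 := by
    rw [map_add, LinearMap.add_apply, Bf_symm Q hQ b a, Bf_symm Q hQ b' a, h]
    exact hF2 _
  by_cases hbb : b = b'
  · subst hbb
    exact ⟨1, Subgroup.one_mem _, by simp, by simp⟩
  by_cases hB : Bf Q hQ b b' = 0
  swap
  · -- a reflection does it
    have hw : Q (b + b') = Bf Q hQ b b' := by
      rw [Q_add Q hQ, hb, hb', one_add_one_eq_two, hch, zero_add]
    have hw0 : Q (b + b') ≠ 0 := by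
      rw [hw]
      exact hB
    refine ⟨rG Q hQ (b + b') hw0, rG_mem Q hQ _ hw0, ?_, ?_⟩
    · show R Q hQ (b + b') *ᵥ a = a
      rw [R_mulVec, hwa, mul_zero, zero_smul, sub_zero]
    · show R Q hQ (b + b') *ᵥ b = b'
      rw [R_mulVec]
      have h5 : Bf Q hQ (b + b') b = Bf Q hQ b b' := by
        rw [map_add, LinearMap.add_apply, hBself, zero_add, Bf_symm Q hQ]
      rw [h5, hw, inv_mul_cancel₀ hB, one_smul, sub_add_eq_sub_sub, sub_self, zero_sub]
      exact neg_eq_of_add_eq_zero_left (h2 b')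
  -- now `b + b'` is singular
  have hw : Q (b + b') = 0 := by
    rw [Q_add Q hQ, hb, hb', hB, add_zero, one_add_one_eq_two]
    exact hch
  have hwb : Bf Q hQ (b + b') b = 0 := by
    rw [map_add, LinearMap.add_apply, hBself, Bf_symm Q hQ b' b, hB, add_zero]
  have hb'eq : b' = b + (b + b') := by
    rw [← add_assoc, h2 b, zero_add]
  have hwne : b + b' ≠ 0 := by
    intro h0
    apply hbb
    rw [hb'eq, h0, add_zero]
  by_cases hex : ∃ t, Bf Q hQ (b + b') t = 0 ∧ Bf Q hQ a t = 0 ∧ Bf Q hQ t b ≠ 0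
  · obtain ⟨t, hwt, hat, htb⟩ := hex
    have hwt' : Bf Q hQ (b + b') ((Bf Q hQ t b)⁻¹ • t) = 0 := by
      rw [map_smul, hwt, smul_zero]
    refine ⟨eG Q hQ (b + b') ((Bf Q hQ t b)⁻¹ • t) hw hwt', eG_mem Q hQ _ _ hw hwt', ?_, ?_⟩
    · show Ev Q hQ (b + b') ((Bf Q hQ t b)⁻¹ • t) *ᵥ a = a
      rw [Ev_mulVec]
      have h7 : Bf Q hQ ((Bf Q hQ t b)⁻¹ • t) a = 0 := by
        rw [map_smul, LinearMap.smul_apply, Bf_symm Q hQ t a, hat, smul_zero]
      rw [h7, hwa, mul_zero, zero_smul, zero_smul, add_zero, sub_zero, sub_zero]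
    · show Ev Q hQ (b + b') ((Bf Q hQ t b)⁻¹ • t) *ᵥ b = b'
      rw [Ev_mulVec]
      have h7 : Bf Q hQ ((Bf Q hQ t b)⁻¹ • t) b = 1 := by
        rw [map_smul, LinearMap.smul_apply, smul_eq_mul, inv_mul_cancel₀ htb]
      rw [h7, hwb, mul_zero, zero_smul, zero_smul, one_smul, sub_zero, sub_zero]
      exact hb'eq.symm
  · -- exceptional case: `b` lies in the span of `a` and `b + b'`
    have hex' : ∀ t, Bf Q hQ (b + b') t = 0 → Bf Q hQ a t = 0 → Bf Q hQ t b = 0 := by
      intro t h1 h2'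
      by_contra h3
      exact hex ⟨t, h1, h2', h3⟩
    have hnd : ∀ u ∈ (⊤ : Submodule F (ι → F)),
        (∀ w ∈ (⊤ : Submodule F (ι → F)), Bf Q hQ u w = 0) → u = 0 := by
      intro u _ hu
      exact (Bf_nondeg Q hQ).1 u (fun w => hu w Submodule.mem_top)
    have hne1 : ∀ c : F, b + b' ≠ c • a := by
      intro c hc
      have h4 := congrArg Q hc
      rw [hw, hQ.smul, ha, mul_one] at h4
      have hc0 : c = 0 := by
        have h5 : c ^ 2 = 0 := h4.symm
        exact pow_eq_zero_iff (two_ne_zero) |>.1 h5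
      rw [hc0, zero_smul] at hc
      exact hwne hc
    have hne2 : ∀ c : F, a ≠ c • (b + b') := by
      intro c hc
      have h4 := congrArg Q hc
      rw [ha, hQ.smul, hw, mul_zero] at h4
      exact one_ne_zero h4
    obtain ⟨t₀, -, hat₀, hwt₀⟩ :=
      Cfsg.Agent.Helper25.NSmT.exists_partner_in Q hQ ⊤ hnd (b + b') a Submodule.mem_top
        Submodule.mem_top hne1
    obtain ⟨s₀, -, hws₀, has₀⟩ :=
      Cfsg.Agent.Helper25.NSmT.exists_partner_in Q hQ ⊤ hnd a (b + b') Submodule.mem_top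
        Submodule.mem_top hne2
    have hbdec0 : b = Bf Q hQ t₀ b • (b + b') + Bf Q hQ s₀ b • a := by
      have hx : b - (Bf Q hQ t₀ b • (b + b') + Bf Q hQ s₀ b • a) = 0 := by
        apply (Bf_nondeg Q hQ).1
        intro y
        have hy := hex' (y - Bf Q hQ (b + b') y • t₀ - Bf Q hQ a y • s₀) (by
          rw [map_sub, map_sub, map_smul, map_smul, hwt₀, hws₀, smul_zero, sub_zero, smul_eq_mul,
            mul_one, sub_self]) (by
          rw [map_sub, map_sub, map_smul, map_smul, hat₀, has₀, smul_zero, sub_zero, smul_eq_mul,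
            mul_one, sub_self])
        rw [map_sub, map_sub, map_smul, map_smul, LinearMap.sub_apply, LinearMap.sub_apply,
          LinearMap.smul_apply, LinearMap.smul_apply, smul_eq_mul, smul_eq_mul] at hy
        rw [map_sub, map_add, map_smul, map_smul, LinearMap.sub_apply, LinearMap.add_apply,
          LinearMap.smul_apply, LinearMap.smul_apply, smul_eq_mul, smul_eq_mul,
          Bf_symm Q hQ b y]
        linear_combination hy
      exact sub_eq_zero.1 hx
    obtain ⟨β, γ, hbdec⟩ : ∃ β γ : F, b = β • (b + b') + γ • a := ⟨_, _, hbdec0⟩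
    have hγ1 : γ = 1 := by
      have h4 := congrArg Q hbdec
      rw [hb, Q_add Q hQ, hQ.smul, hQ.smul, hw, ha, map_smul, map_smul, LinearMap.smul_apply,
        hwa, smul_eq_mul, smul_eq_mul] at h4
      have h5 : (γ - 1) * (γ - 1) = 0 := by
        linear_combination -h4 + (1 - γ) * hch
      exact sub_eq_zero.1 (mul_self_eq_zero.1 h5)
    rw [hγ1, one_smul] at hbdec
    have hβ0 : β ≠ 0 := by
      intro h0
      rw [h0, zero_smul, zero_add] at hbdec
      exact hba hbdec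
    have hb'dec : b' = (β + 1) • (b + b') + a := by
      rw [add_smul, one_smul, add_right_comm, ← hbdec]
      exact hb'eq
    have hβ1 : β + 1 ≠ 0 := by
      intro h0
      rw [h0, zero_smul, zero_add] at hb'dec
      exact hb'a hb'dec
    -- a singular partner of `b + b'` orthogonal to `a`
    have ht₀w : Bf Q hQ t₀ (b + b') = 1 := by rw [Bf_symm Q hQ]; exact hwt₀
    have hQz : Q (t₀ + Q t₀ • (b + b')) = 0 := by
      rw [Q_add_smul Q hQ, hw, ht₀w]
      linear_combination Q t₀ * hch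
    have hza : Bf Q hQ (t₀ + Q t₀ • (b + b')) a = 0 := by
      rw [map_add, map_smul, LinearMap.add_apply, LinearMap.smul_apply, hwa, smul_zero, add_zero,
        Bf_symm Q hQ]
      exact hat₀
    have hwz : Bf Q hQ (b + b') (t₀ + Q t₀ • (b + b')) = 1 := by
      rw [map_add, map_smul, hBself, smul_zero, add_zero]
      exact hwt₀
    obtain ⟨g, hg, hga, hgb⟩ := exc_case Q hQ hch a (b + b') (t₀ + Q t₀ • (b + b')) hw hQz hwa hza
      hwz β hβ0 hβ1
    refine ⟨g, hg, hga, ?_⟩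
    rw [← hbdec, ← hb'dec] at hgb
    exact hgb

variable [Fintype F]

/-- (M1b) In characteristic two and dimension at least 5, the stabiliser in `Ω(Q)` of a vector `a`
of norm one is transitive on the vectors `b ≠ a` of norm one with a given inner product with `a`. -/
theorem omega_stab_trans (Q : (ι → F) → F) (hQ : Cfsg.Geo.IsNondegenerateQuadraticForm Q)
    (hch : (2 : F) = 0) (hn : 5 ≤ Fintype.card ι) (a b b' : ι → F) (ha : Q a = 1) (hb : Q b = 1)
    (hb' : Q b' = 1) (hba : b ≠ a) (hb'a : b' ≠ a) (h : Bf Q hQ a b = Bf Q hQ a b') :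
    ∃ g ∈ Cfsg.Geo.omegaGL Q, (g : Matrix ι ι F) *ᵥ a = a ∧ (g : Matrix ι ι F) *ᵥ b = b' := by
  have hcard : Fintype.card F ≠ 2 ∨ Fintype.card ι ≠ 4 := Or.inr (by omega)
  have hne : Nonempty ι := by
    rw [← Fintype.card_pos_iff]; omega
  have ha0 : Q a ≠ 0 := by rw [ha]; exact one_ne_zero
  obtain ⟨g, hgO, hga, hgb⟩ := exists_iso_stab Q hQ hch a b b' ha hb hb' hba hb'a h
  have key : ∀ g' : GL ι F, g' ∈ Cfsg.isometryGroup F Q → dk g' = 0 →
      g' ∈ Cfsg.Geo.omegaGL Q := by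
    intro g' hg' hdk
    have h1 := Cfsg.Agent.Helper27.NS1.mem_of_dk_eq_zero Q hQ hch hcard hne a ha0
      (⟨g', hg'⟩ : ↥(Cfsg.isometryGroup F Q)) hdk
    exact ⟨⟨g', hg'⟩, h1, rfl⟩
  by_cases hdk : dk g = 0
  · exact ⟨g, key g hgO hdk, hga, hgb⟩
  · have hdk1 : dk g = 1 := by
      have h2 : ∀ t : ZMod 2, t ≠ 0 → t = 1 := by decide
      exact h2 _ hdk
    obtain ⟨e, he0, hae, hbe⟩ := exists_nonsing_perp Q hQ hn a b'
    have h3 : ((rG Q hQ e he0 * g : GL ι F) : Matrix ι ι F) = R Q hQ e * (g : Matrix ι ι F) :=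
      rfl
    refine ⟨rG Q hQ e he0 * g, key _ (Subgroup.mul_mem _ (rG_mem Q hQ e he0) hgO) ?_, ?_, ?_⟩
    · rw [Cfsg.Agent.Helper27.NS1.dk_mul Q hQ hcard _ _ (rG_mem Q hQ e he0) hgO,
        Cfsg.Agent.Helper27.NS1.dk_rG, hdk1]
      decide
    · rw [h3, ← Matrix.mulVec_mulVec, hga, R_mulVec, Bf_symm Q hQ e a, hae, mul_zero,
        zero_smul, sub_zero]
    · rw [h3, ← Matrix.mulVec_mulVec, hgb, R_mulVec, Bf_symm Q hQ e b', hbe, mul_zero,
        zero_smul, sub_zero]

end Cfsg.Agent.Helper25.OmMb
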