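import Mathlib
import Cfsg.Prelude.Def_Classical
import Cfsg.Agent.Helper14.PslAdj2
import Cfsg.Agent.Helper14.PrimeOrdSp

set_option autoImplicit false

namespace Cfsg.Agent.Helper25.PSpRS

open Polynomial

section gen

variable {F V : Type*} [Field F] [AddCommGroup V] [Module F V]

/-- a polynomial in `B` commutes with anything commuting with `B` -/
theorem aeval_comm (A B : Module.End F V) (hAB : A * B = B * A) (g : F[X]) :
    A * aeval B g = aeval B g * A := by
  induction g using Polynomial.induction_on' with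
  | add p q hp hq => rw [map_add, mul_add, add_mul, hp, hq]
  | monomial n c =>
    have h1 : A * B ^ n = B ^ n * A := (Commute.pow_right (show Commute A B from hAB) n).eq
    rw [Polynomial.aeval_monomial, ← mul_assoc, ← Algebra.commutes c A, mul_assoc, h1, ← mul_assoc]

theorem pow_fix (B : Module.End F V) (e : V) (he : B e = e) (n : ℕ) : (B ^ n) e = e := by
  induction n with
  | zero => simp
  | succ k ih => rw [pow_succ, Module.End.mul_apply, he, ih]

theorem pow_isom (f : LinearMap.BilinForm F V) (B : Module.End F V)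
    (hBf : ∀ u v, f (B u) (B v) = f u v) (n : ℕ) (u v : V) :
    f ((B ^ n) u) ((B ^ n) v) = f u v := by
  induction n generalizing u v with
  | zero => simp
  | succ k ih => rw [pow_succ, Module.End.mul_apply, Module.End.mul_apply, ih, hBf]

/-- on a fixed vector a polynomial in `B` acts by its value at `1` -/
theorem aeval_fix (B : Module.End F V) (e : V) (he : B e = e) (g : F[X]) :
    aeval B g e = eval 1 g • e := by
  induction g using Polynomial.induction_on' with
  | add p q hp hq => rw [map_add, LinearMap.add_apply, hp, hq, eval_add, add_smul]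
  | monomial n c =>
    rw [Polynomial.aeval_monomial, Module.End.mul_apply, pow_fix B e he, eval_monomial, one_pow,
      mul_one, Module.algebraMap_end_apply]

/-- the adjoint of a polynomial in an isometry is the reversed polynomial, up to a power -/
theorem form_rev (f : LinearMap.BilinForm F V) (B : Module.End F V)
    (hBf : ∀ u v, f (B u) (B v) = f u v) (φ : F[X]) (x y : V) :
    f (aeval B φ.reverse x) ((B ^ φ.natDegree) y) = f x (aeval B φ y) := by
  have h1 : φ.reverse.natDegree < φ.natDegree + 1 := Nat.lt_succ_of_le (reverse_natDegree_le φ)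
  rw [aeval_eq_sum_range' h1, aeval_eq_sum_range]
  simp only [LinearMap.sum_apply, LinearMap.smul_apply, map_sum, map_smul, smul_eq_mul]
  rw [← Finset.sum_range_reflect (fun j => φ.coeff j * f x ((B ^ j) y)) (φ.natDegree + 1)]
  apply Finset.sum_congr rfl
  intro i hi
  have hi' : i ≤ φ.natDegree := Nat.lt_succ_iff.mp (Finset.mem_range.mp hi)
  have h2 : φ.natDegree + 1 - 1 - i = φ.natDegree - i := by omega
  have h3 : B ^ φ.natDegree = B ^ i * B ^ (φ.natDegree - i) := by
    rw [← pow_add, Nat.add_sub_cancel' hi']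
  rw [h2, coeff_reverse, revAt_le hi']
  congr 1
  rw [h3, Module.End.mul_apply, pow_isom f B hBf]

/-- a polynomial with a nontrivial kernel has a monic irreducible factor with a nontrivial kernel -/
theorem exists_irr (B : Module.End F V) : ∀ (n : ℕ) (g : F[X]), g.natDegree = n → g ≠ 0 →
    (∃ u : V, u ≠ 0 ∧ aeval B g u = 0) →
    ∃ φ : F[X], φ.Monic ∧ Irreducible φ ∧ φ ∣ g ∧ ∃ w : V, w ≠ 0 ∧ aeval B φ w = 0 := by
  intro n
  induction n using Nat.strong_induction_on with
  | _ n ih =>
    intro g hn hg0 ⟨u, hu0, hu⟩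
    have hnu : ¬ IsUnit g := by
      intro hunit
      have h1 : IsUnit (aeval B g) := hunit.map (aeval B)
      have h2 := ((Module.End.isUnit_iff _).1 h1).injective
      exact hu0 (h2 (by rw [hu, map_zero]))
    obtain ⟨φ, hφm, hφi, h, rfl⟩ := Polynomial.exists_monic_irreducible_factor g hnu
    by_cases hw : aeval B h u = 0
    · have hh0 : h ≠ 0 := right_ne_zero_of_mul hg0
      have hdeg : h.natDegree < n := by
        rw [← hn, natDegree_mul hφi.ne_zero hh0]
        have := hφi.natDegree_pos
        omega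
      obtain ⟨ψ, hψm, hψi, hψd, hψw⟩ := ih _ hdeg h rfl hh0 ⟨u, hu0, hw⟩
      exact ⟨ψ, hψm, hψi, Dvd.dvd.mul_left hψd φ, hψw⟩
    · refine ⟨φ, hφm, hφi, dvd_mul_right φ h, aeval B h u, hw, ?_⟩
      rw [map_mul, Module.End.mul_apply] at hu
      exact hu

end gen

/-- (P4) the structural lemma for `l` odd -/
theorem x2 {F V : Type*} [Field F] [Fintype F] [AddCommGroup V] [Module F V] [Finite V]
    (f : LinearMap.BilinForm F V) (halt : ∀ v, f v v = 0) (hnd : ∀ v, (∀ w, f v w = 0) → v = 0)
    (r s : ℕ) [Fact r.Prime] [Fact s.Prime] (hs2 : s ≠ 2) (hrq : ¬ r ∣ Fintype.card F)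
    (hsq : ¬ s ∣ Fintype.card F) (A B : Module.End F V)
    (hAf : ∀ u v, f (A u) (A v) = f u v) (hBf : ∀ u v, f (B u) (B v) = f u v)
    (hA : A ^ r = 1) (hB : B ^ s = 1) (hAB : A * B = B * A)
    (hker : LinearMap.ker (A - 1) = LinearMap.ker (B - 1)) (l : ℕ)
    (hl : l = orderOf ((Fintype.card F : ℕ) : ZMod s)) (hlo : Odd l)
    (hdim : Module.finrank F ↥(LinearMap.ker (B - 1)) + 2 * l = Module.finrank F V) :
    orderOf ((Fintype.card F : ℕ) : ZMod r) ∣ l := by
  classical
  have hsp : s.Prime := Fact.out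
  have hl1 : 1 ≤ l := hlo.pos
  have hsF : (s : F) ≠ 0 := by
    intro h0
    apply hsq
    have h1 : addOrderOf (1 : F) ∣ s :=
      addOrderOf_dvd_of_nsmul_eq_zero (by rw [nsmul_eq_mul, mul_one]; exact h0)
    have h2 : addOrderOf (1 : F) = s := by
      rcases (Nat.dvd_prime hsp).1 h1 with h | h
      · rw [AddMonoid.addOrderOf_eq_one_iff] at h
        exact absurd h one_ne_zero
      · exact h
    rw [← h2]
    exact addOrderOf_dvd_card
  have hmemE : ∀ x : V, x ∈ LinearMap.ker (B - 1) ↔ B x = x := by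
    intro x
    rw [LinearMap.mem_ker, LinearMap.sub_apply, Module.End.one_apply, sub_eq_zero]
  -- a vector outside the fixed space
  obtain ⟨v, hv⟩ : ∃ v : V, (B - 1) v ≠ 0 := by
    by_contra hcon
    have hE' : LinearMap.ker (B - 1) = ⊤ := by
      rw [eq_top_iff]
      intro x _
      rw [LinearMap.mem_ker]
      by_contra hx
      exact hcon ⟨x, hx⟩
    rw [hE', finrank_top] at hdim
    omega
  obtain ⟨Φ, hΦdef⟩ : ∃ Φ : F[X], Φ = ∑ i ∈ Finset.range s, X ^ i := ⟨_, rfl⟩
  have hΦ1 : Φ * (X - 1) = X ^ s - 1 := by rw [hΦdef]; exact geom_sum_mul X s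
  have hΦe : eval 1 Φ = (s : F) := by rw [hΦdef]; simp [eval_finsetSum]
  have hΦ0 : Φ ≠ 0 := by
    intro h0
    rw [h0, eval_zero] at hΦe
    exact hsF hΦe.symm
  have hΦu : aeval B Φ ((B - 1) v) = 0 := by
    have h1 : aeval B (Φ * (X - 1)) = 0 := by
      rw [hΦ1, map_sub, map_pow, aeval_X, map_one, hB, sub_self]
    rw [map_mul, map_sub, aeval_X, map_one] at h1
    have h2 := congrArg (fun T : Module.End F V => T v) h1
    exact h2
  obtain ⟨φ, hφm, hφi, hφd, w₀, hw₀, hw₀φ⟩ :=
    exists_irr B _ Φ rfl hΦ0 ⟨(B - 1) v, hv, hΦu⟩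
  have hφs : φ ∣ X ^ s - 1 := by rw [← hΦ1]; exact Dvd.dvd.mul_right hφd _
  have hφ1 : eval 1 φ ≠ 0 := by
    intro h0
    have h1 := Polynomial.eval_dvd (x := (1 : F)) hφd
    rw [h0, zero_dvd_iff, hΦe] at h1
    exact hsF h1
  obtain ⟨W, hW⟩ : ∃ W : Submodule F V, W = LinearMap.ker (aeval B φ) := ⟨_, rfl⟩
  have hmemW : ∀ x : V, x ∈ W ↔ aeval B φ x = 0 := by
    intro x
    rw [hW, LinearMap.mem_ker]
  have hWne : W ≠ ⊥ := by
    intro h0
    have h1 : w₀ ∈ W := (hmemW _).2 hw₀φ
    rw [h0, Submodule.mem_bot] at h1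
    exact hw₀ h1
  have hWE : W ⊓ LinearMap.ker (B - 1) = ⊥ := by
    rw [eq_bot_iff]
    intro x hx
    rw [Submodule.mem_inf, hmemW, hmemE] at hx
    rw [Submodule.mem_bot]
    have h1 := hx.1
    rw [aeval_fix B x hx.2 φ] at h1
    rcases smul_eq_zero.1 h1 with h | h
    · exact absurd h hφ1
    · exact h
  have hWB : ∀ w ∈ W, B w ∈ W := by
    intro w hw
    rw [hmemW] at hw ⊢
    have h1 := congrArg (fun T : Module.End F V => T w) (aeval_comm B B rfl φ)
    simp only [Module.End.mul_apply] at h1
    rw [← h1, hw, map_zero]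
  have hWA : ∀ w ∈ W, A w ∈ W := by
    intro w hw
    rw [hmemW] at hw ⊢
    have h1 := congrArg (fun T : Module.End F V => T w) (aeval_comm A B hAB φ)
    simp only [Module.End.mul_apply] at h1
    rw [← h1, hw, map_zero]
  have hWE0 : Module.finrank F ↥(W ⊓ LinearMap.ker (B - 1)) = 0 := by
    rw [hWE]
    exact finrank_bot F V
  have h1 := Cfsg.Agent.Helper14.PslAdj2.fix_dvd s hsq B hB W hWB
  rw [hWE0, Nat.sub_zero, ← hl] at h1
  have hWpos : 0 < Module.finrank F W :=
    Nat.pos_of_ne_zero (fun h0 => hWne (Submodule.finrank_eq_zero.1 h0))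
  have h2 := Submodule.finrank_sup_add_finrank_inf_eq W (LinearMap.ker (B - 1))
  have h3 := Submodule.finrank_le (W ⊔ LinearMap.ker (B - 1))
  rw [hWE0] at h2
  obtain ⟨c, hc⟩ := h1
  have hc12 : c = 1 ∨ c = 2 := by
    have hc0 : c ≠ 0 := by
      intro h
      rw [h, mul_zero] at hc
      omega
    have hc2 : c ≤ 2 := by
      by_contra hc3
      have h4 : l * 3 ≤ l * c := Nat.mul_le_mul_left l (by omega)
      omega
    omega
  rcases hc12 with rfl | rfl
  · have h4 := Cfsg.Agent.Helper14.PslAdj2.fix_dvd r hrq A hA W hWA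
    rw [hker, hWE0, Nat.sub_zero, hc, mul_one] at h4
    exact h4
  · exfalso
    have hsup : W ⊔ LinearMap.ker (B - 1) = ⊤ := by
      apply Submodule.eq_top_of_finrank_eq
      omega
    have hskew : ∀ u v, f u v = - f v u := by
      intro u v
      have h5 := halt (u + v)
      simp only [map_add, LinearMap.add_apply, halt, zero_add, add_zero] at h5
      exact eq_neg_of_add_eq_zero_right h5
    have hEW : ∀ e ∈ LinearMap.ker (B - 1), ∀ w ∈ W, f e w = 0 := by
      intro e he w hw
      rw [hmemE] at he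
      rw [hmemW] at hw
      have h5 := form_rev f B hBf φ e w
      rw [hw, map_zero, aeval_fix B e he, Cfsg.Agent.Helper14.PrimeOrdSp.eval_one_reverse,
        map_smul, LinearMap.smul_apply, smul_eq_mul] at h5
      have h6 : f e ((B ^ φ.natDegree) w) = 0 := by
        rcases mul_eq_zero.1 h5 with h | h
        · exact absurd h hφ1
        · exact h
      have h7 := pow_isom f B hBf φ.natDegree e w
      rw [pow_fix B e he] at h7
      rw [← h7]
      exact h6
    have hrevW : ∀ w ∈ W, aeval B φ.reverse w = 0 := by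
      intro w hw
      apply hnd
      intro y
      have h7 : φ.natDegree + φ.natDegree * (s - 1) = s * φ.natDegree := by
        have h8 : s = (s - 1) + 1 := by
          have := hsp.pos
          omega
        conv_rhs => rw [h8]
        ring
      have hsurj : (B ^ φ.natDegree) ((B ^ (φ.natDegree * (s - 1))) y) = y := by
        rw [← Module.End.mul_apply, ← pow_add, h7, pow_mul, hB, one_pow, Module.End.one_apply]
      rw [← hsurj]
      obtain ⟨w', hw', e, he, hy'⟩ := Submodule.mem_sup.1
        (show (B ^ (φ.natDegree * (s - 1))) y ∈ W ⊔ LinearMap.ker (B - 1) by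
          rw [hsup]; exact Submodule.mem_top)
      have hw'0 : aeval B φ w' = 0 := (hmemW _).1 hw'
      have he' : B e = e := (hmemE _).1 he
      rw [← hy', form_rev f B hBf φ w (w' + e), map_add, hw'0, zero_add, aeval_fix B e he' φ,
        map_smul, smul_eq_mul, hskew, hEW e he w hw, neg_zero, mul_zero]
    have h0 := Cfsg.Agent.Helper14.PrimeOrdSp.coeff_zero_ne hsp.ne_zero φ hφs
    have hql : s ∣ Fintype.card F ^ l - 1 := by
      have h11 : ((Fintype.card F : ℕ) : ZMod s) ^ l = 1 := by
        rw [hl]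
        exact pow_orderOf_eq_one _
      have h12 : ((Fintype.card F ^ l : ℕ) : ZMod s) = ((1 : ℕ) : ZMod s) := by
        push_cast
        exact h11
      have h13 := (ZMod.natCast_eq_natCast_iff _ _ _).1 h12
      exact (Nat.modEq_iff_dvd' (Nat.one_le_pow _ _ Fintype.card_pos)).1 h13.symm
    have hdegl : φ.natDegree ∣ l := by
      apply hφi.natDegree_dvd_of_dvd_X_pow_card_pow_sub_X
      rw [Nat.card_eq_fintype_card]
      obtain ⟨m, hm⟩ := hql
      have h14 : (X : F[X]) ^ s - 1 ∣ X ^ (Fintype.card F ^ l - 1) - 1 := by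
        have h15 := sub_dvd_pow_sub_pow ((X : F[X]) ^ s) 1 m
        rwa [one_pow, ← pow_mul, ← hm] at h15
      have h16 : (X : F[X]) ^ (Fintype.card F ^ l) - X
          = X * (X ^ (Fintype.card F ^ l - 1) - 1) := by
        have h17 : Fintype.card F ^ l = (Fintype.card F ^ l - 1) + 1 := by
          have := Nat.one_le_pow l (Fintype.card F) Fintype.card_pos
          omega
        conv_lhs => rw [h17]
        ring
      rw [h16]
      exact Dvd.dvd.mul_left (hφs.trans h14) _
    have hodd : Odd φ.natDegree := Odd.of_dvd_nat hlo hdegl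
    have hstar := Cfsg.Agent.Helper14.PrimeOrdSp.star_ne_of_odd hsp hs2 hodd φ rfl hφs hφ1
    have hcop : IsCoprime φ φ.reverse := by
      rw [hφi.coprime_iff_not_dvd]
      intro hdvd
      apply hstar
      have h9 : φ ∣ Cfsg.Agent.Helper14.PrimeOrdSp.star φ := by
        unfold Cfsg.Agent.Helper14.PrimeOrdSp.star
        exact Dvd.dvd.mul_left hdvd _
      exact Polynomial.eq_of_monic_of_dvd_of_natDegree_le hφm
        (Cfsg.Agent.Helper14.PrimeOrdSp.star_monic φ h0) h9
        (le_of_eq (Cfsg.Agent.Helper14.PrimeOrdSp.star_natDegree φ h0))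
    obtain ⟨a, b, hab⟩ := hcop
    apply hWne
    rw [eq_bot_iff]
    intro w hw
    rw [Submodule.mem_bot]
    have h10 := congrArg (fun g => aeval B g w) hab
    simp only [map_add, map_mul, map_one, LinearMap.add_apply, Module.End.mul_apply,
      Module.End.one_apply] at h10
    rw [hrevW w hw, (hmemW w).1 hw, map_zero, map_zero, add_zero] at h10
    exact h10.symm

end Cfsg.Agent.Helper25.PSpRS
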