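import Mathlib
import Cfsg.Prelude.Def_FusionSystem
import Cfsg.Agent.Helper26.FusSat

set_option autoImplicit false

namespace Cfsg.Agent.Helper25

open Cfsg Cfsg.FusionSystem

section Grp

variable {M : Type*} [Group M] {M' : Type*} [Group M']

theorem pCore_isPGroup_gen (p : ℕ) (M : Type*) [Group M] : IsPGroup p (pCore p M) :=
  Sylow.sSup_of_normal _ (fun _ hH => hH.2) (fun _ hH => hH.1)

theorem pCore_normal_gen (p : ℕ) (M : Type*) [Group M] : (pCore p M).Normal :=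
  Subgroup.sSup_normal _ (fun _ hH => hH.1)

theorem pCore_map_le_equiv (p : ℕ) (e : M ≃* M') :
    (pCore p M).map e.toMonoidHom ≤ pCore p M' := by
  rw [Subgroup.map_le_iff_le_comap]
  apply sSup_le
  rintro N ⟨hN, hp⟩
  rw [← Subgroup.map_le_iff_le_comap]
  apply le_sSup
  exact ⟨hN.map e.toMonoidHom e.surjective, hp.map e.toMonoidHom⟩

theorem mem_pCore_of_equiv {p : ℕ} (e : M ≃* M') {x : M} : e x ∈ pCore p M' ↔ x ∈ pCore p M := by
  constructor
  · intro h
    have h1 := pCore_map_le_equiv p e.symm (Subgroup.mem_map_of_mem _ h)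
    have h2 : e.symm.toMonoidHom (e x) = x := e.symm_apply_apply x
    rw [h2] at h1
    exact h1
  · intro h
    exact pCore_map_le_equiv p e (Subgroup.mem_map_of_mem _ h)

/-- `O_p(A) ∩ B ≤ O_p(B)` for `B ≤ A`. -/
theorem mem_pCoreMap_of_le {p : ℕ} {A B : Subgroup M} (hBA : B ≤ A) {x : M} (hxB : x ∈ B)
    (hx : x ∈ (pCore p A).map A.subtype) : x ∈ (pCore p B).map B.subtype := by
  have hn : (((pCore p A).map A.subtype).subgroupOf B).Normal := by
    constructor
    intro k hk b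
    rw [Subgroup.mem_subgroupOf] at hk ⊢
    obtain ⟨y, hy, hyk⟩ := hk
    refine ⟨⟨b, hBA b.2⟩ * y * ⟨b, hBA b.2⟩⁻¹, (pCore_normal_gen p A).conj_mem y hy _, ?_⟩
    have hyk' : (y : M) = (k : M) := hyk
    show (b : M) * (y : M) * (b : M)⁻¹ = (b : M) * (k : M) * (b : M)⁻¹
    rw [hyk']
  have hp : IsPGroup p (((pCore p A).map A.subtype).subgroupOf B) :=
    ((pCore_isPGroup_gen p A).map A.subtype).comap_of_injective B.subtype B.subtype_injective
  have hle : ((pCore p A).map A.subtype).subgroupOf B ≤ pCore p B := le_sSup ⟨hn, hp⟩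
  exact ⟨⟨x, hxB⟩, hle (Subgroup.mem_subgroupOf.2 hx), rfl⟩

theorem pCoreMap_congr {p : ℕ} {A B : Subgroup M} (h : A = B) :
    (pCore p A).map A.subtype = (pCore p B).map B.subtype := by
  subst h; rfl

/-- An element generating a normal `p`-subgroup lies in the `p`-core. -/
theorem mem_pCore_of_comm {p : ℕ} [Fact p.Prime] (hcomm : ∀ a b : M, a * b = b * a) {x : M} {n : ℕ}
    (hx : x ^ (p ^ n) = 1) : x ∈ pCore p M := by
  have hn : (Subgroup.zpowers x).Normal := by
    constructor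
    intro k hk b
    have e : b * k * b⁻¹ = k := by rw [hcomm b k, mul_inv_cancel_right]
    rw [e]; exact hk
  have hp : IsPGroup p (Subgroup.zpowers x) := by
    rintro ⟨y, hy⟩
    obtain ⟨k, rfl⟩ := Subgroup.mem_zpowers_iff.1 hy
    refine ⟨n, Subtype.ext ?_⟩
    show (x ^ k) ^ (p ^ n) = 1
    rw [← zpow_natCast, ← zpow_mul, mul_comm, zpow_mul, zpow_natCast, hx, one_zpow]
  exact (le_sSup ⟨hn, hp⟩ : Subgroup.zpowers x ≤ pCore p M) (Subgroup.mem_zpowers x)

/-- Quadratic action of an automorphism. -/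
def Quad {Q : Type*} [Group Q] (χ : MulAut Q) : Prop :=
  ∀ a : Q, (χ a⁻¹) * a * (χ a⁻¹) * (χ (χ a)) = 1

theorem quad_fix {Q : Type*} [Group Q] {χ : MulAut Q} (h : Quad χ) (a : Q) :
    χ (a⁻¹ * χ a) = a⁻¹ * χ a := by
  have h1 := h a
  rw [map_inv] at h1
  have h2 : χ (χ a) = χ a * a⁻¹ * χ a := by
    calc χ (χ a) = (χ a * a⁻¹ * χ a) * ((χ a)⁻¹ * a * (χ a)⁻¹ * χ (χ a)) := by group
      _ = χ a * a⁻¹ * χ a := by rw [h1, mul_one]
  rw [map_mul, map_inv, h2]
  group

theorem quad_pow {Q : Type*} [Group Q] {χ : MulAut Q} (h : Quad χ) (m : ℕ) (a : Q) :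
    (χ ^ m) a = a * (a⁻¹ * χ a) ^ m := by
  induction m with
  | zero => simp
  | succ m ih =>
    rw [pow_succ', MulAut.mul_apply, ih, map_mul, map_pow, quad_fix h a, pow_succ']
    rw [← mul_assoc, mul_inv_cancel_left]

theorem quad_pow_card {Q : Type*} [Group Q] [Finite Q] {χ : MulAut Q} (h : Quad χ) :
    χ ^ (Nat.card Q) = 1 := by
  ext a
  rw [quad_pow h, pow_card_eq_one', mul_one]
  rfl

theorem quad_congr {Q Q' : Type*} [Group Q] [Group Q'] (θ : Q ≃* Q') {χ : MulAut Q}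
    (h : Quad χ) : Quad (MulAut.congr θ χ) := by
  intro a'
  have h1 := h (θ.symm a')
  have e : ∀ y : Q', (MulAut.congr θ χ) y = θ (χ (θ.symm y)) := fun y => rfl
  rw [e, e, e]
  have h2 := congrArg θ h1
  rw [map_mul, map_mul, map_mul, map_one, θ.apply_symm_apply] at h2
  rw [θ.symm_apply_apply, map_inv]
  exact h2

end Grp

variable {Ω : Type*} [Group Ω] {S : Subgroup Ω}

theorem autGroup_congr_mem (F : FusionSystem S) {Q Q' : Subgroup Ω} {θ : Q ≃* Q'}
    (hθ : Helper26.IsIso F θ) {α : MulAut Q} (hα : α ∈ F.autGroup Q) :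
    MulAut.congr θ α ∈ F.autGroup Q' := by
  have hα' := (Helper26.mem_autGroup_iff F hθ.le_left α).1 hα
  apply (Helper26.mem_autGroup_iff F hθ.le_right _).2
  exact hθ.symm.trans (hα'.trans hθ)

/-- The isomorphism `Aut_F(Q) ≃ Aut_F(Q')` induced by an isomorphism of the system. -/
noncomputable def autGroupEquiv (F : FusionSystem S) {Q Q' : Subgroup Ω} {θ : Q ≃* Q'}
    (hθ : Helper26.IsIso F θ) : ↥(F.autGroup Q) ≃* ↥(F.autGroup Q') where
  toFun a := ⟨MulAut.congr θ a, autGroup_congr_mem F hθ a.2⟩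
  invFun b := ⟨MulAut.congr θ.symm b, autGroup_congr_mem F hθ.symm b.2⟩
  left_inv a := by
    apply Subtype.ext
    show MulAut.congr θ.symm (MulAut.congr θ (a : MulAut Q)) = a
    ext x
    simp [MulAut.congr]
  right_inv b := by
    apply Subtype.ext
    show MulAut.congr θ (MulAut.congr θ.symm (b : MulAut Q')) = b
    ext x
    simp [MulAut.congr]
  map_mul' a b := by
    apply Subtype.ext
    show MulAut.congr θ ((a : MulAut Q) * (b : MulAut Q)) = _
    rw [map_mul]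
    rfl

/-- `p`-stability of a fusion system, as in the statements. -/
def FStable (F : FusionSystem S) (p : ℕ) : Prop :=
  ∀ Q : Subgroup Ω, F.IsFullyNormalized Q → ∀ χ : MulAut ↥Q, χ ∈ F.autGroup Q →
    (∀ a : ↥Q, (χ a⁻¹) * a * (χ a⁻¹) * (χ (χ a)) = 1) →
    χ ∈ ((Cfsg.pCore p ↥(F.autGroup Q)).map (F.autGroup Q).subtype : Subgroup (MulAut ↥Q))

/-- A `p`-stable system satisfies the condition on every subgroup of `S`. -/
theorem fstable_all [Finite S] {F : FusionSystem S} {p : ℕ} (hst : FStable F p)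
    {Q : Subgroup Ω} (hQ : Q ≤ S) {χ : MulAut Q} (hχ : χ ∈ F.autGroup Q) (hq : Quad χ) :
    χ ∈ (pCore p ↥(F.autGroup Q)).map (F.autGroup Q).subtype := by
  obtain ⟨Q', hconj, hfn⟩ := Helper26.exists_fullyNormalized_conj F hQ
  obtain ⟨θ, hθ⟩ := (Helper26.isConj_iff F).1 hconj
  have h1 := hst Q' hfn (MulAut.congr θ χ) (autGroup_congr_mem F hθ hχ) (quad_congr θ hq)
  obtain ⟨b, hb, hbχ⟩ := h1
  have e : b = autGroupEquiv F hθ ⟨χ, hχ⟩ := Subtype.ext hbχ
  rw [e] at hb
  exact ⟨⟨χ, hχ⟩, (mem_pCore_of_equiv _).1 hb, rfl⟩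

end Cfsg.Agent.Helper25
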