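import Mathlib
import Cfsg.Prelude.Def_FusionSystem
import Cfsg.Prelude.Def_LocalEven
import Cfsg.Agent.Helper25.PStable
import Cfsg.Agent.Helper25.GroupFusion2

set_option autoImplicit false

namespace Cfsg.Agent.Helper25

open Cfsg Cfsg.FusionSystem
open scoped commutatorElement

section

variable {Q Q' : Type*} [Group Q] [Group Q']

/-- The isomorphism between subgroups of automorphism groups that correspond under an isomorphism
of the underlying groups. -/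
noncomputable def congrSubEquiv (θ : Q ≃* Q') (A : Subgroup (MulAut Q)) (A' : Subgroup (MulAut Q'))
    (h₁ : ∀ a ∈ A, MulAut.congr θ a ∈ A') (h₂ : ∀ b ∈ A', MulAut.congr θ.symm b ∈ A) :
    ↥A ≃* ↥A' where
  toFun a := ⟨MulAut.congr θ a, h₁ a a.2⟩
  invFun b := ⟨MulAut.congr θ.symm b, h₂ b b.2⟩
  left_inv a := by
    apply Subtype.ext
    show MulAut.congr θ.symm (MulAut.congr θ (a : MulAut Q)) = a
    ext x
    simp [MulAut.congr]
  right_inv b := by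
    apply Subtype.ext
    show MulAut.congr θ (MulAut.congr θ.symm (b : MulAut Q')) = b
    ext x
    simp [MulAut.congr]
  map_mul' a b := by
    apply Subtype.ext
    show MulAut.congr θ ((a : MulAut Q) * (b : MulAut Q)) = _
    rw [map_mul]
    rfl

theorem mem_pCoreMap_of_congr {p : ℕ} (θ : Q ≃* Q') (A : Subgroup (MulAut Q))
    (A' : Subgroup (MulAut Q'))
    (h₁ : ∀ a ∈ A, MulAut.congr θ a ∈ A') (h₂ : ∀ b ∈ A', MulAut.congr θ.symm b ∈ A)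
    {χ : MulAut Q} (hχ : χ ∈ A)
    (h : MulAut.congr θ χ ∈ (pCore p ↥A').map A'.subtype) : χ ∈ (pCore p ↥A).map A.subtype := by
  obtain ⟨b, hb, hbχ⟩ := h
  have e : b = congrSubEquiv θ A A' h₁ h₂ ⟨χ, hχ⟩ := Subtype.ext hbχ
  rw [e] at hb
  exact ⟨⟨χ, hχ⟩, (mem_pCore_of_equiv _).1 hb, rfl⟩

end

variable {G : Type*} [Group G]

/-- The conjugation condition equivalent to quadratic action. -/
def QC (Q : Subgroup G) (g : G) : Prop := ∀ b ∈ Q, Commute (b * g * b⁻¹) g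

theorem qc_of_comm {Q : Subgroup G} {g : G}
    (h : ⁅⁅Q, Subgroup.zpowers g⁆, Subgroup.zpowers g⁆ = ⊥) : QC Q g := by
  intro b hb
  have h1 : ⁅⁅b, g⁆, g⁆ ∈ ⁅⁅Q, Subgroup.zpowers g⁆, Subgroup.zpowers g⁆ :=
    Subgroup.commutator_mem_commutator
      (Subgroup.commutator_mem_commutator hb (Subgroup.mem_zpowers g)) (Subgroup.mem_zpowers g)
  rw [h, Subgroup.mem_bot] at h1
  have h2 : Commute ⁅b, g⁆ g := commutatorElement_eq_one_iff_commute.1 h1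
  have h3 : b * g * b⁻¹ = ⁅b, g⁆ * g := by rw [commutatorElement_def]; group
  rw [h3]
  exact h2.mul_left (Commute.refl g)

theorem comm_of_qc {Q : Subgroup G} {g : G} (h : QC Q g) :
    ⁅⁅Q, Subgroup.zpowers g⁆, Subgroup.zpowers g⁆ = ⊥ := by
  rw [Subgroup.commutator_eq_bot_iff_le_centralizer, Subgroup.commutator_le]
  intro a ha y hy
  obtain ⟨k, rfl⟩ := Subgroup.mem_zpowers_iff.1 hy
  rw [Subgroup.mem_centralizer_iff]
  intro z hz
  obtain ⟨m, rfl⟩ := Subgroup.mem_zpowers_iff.1 hz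
  have h1 : Commute (a * g * a⁻¹) g := h a ha
  have h2 : ⁅a, g ^ k⁆ = (a * g * a⁻¹) ^ k * (g ^ k)⁻¹ := by
    rw [commutatorElement_def, conj_zpow]
  have h3 : Commute ((a * g * a⁻¹) ^ k * (g ^ k)⁻¹) (g ^ m) :=
    ((h1.zpow_left k).mul_left ((Commute.refl g).zpow_left k).inv_left).zpow_right m
  rw [h2]
  exact h3.eq.symm

theorem qc_conj {Q : Subgroup G} {g : G} (h : QC Q g) (c : G) :
    QC (conjBy Q c) (c * g * c⁻¹) := by
  intro b hb
  rw [mem_conjBy] at hb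
  have h1 := h _ hb
  have h2 : b * (c * g * c⁻¹) * b⁻¹ = c * ((c⁻¹ * b * c) * g * (c⁻¹ * b * c)⁻¹) * c⁻¹ := by group
  rw [h2]
  show c * ((c⁻¹ * b * c) * g * (c⁻¹ * b * c)⁻¹) * c⁻¹ * (c * g * c⁻¹) =
    c * g * c⁻¹ * (c * ((c⁻¹ * b * c) * g * (c⁻¹ * b * c)⁻¹) * c⁻¹)
  have h3 := h1.eq
  calc c * ((c⁻¹ * b * c) * g * (c⁻¹ * b * c)⁻¹) * c⁻¹ * (c * g * c⁻¹)
      = c * (((c⁻¹ * b * c) * g * (c⁻¹ * b * c)⁻¹) * g) * c⁻¹ := by group
    _ = c * (g * ((c⁻¹ * b * c) * g * (c⁻¹ * b * c)⁻¹)) * c⁻¹ := by rw [h3]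
    _ = c * g * c⁻¹ * (c * ((c⁻¹ * b * c) * g * (c⁻¹ * b * c)⁻¹) * c⁻¹) := by group

theorem quad_of_qc {Q : Subgroup G} {g : G} (h : QC Q g) {χ : MulAut Q}
    (hχ : ∀ x : Q, ((χ x : Q) : G) = g * x * g⁻¹) : Quad χ := by
  intro a
  apply Subtype.ext
  show ((χ a⁻¹ : Q) : G) * (a : G) * ((χ a⁻¹ : Q) : G) * ((χ (χ a) : Q) : G) = 1
  rw [hχ, hχ, hχ]
  have h1 := (h (a : G)⁻¹ (Subgroup.inv_mem _ a.2)).eq
  rw [inv_inv] at h1
  show g * ((a : G)⁻¹) * g⁻¹ * (a : G) * (g * ((a : G)⁻¹) * g⁻¹) * (g * (g * (a : G) * g⁻¹) * g⁻¹) = 1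
  calc g * ((a : G)⁻¹) * g⁻¹ * (a : G) * (g * ((a : G)⁻¹) * g⁻¹) * (g * (g * (a : G) * g⁻¹) * g⁻¹)
      = g * (a : G)⁻¹ * g⁻¹ * (a : G) * (g * ((a : G)⁻¹ * g * (a : G))) * g⁻¹ * g⁻¹ := by group
    _ = g * (a : G)⁻¹ * g⁻¹ * (a : G) * ((a : G)⁻¹ * g * (a : G) * g) * g⁻¹ * g⁻¹ := by
        rw [← h1]
    _ = 1 := by group

theorem qc_of_quad {Q : Subgroup G} {g : G} {χ : MulAut Q}
    (hχ : ∀ x : Q, ((χ x : Q) : G) = g * x * g⁻¹) (h : Quad χ) : QC Q g := by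
  intro b hb
  have h1 := quad_fix h (⟨b, hb⟩⁻¹ : Q)
  have h2 := congrArg (Subtype.val : Q → G) h1
  rw [hχ] at h2
  have h3 : (((⟨b, hb⟩⁻¹ : Q)⁻¹ * χ (⟨b, hb⟩⁻¹ : Q) : Q) : G) = b * (g * b⁻¹ * g⁻¹) := by
    show ((⟨b, hb⟩⁻¹ : Q) : G)⁻¹ * ((χ (⟨b, hb⟩⁻¹ : Q) : Q) : G) = _
    rw [hχ]
    show (b⁻¹)⁻¹ * (g * b⁻¹ * g⁻¹) = _
    rw [inv_inv]
  rw [h3] at h2
  show b * g * b⁻¹ * g = g * (b * g * b⁻¹)
  calc b * g * b⁻¹ * g = (b * (g * b⁻¹ * g⁻¹)) * g * g := by group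
    _ = (g * (b * (g * b⁻¹ * g⁻¹)) * g⁻¹) * g * g := by rw [h2]
    _ = g * (b * g * b⁻¹) := by group

theorem range_normalizerMonoidHom (Q : Subgroup G) :
    Q.normalizerMonoidHom.range = autInducedBy ⊤ Q := by
  ext α
  rw [mem_autInducedBy_iff]
  constructor
  · rintro ⟨x, rfl⟩
    exact ⟨x, Subgroup.mem_top _, fun y => rfl⟩
  · rintro ⟨g, -, hg⟩
    refine ⟨⟨g, mem_normalizer_of_aut hg⟩, ?_⟩
    ext y
    exact (hg y).symm

theorem mk_mem_pCore_iff {p : ℕ} (Q : Subgroup G) {g : G}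
    (hg : g ∈ Subgroup.normalizer (Q : Set G)) {χ : MulAut Q}
    (hχ : ∀ x : Q, ((χ x : Q) : G) = g * x * g⁻¹) :
    (QuotientGroup.mk (s := (Subgroup.centralizer (Q : Set G)).subgroupOf
        (Subgroup.normalizer (Q : Set G))) (⟨g, hg⟩ : ↥(Subgroup.normalizer (Q : Set G)))) ∈
      pCore p (↥(Subgroup.normalizer (Q : Set G)) ⧸
        (Subgroup.centralizer (Q : Set G)).subgroupOf (Subgroup.normalizer (Q : Set G))) ↔
    χ ∈ (pCore p ↥(autInducedBy ⊤ Q)).map (autInducedBy ⊤ Q).subtype := by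
  have hrange := range_normalizerMonoidHom Q
  have hν : Q.normalizerMonoidHom ⟨g, hg⟩ = χ := by
    ext y
    exact (hχ y).symm
  rw [← pCoreMap_congr hrange,
    ← mem_pCore_of_equiv ((QuotientGroup.quotientMulEquivOfEq
      (Subgroup.normalizerMonoidHom_ker (H := Q)).symm).trans
      (QuotientGroup.quotientKerEquivRange Q.normalizerMonoidHom))]
  have he : ((((QuotientGroup.quotientMulEquivOfEq
      (Subgroup.normalizerMonoidHom_ker (H := Q)).symm).trans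
      (QuotientGroup.quotientKerEquivRange Q.normalizerMonoidHom))
      (QuotientGroup.mk (⟨g, hg⟩ : ↥(Subgroup.normalizer (Q : Set G)))) :
        Q.normalizerMonoidHom.range) : MulAut Q) = χ := hν
  constructor
  · intro h
    exact ⟨_, h, he⟩
  · rintro ⟨b, hb, hbχ⟩
    have e : b = ((QuotientGroup.quotientMulEquivOfEq
      (Subgroup.normalizerMonoidHom_ker (H := Q)).symm).trans
      (QuotientGroup.quotientKerEquivRange Q.normalizerMonoidHom))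
      (QuotientGroup.mk (⟨g, hg⟩ : ↥(Subgroup.normalizer (Q : Set G)))) :=
      Subtype.ext (hbχ.trans he.symm)
    rw [e] at hb
    exact hb

end Cfsg.Agent.Helper25
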