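import Mathlib
import Cfsg.Agent.Helper25.Realized2
import Cfsg.Agent.Helper25.SubFus
import Cfsg.Agent.Helper26.FusSat

set_option autoImplicit false

namespace Cfsg.Agent.Helper25

open Cfsg Cfsg.FusionSystem

section GroupCore

variable {G : Type*} [Group G]

/-- Frattini argument for `S ∩ N`, elementwise. -/
theorem frattini_core [Finite G] {p : ℕ} [Fact p.Prime] (S : Sylow p G) (N : Subgroup G)
    [hN : N.Normal] (g : G) :
    ∃ m ∈ N, g * m⁻¹ ∈ Subgroup.normalizer (((S : Subgroup G) ⊓ N : Subgroup G) : Set G) := by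
  have hcard := card_sylow_inf_normal S N
  have hSp : IsPGroup p (S : Subgroup G) := S.isPGroup'
  have hTp : IsPGroup p ((S : Subgroup G) ⊓ N : Subgroup G) := hSp.to_le inf_le_left
  have hT1p : IsPGroup p (conjBy ((S : Subgroup G) ⊓ N) g⁻¹) := hTp.map _
  have hT1N : conjBy ((S : Subgroup G) ⊓ N) g⁻¹ ≤ N := by
    intro y hy
    rw [mem_conjBy] at hy
    have h1 := hN.conj_mem _ hy.2 g⁻¹
    have h2 : g⁻¹ * (g⁻¹⁻¹ * y * g⁻¹) * g⁻¹⁻¹ = y := by group
    rw [h2] at h1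
    exact h1
  obtain ⟨m, hmN, hm⟩ := exists_conj_le_of_card (K := (S : Subgroup G) ⊓ N) (H := N)
    inf_le_right hcard hT1p hT1N
  rw [conjBy_conjBy] at hm
  have hmg : m * g⁻¹ ∈ Subgroup.normalizer (((S : Subgroup G) ⊓ N : Subgroup G) : Set G) := by
    apply Helper9.mem_normalizer_of_conj_le
    intro q hq
    apply hm
    rw [mem_conjBy]
    have h2 : (m * g⁻¹)⁻¹ * (m * g⁻¹ * q * (m * g⁻¹)⁻¹) * (m * g⁻¹) = q := by group
    rw [h2]; exact hq
  refine ⟨m, hmN, ?_⟩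
  have h1 := Subgroup.inv_mem _ hmg
  have h2 : (m * g⁻¹)⁻¹ = g * m⁻¹ := by group
  rw [h2] at h1; exact h1

/-- Core of the extension condition: an element of `N` normalizing `S ∩ N` may be corrected, without
changing its action on `S ∩ N`, to an element of `N` normalizing `C_S(S ∩ N)` as well. -/
theorem normal_ext_core [Finite G] {p : ℕ} [Fact p.Prime] (S : Sylow p G) (N : Subgroup G)
    [hN : N.Normal] {n : G} (hnN : n ∈ N)
    (hnT : n ∈ Subgroup.normalizer (((S : Subgroup G) ⊓ N : Subgroup G) : Set G)) :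
    ∃ n₂ ∈ N, n₂ ∈ Subgroup.normalizer
        ((centralizerIn (S : Subgroup G) ((S : Subgroup G) ⊓ N) : Subgroup G) : Set G) ∧
      ∀ x ∈ ((S : Subgroup G) ⊓ N : Subgroup G), n₂ * x * n₂⁻¹ = n * x * n⁻¹ := by
  have hSp : IsPGroup p (S : Subgroup G) := S.isPGroup'
  have hSN : (S : Subgroup G) ≤ Subgroup.normalizer (((S : Subgroup G) ⊓ N : Subgroup G) : Set G) := by
    intro s hs
    apply Helper9.mem_normalizer_of_conj_le
    intro q hq
    exact ⟨Subgroup.mul_mem _ (Subgroup.mul_mem _ hs hq.1) (Subgroup.inv_mem _ hs),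
      hN.conj_mem q hq.2 s⟩
  have hcN : Nat.card ((S : Subgroup G) ⊓ Subgroup.normalizer
      (((S : Subgroup G) ⊓ N : Subgroup G) : Set G) : Subgroup G) =
      p ^ (Nat.card (Subgroup.normalizer (((S : Subgroup G) ⊓ N : Subgroup G) : Set G))).factorization p :=
    card_inf_of_normalizes (K := (S : Subgroup G)) (H' := ⊤) le_top (sylow_card_top S)
      hSp le_top (hSN.trans Subgroup.le_normalizer)
  have hcC := centralizer_sylow_of_normalizer S hcN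
  obtain ⟨C, hCdef⟩ : ∃ C : Subgroup G,
      C = centralizerIn (S : Subgroup G) ((S : Subgroup G) ⊓ N) := ⟨_, rfl⟩
  have hCS : C ≤ (S : Subgroup G) := by rw [hCdef]; exact inf_le_left
  have hCc : C ≤ Subgroup.centralizer (((S : Subgroup G) ⊓ N : Subgroup G) : Set G) := by
    rw [hCdef]; exact inf_le_right
  have hCcard : Nat.card C = p ^ (Nat.card (Subgroup.centralizer
      (((S : Subgroup G) ⊓ N : Subgroup G) : Set G))).factorization p := by
    rw [hCdef]; exact hcC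
  obtain ⟨D₁, hD₁⟩ : ∃ D₁ : Subgroup G, D₁ = (N ⊓ Subgroup.centralizer
      (((S : Subgroup G) ⊓ N : Subgroup G) : Set G)) ⊔ C := ⟨_, rfl⟩
  have hCD : C ≤ D₁ := by rw [hD₁]; exact le_sup_right
  have hD₁c : D₁ ≤ Subgroup.centralizer (((S : Subgroup G) ⊓ N : Subgroup G) : Set G) := by
    rw [hD₁]; exact sup_le inf_le_right hCc
  have hCp : IsPGroup p C := hSp.to_le hCS
  have hCcard' : Nat.card C = p ^ (Nat.card D₁).factorization p := by
    have h0 := card_inf_of_normalizes (K := C)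
      (H' := Subgroup.centralizer (((S : Subgroup G) ⊓ N : Subgroup G) : Set G)) (M := D₁)
      hCc hCcard hCp hD₁c (hCD.trans Subgroup.le_normalizer)
    rwa [inf_eq_left.2 hCD] at h0
  have hnC : conjBy C n ≤ D₁ := by
    intro y hy
    rw [mem_conjBy] at hy
    have h1 : y = (n * (n⁻¹ * y * n) * n⁻¹ * (n⁻¹ * y * n)⁻¹) * (n⁻¹ * y * n) := by group
    rw [h1, hD₁]
    refine Subgroup.mul_mem _ (Subgroup.mem_sup_left ⟨?_, ?_⟩) (Subgroup.mem_sup_right hy)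
    · have h2 : n * (n⁻¹ * y * n) * n⁻¹ * (n⁻¹ * y * n)⁻¹ =
          n * ((n⁻¹ * y * n) * n⁻¹ * (n⁻¹ * y * n)⁻¹) := by group
      rw [h2]
      exact N.mul_mem hnN (hN.conj_mem _ (N.inv_mem hnN) _)
    · exact Subgroup.mul_mem _ (conj_mem_centralizer_of_normalizer hnT (hCc hy))
        (Subgroup.inv_mem _ (hCc hy))
  obtain ⟨d, hdD, hd⟩ := exists_conj_le_of_card (K := C) (H := D₁) hCD hCcard' (hCp.map _) hnC
  rw [conjBy_conjBy] at hd
  have hdnC : d * n ∈ Subgroup.normalizer (C : Set G) := by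
    apply Helper9.mem_normalizer_of_conj_le
    intro q hq
    apply hd
    rw [mem_conjBy]
    have h2 : (d * n)⁻¹ * (d * n * q * (d * n)⁻¹) * (d * n) = q := by group
    rw [h2]; exact hq
  have hW : D₁ ≤ (C.map (QuotientGroup.mk' N)).comap (QuotientGroup.mk' N) := by
    rw [hD₁]
    refine sup_le ?_ ?_
    · intro y hy
      rw [Subgroup.mem_comap]
      have h0 : (QuotientGroup.mk' N) y = 1 := (QuotientGroup.eq_one_iff y).2 hy.1
      rw [h0]; exact Subgroup.one_mem _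
    · intro y hy
      exact ⟨y, hy, rfl⟩
  obtain ⟨s, hsC, hs⟩ := hW hdD
  have hsd : s⁻¹ * d ∈ N := QuotientGroup.eq.1 hs
  obtain ⟨n₂, hn₂def⟩ : ∃ n₂ : G, n₂ = s⁻¹ * d * n := ⟨_, rfl⟩
  have hn₂N : n₂ ∈ N := by rw [hn₂def]; exact N.mul_mem hsd hnN
  have hn₂C : n₂ ∈ Subgroup.normalizer (C : Set G) := by
    rw [hn₂def, mul_assoc]
    exact Subgroup.mul_mem _ (Subgroup.inv_mem _ (Subgroup.le_normalizer hsC)) hdnC
  have hn₂x : ∀ x ∈ ((S : Subgroup G) ⊓ N : Subgroup G), n₂ * x * n₂⁻¹ = n * x * n⁻¹ := by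
    intro x hx
    have h1 : n * x * n⁻¹ ∈ ((S : Subgroup G) ⊓ N : Subgroup G) :=
      (Subgroup.mem_normalizer_iff.1 hnT x).1 hx
    have hsd' : s⁻¹ * d ∈ Subgroup.centralizer (((S : Subgroup G) ⊓ N : Subgroup G) : Set G) :=
      Subgroup.mul_mem _ (Subgroup.inv_mem _ (hCc hsC)) (hD₁c hdD)
    have h2 := Subgroup.mem_centralizer_iff.1 hsd' _ h1
    rw [hn₂def]
    calc s⁻¹ * d * n * x * (s⁻¹ * d * n)⁻¹ = (s⁻¹ * d) * (n * x * n⁻¹) * (s⁻¹ * d)⁻¹ := by group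
      _ = (n * x * n⁻¹) * (s⁻¹ * d) * (s⁻¹ * d)⁻¹ := by rw [h2]
      _ = n * x * n⁻¹ := by group
  subst hCdef
  exact ⟨n₂, hn₂N, hn₂C, hn₂x⟩

end GroupCore

variable {Ω : Type*} [Group Ω] {S : Subgroup Ω} {G : Type*} [Group G]

/-- The preimage in `Ω` (inside `S`) of a subgroup of `G`. -/
def preSub (ι : S →* G) (N : Subgroup G) : Subgroup Ω := (N.comap ι).map S.subtype

theorem mem_preSub {ι : S →* G} {N : Subgroup G} {x : Ω} :
    x ∈ preSub ι N ↔ ∃ h : x ∈ S, ι ⟨x, h⟩ ∈ N := by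
  constructor
  · rintro ⟨s, hs, rfl⟩
    exact ⟨s.2, hs⟩
  · rintro ⟨h, hx⟩
    exact ⟨⟨x, h⟩, hx, rfl⟩

theorem preSub_le (ι : S →* G) (N : Subgroup G) : preSub ι N ≤ S := by
  intro x hx
  exact (mem_preSub.1 hx).1

theorem preSub_mem {ι : S →* G} {N : Subgroup G} {x : Ω} (hx : x ∈ preSub ι N) :
    ι ⟨x, preSub_le ι N hx⟩ ∈ N := (mem_preSub.1 hx).2

theorem imSub_preSub (ι : S →* G) (N : Subgroup G) : imSub ι (preSub ι N) = ι.range ⊓ N := by
  ext y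
  rw [mem_imSub, Subgroup.mem_inf]
  constructor
  · rintro ⟨x, hx, rfl⟩
    exact ⟨⟨x, rfl⟩, preSub_mem hx⟩
  · rintro ⟨⟨x, rfl⟩, hx⟩
    exact ⟨x, mem_preSub.2 ⟨x.2, hx⟩, rfl⟩

/-- The fusion system induced by the subgroup `N` of `G` on the preimage of `N` in `S`. -/
def realSub (ι : S →* G) (hinj : Function.Injective ι) (N : Subgroup G) :
    FusionSystem (preSub ι N) where
  Hom P := {φ | P ≤ preSub ι N ∧ (∀ x : P, φ x ∈ preSub ι N) ∧ ∃ n ∈ N,
    ∀ (x : P) (hx : (x : Ω) ∈ S) (hφx : φ x ∈ S), ι ⟨φ x, hφx⟩ = n * ι ⟨x, hx⟩ * n⁻¹}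
  le_of_mem h := ⟨h.1, h.2.1⟩
  injective_of_mem := by
    rintro P φ ⟨hP, hφ, n, -, hn⟩ x y hxy
    have hPS := hP.trans (preSub_le ι N)
    have h1 := hn x (hPS x.2) (preSub_le ι N (hφ x))
    have h2 := hn y (hPS y.2) (preSub_le ι N (hφ y))
    have h3 : ι ⟨φ x, preSub_le ι N (hφ x)⟩ = ι ⟨φ y, preSub_le ι N (hφ y)⟩ := by
      congr 2
    rw [h1, h2] at h3
    have h4 : ι ⟨x, hPS x.2⟩ = ι ⟨y, hPS y.2⟩ := by
      have := congrArg (fun z => n⁻¹ * z * n) h3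
      simpa [mul_assoc] using this
    have h5 : (⟨x, hPS x.2⟩ : S) = ⟨y, hPS y.2⟩ := hinj h4
    exact Subtype.ext (Subtype.mk.inj h5)
  conj_mem := by
    intro P g hP hg
    refine ⟨hP, fun x => ?_, ι ⟨g, preSub_le ι N hg⟩, preSub_mem hg, fun x hx hφx => ?_⟩
    · exact Subgroup.mul_mem _ (Subgroup.mul_mem _ hg (hP x.2)) (Subgroup.inv_mem _ hg)
    · have e : (⟨conjHom P g x, hφx⟩ : S) =
          ⟨g, preSub_le ι N hg⟩ * ⟨x, hx⟩ * ⟨g, preSub_le ι N hg⟩⁻¹ := Subtype.ext rfl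
      rw [e, map_mul, map_mul, map_inv]
  comp_mem := by
    rintro P Q φ ψ ⟨hP, hφ, n, hn, hφn⟩ ⟨hQ, hψ, m, hm, hψm⟩ h
    refine ⟨hP, fun x => hψ _, m * n, N.mul_mem hm hn, fun x hx hφx => ?_⟩
    have h1 := hφn x hx (preSub_le ι N (hφ x))
    have h2 := hψm (φ.codRestrict Q h x) (preSub_le ι N (hφ x)) hφx
    have h3 : ι ⟨(ψ.comp (φ.codRestrict Q h)) x, hφx⟩ =
        m * ι ⟨φ x, preSub_le ι N (hφ x)⟩ * m⁻¹ := h2
    rw [h3, h1]
    group
  inv_mem := by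
    rintro P φ ⟨hP, hφ, n, hn, hφn⟩
    have hPS := hP.trans (preSub_le ι N)
    have hφinj : Function.Injective φ := by
      intro x y hxy
      have h1 := hφn x (hPS x.2) (preSub_le ι N (hφ x))
      have h2 := hφn y (hPS y.2) (preSub_le ι N (hφ y))
      have h3 : ι ⟨φ x, preSub_le ι N (hφ x)⟩ = ι ⟨φ y, preSub_le ι N (hφ y)⟩ := by
        congr 2
      rw [h1, h2] at h3
      have h4 : ι ⟨x, hPS x.2⟩ = ι ⟨y, hPS y.2⟩ := by
        have := congrArg (fun z => n⁻¹ * z * n) h3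
        simpa [mul_assoc] using this
      have h5 : (⟨x, hPS x.2⟩ : S) = ⟨y, hPS y.2⟩ := hinj h4
      exact Subtype.ext (Subtype.mk.inj h5)
    have hψx : ∀ x : P, (P.subtype.comp (MonoidHom.ofInjective hφinj).symm.toMonoidHom)
        ⟨φ x, ⟨x, rfl⟩⟩ = (x : Ω) := by
      intro x
      have e : (⟨φ x, ⟨x, rfl⟩⟩ : φ.range) = MonoidHom.ofInjective hφinj x := Subtype.ext rfl
      show (((MonoidHom.ofInjective hφinj).symm ⟨φ x, ⟨x, rfl⟩⟩ : P) : Ω) = x
      rw [e, MulEquiv.symm_apply_apply]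
    refine ⟨P.subtype.comp (MonoidHom.ofInjective hφinj).symm.toMonoidHom, ⟨?_, ?_, n⁻¹,
      N.inv_mem hn, ?_⟩, hψx⟩
    · rintro _ ⟨x, rfl⟩
      exact hφ x
    · intro y
      exact hP ((MonoidHom.ofInjective hφinj).symm y).2
    · rintro ⟨_, x, rfl⟩ hy hψy
      have h1 := hφn x (hPS x.2) hy
      have h2 : (⟨(P.subtype.comp (MonoidHom.ofInjective hφinj).symm.toMonoidHom)
          ⟨φ x, ⟨x, rfl⟩⟩, hψy⟩ : S) = ⟨x, hPS x.2⟩ := Subtype.ext (hψx x)
      rw [h2, h1]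
      group

theorem mem_realSub {ι : S →* G} {hinj : Function.Injective ι} {N : Subgroup G} {P : Subgroup Ω}
    {φ : P →* Ω} :
    φ ∈ (realSub ι hinj N).Hom P ↔ P ≤ preSub ι N ∧ (∀ x : P, φ x ∈ preSub ι N) ∧ ∃ n ∈ N,
      ∀ (x : P) (hx : (x : Ω) ∈ S) (hφx : φ x ∈ S), ι ⟨φ x, hφx⟩ = n * ι ⟨x, hx⟩ * n⁻¹ :=
  Iff.rfl

/-- The restriction of `ι` to the preimage of `N`, with values in `N`. -/
def preHom (ι : S →* G) (N : Subgroup G) : ↥(preSub ι N) →* ↥N :=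
  (ι.comp (Subgroup.inclusion (preSub_le ι N))).codRestrict N (fun x => preSub_mem x.2)

theorem realSub_isRealizedBy (ι : S →* G) (hinj : Function.Injective ι) (N : Subgroup G) :
    (realSub ι hinj N).IsRealizedBy (preHom ι N) := by
  refine ⟨?_, ?_⟩
  · intro x y hxy
    have h1 : ι ⟨x, preSub_le ι N x.2⟩ = ι ⟨y, preSub_le ι N y.2⟩ := congrArg Subtype.val hxy
    have h2 := hinj h1
    exact Subtype.ext (Subtype.mk.inj h2)
  · intro P hP φ hφ
    constructor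
    · rintro ⟨-, -, n, hn, hφn⟩
      refine ⟨⟨n, hn⟩, fun x => Subtype.ext ?_⟩
      exact hφn x _ _
    · rintro ⟨g, hg⟩
      refine ⟨hP, hφ, g, g.2, fun x hx hφx => ?_⟩
      exact congrArg Subtype.val (hg x)

theorem preHom_range_sylow [Finite G] {p : ℕ} [Fact p.Prime] (ι : S →* G) (T : Sylow p G)
    (hT : (T : Subgroup G) = ι.range) (N : Subgroup G) [N.Normal] :
    ∃ T' : Sylow p N, (T' : Subgroup N) = (preHom ι N).range := by
  have hcard := card_sylow_inf_normal T N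
  have e : ((preHom ι N).range).map N.subtype = (T : Subgroup G) ⊓ N := by
    ext y
    constructor
    · rintro ⟨_, ⟨x, rfl⟩, rfl⟩
      exact ⟨by rw [hT]; exact ⟨_, rfl⟩, (preHom ι N x).2⟩
    · rintro ⟨h1, h2⟩
      rw [hT] at h1
      obtain ⟨s, rfl⟩ := h1
      exact ⟨⟨ι s, h2⟩, ⟨⟨s, mem_preSub.2 ⟨s.2, h2⟩⟩, Subtype.ext rfl⟩, rfl⟩
  have hc : Nat.card (preHom ι N).range = p ^ (Nat.card N).factorization p := by
    rw [← hcard, ← e, Subgroup.card_map_of_injective N.subtype_injective]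
  exact ⟨Sylow.ofCard _ hc, rfl⟩

/-- An element of `G` normalizing the image of `Q` induces an automorphism in `Aut_F(Q)`. -/
theorem realized_aut_of_conj {F : FusionSystem S} {ι : S →* G} (hR : F.IsRealizedBy ι)
    {Q : Subgroup Ω} (hQ : Q ≤ S) {h : G}
    (hh : h ∈ Subgroup.normalizer (imSub ι Q : Set G)) :
    ∃ α ∈ F.autGroup Q, ∀ x : Q, ι ⟨(α x : Q), hQ (α x).2⟩ = h * ι ⟨x, hQ x.2⟩ * h⁻¹ := by
  have hinj := hR.1
  have hmem : ∀ x : Q, h * ι ⟨x, hQ x.2⟩ * h⁻¹ ∈ imSub ι Q := fun x =>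
    (Subgroup.mem_normalizer_iff.1 hh _).1 (mem_imSub_of_mem hQ x.2)
  obtain ⟨φ, hφS, hφF, hφ⟩ := realized_hom_of_conj hR hQ h
    (fun x => imSub_le_range ι Q (hmem x))
  have hφQ : ∀ x : Q, φ x ∈ Q := by
    intro x
    obtain ⟨y, hy, hyx⟩ := mem_imSub.1 (hmem x)
    rw [← hφ x] at hyx
    have h1 := hinj hyx
    have h2 : (y : Ω) = φ x := congrArg Subtype.val h1
    rw [← h2]; exact hy
  have hbij : Function.Bijective (φ.codRestrict Q hφQ) := by
    constructor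
    · intro a b hab
      exact F.injective_of_mem hφF (congrArg Subtype.val hab)
    · intro y
      have h1 : h⁻¹ * ι ⟨y, hQ y.2⟩ * h ∈ imSub ι Q :=
        (Subgroup.mem_normalizer_iff''.1 hh _).1 (mem_imSub_of_mem hQ y.2)
      obtain ⟨x, hx, hxy⟩ := mem_imSub.1 h1
      refine ⟨⟨x, hx⟩, Subtype.ext ?_⟩
      have h2 : ι ⟨φ ⟨x, hx⟩, hφS _⟩ = ι ⟨y, hQ y.2⟩ := by
        rw [hφ]
        have h3 : ι ⟨((⟨x, hx⟩ : Q) : Ω), hQ hx⟩ = h⁻¹ * ι ⟨y, hQ y.2⟩ * h := hxy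
        rw [h3]; group
      have h4 := hinj h2
      exact Subtype.mk.inj h4
  refine ⟨MulEquiv.ofBijective (φ.codRestrict Q hφQ) hbij, ?_, fun x => hφ x⟩
  apply Subgroup.subset_closure
  show Q.subtype.comp (MulEquiv.ofBijective (φ.codRestrict Q hφQ) hbij).toMonoidHom ∈ F.Hom Q
  have e : Q.subtype.comp (MulEquiv.ofBijective (φ.codRestrict Q hφQ) hbij).toMonoidHom = φ := by
    ext x; rfl
  rw [e]; exact hφF

theorem imSub_sup (ι : S →* G) {A B : Subgroup Ω} (hA : A ≤ S) (hB : B ≤ S) :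
    imSub ι (A ⊔ B) = imSub ι A ⊔ imSub ι B := by
  unfold imSub
  rw [Subgroup.subgroupOf_sup hA hB, Subgroup.map_sup]

theorem mem_centralizer_imSub {ι : S →* G} (hinj : Function.Injective ι) {Q : Subgroup Ω}
    (hQ : Q ≤ S) (s : S) :
    ι s ∈ Subgroup.centralizer (imSub ι Q : Set G) ↔
      (s : Ω) ∈ Subgroup.centralizer (Q : Set Ω) := by
  rw [Subgroup.mem_centralizer_iff, Subgroup.mem_centralizer_iff]
  constructor
  · intro h y hy
    have h1 := h _ (mem_imSub_of_mem hQ hy)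
    rw [← map_mul, ← map_mul] at h1
    exact congrArg Subtype.val (hinj h1)
  · intro h y hy
    obtain ⟨x, hx, rfl⟩ := mem_imSub.1 hy
    rw [← map_mul, ← map_mul]
    congr 1
    exact Subtype.ext (h _ hx)

theorem imSub_centralizerIn {ι : S →* G} (hinj : Function.Injective ι) {Q : Subgroup Ω}
    (hQ : Q ≤ S) : imSub ι (centralizerIn S Q) = centralizerIn ι.range (imSub ι Q) := by
  ext y
  rw [mem_imSub]
  constructor
  · rintro ⟨x, hx, rfl⟩
    exact ⟨⟨x, rfl⟩, (mem_centralizer_imSub hinj hQ x).2 hx.2⟩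
  · rintro ⟨⟨x, rfl⟩, hx⟩
    exact ⟨x, ⟨x.2, (mem_centralizer_imSub hinj hQ x).1 hx⟩, rfl⟩

/-- The system induced by a normal subgroup `N` of the realizing group is normal in the realized
system. -/
theorem realSub_isNormalIn [Finite G] {p : ℕ} [Fact p.Prime] {F : FusionSystem S} {ι : S →* G}
    (hR : F.IsRealizedBy ι) (T : Sylow p G) (hT : (T : Subgroup G) = ι.range) (N : Subgroup G)
    [hN : N.Normal] : (realSub ι hR.1 N).IsNormalIn F p := by
  have hinj := hR.1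
  have hTS : preSub ι N ≤ S := preSub_le ι N
  have hsatE : (realSub ι hR.1 N).IsSaturated p := by
    obtain ⟨T', hT'⟩ := preHom_range_sylow ι T hT N
    exact realized_isSaturated (realSub_isRealizedBy ι hR.1 N) T' hT'
  have himT : imSub ι (preSub ι N) = (T : Subgroup G) ⊓ N := by rw [imSub_preSub, hT]
  refine ⟨⟨hsatE, realized_isSaturated hR T hT, ?_, ?_, ?_, ?_⟩, ?_⟩
  · -- subsystem
    rintro P φ ⟨hP, hφ, n, -, hn⟩
    exact (hR.2 P (hP.trans hTS) φ (fun x => hTS (hφ x))).mpr ⟨n, fun x => hn x _ _⟩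
  · -- strongly closed
    refine ⟨hTS, ?_⟩
    intro R hR' φ hφ x
    have hRS := (F.le_of_mem hφ).1
    have hφS := (F.le_of_mem hφ).2
    obtain ⟨g, hg⟩ := (hR.2 R hRS φ hφS).mp hφ
    rw [mem_preSub]
    refine ⟨hφS x, ?_⟩
    rw [hg]
    exact hN.conj_mem _ (preSub_mem (hR' x.2)) g
  · -- invariance
    intro P hPT φ hφ α hα
    obtain ⟨-, hφT, n, hn, hφn⟩ := hφ
    obtain ⟨g, hg⟩ := (realized_mem_autGroup hR hTS).mp hα
    have hP'T : (P.subgroupOf (preSub ι N)).map ((preSub ι N).subtype.comp α.toMonoidHom) ≤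
        preSub ι N := by
      rintro _ ⟨x, -, rfl⟩
      exact (α x).2
    have hkey : ∀ (x : preSub ι N) (hx : (x : Ω) ∈ P),
        g * n * g⁻¹ * ι ⟨(α x : preSub ι N), hTS (α x).2⟩ * (g * n * g⁻¹)⁻¹ =
          ι ⟨(α ⟨φ ⟨x, hx⟩, hφT _⟩ : preSub ι N), hTS (α _).2⟩ := by
      intro x hx
      rw [hg, hg]
      have h1 := hφn ⟨x, hx⟩ (hTS x.2) (hTS (hφT _))
      rw [h1]
      group
    obtain ⟨χ, hχS, hχF, hχ⟩ := realized_hom_of_conj hR (hP'T.trans hTS) (g * n * g⁻¹) (by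
      rintro ⟨_, x, hx, rfl⟩
      have h1 := hkey x (Subgroup.mem_subgroupOf.1 hx)
      exact ⟨_, h1.symm⟩)
    refine ⟨χ, ⟨hP'T, ?_, g * n * g⁻¹, hN.conj_mem n hn g, fun y hy hχy => hχ y⟩, ?_⟩
    · rintro ⟨_, x, hx, rfl⟩
      have h1 := hkey x (Subgroup.mem_subgroupOf.1 hx)
      have h2 := hχ ⟨_, x, hx, rfl⟩
      have h3 := hinj (h2.trans h1)
      have h4 := Subtype.mk.inj h3
      rw [h4]; exact (α _).2
    · intro x hφx hαx
      have h1 := hkey ⟨x, hPT x.2⟩ x.2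
      have h2 := hχ ⟨_, hαx⟩
      have h3 := hinj (h2.trans h1)
      exact Subtype.mk.inj h3
  · -- Frattini
    intro P hPT φ hφ
    have hPS := hPT.trans hTS
    have hφS := (F.le_of_mem hφ).2
    obtain ⟨g, hg⟩ := (hR.2 P hPS φ hφS).mp hφ
    obtain ⟨m, hmN, hm⟩ := frattini_core T N g
    have hnorm : g * m⁻¹ ∈ Subgroup.normalizer (imSub ι (preSub ι N) : Set G) := by
      rw [himT]; exact hm
    obtain ⟨α, hα, hαx⟩ := realized_aut_of_conj hR hTS hnorm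
    have hmx : ∀ x : P, m * ι ⟨x, hPS x.2⟩ * m⁻¹ ∈ imSub ι (preSub ι N) := by
      intro x
      have h1 : g * ι ⟨x, hPS x.2⟩ * g⁻¹ ∈ imSub ι (preSub ι N) := by
        rw [imSub_preSub]
        exact ⟨⟨_, hg x⟩, hN.conj_mem _ (preSub_mem (hPT x.2)) g⟩
      have h2 := (Subgroup.mem_normalizer_iff''.1 hnorm _).1 h1
      have h3 : (g * m⁻¹)⁻¹ * (g * ι ⟨x, hPS x.2⟩ * g⁻¹) * (g * m⁻¹) = m * ι ⟨x, hPS x.2⟩ * m⁻¹ := by
        group
      rw [h3] at h2; exact h2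
    obtain ⟨φ₀, hφ₀S, hφ₀F, hφ₀⟩ := realized_hom_of_conj hR hPS m
      (fun x => imSub_le_range ι _ (hmx x))
    have hφ₀T : ∀ x : P, φ₀ x ∈ preSub ι N := by
      intro x
      rw [mem_preSub]
      refine ⟨hφ₀S x, ?_⟩
      rw [hφ₀]
      exact hN.conj_mem _ (preSub_mem (hPT x.2)) m
    refine ⟨α, hα, φ₀, ⟨hPT, hφ₀T, m, hmN, fun x hx hφx => hφ₀ x⟩, ?_⟩
    intro x hx
    have h1 : ι ⟨φ x, hφS x⟩ = ι ⟨(α ⟨φ₀ x, hx⟩ : preSub ι N), hTS (α _).2⟩ := by
      rw [hg, hαx]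
      have h2 : ι ⟨((⟨φ₀ x, hx⟩ : preSub ι N) : Ω), hTS hx⟩ = m * ι ⟨x, hPS x.2⟩ * m⁻¹ := hφ₀ x
      rw [h2]; group
    have h3 := hinj h1
    exact Subtype.mk.inj h3
  · -- extension condition
    intro α hα
    obtain ⟨-, -, n, hnN, hn⟩ := (Helper26.mem_autGroup_iff _ le_rfl α).1 hα
    have hnx : ∀ x : preSub ι N,
        ι ⟨(α x : preSub ι N), hTS (α x).2⟩ = n * ι ⟨x, hTS x.2⟩ * n⁻¹ :=
      fun x => hn x (hTS x.2) (hTS (α x).2)
    haveI : Finite ((T : Subgroup G) ⊓ N : Subgroup G) := inferInstance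
    have hnT : n ∈ Subgroup.normalizer (((T : Subgroup G) ⊓ N : Subgroup G) : Set G) := by
      apply Helper9.mem_normalizer_of_conj_le
      intro q hq
      rw [← himT] at hq ⊢
      obtain ⟨x, hx, rfl⟩ := mem_imSub.1 hq
      have h1 := hnx ⟨x, hx⟩
      have h2 : ι ⟨((⟨x, hx⟩ : preSub ι N) : Ω), hTS hx⟩ = ι x := rfl
      rw [h2] at h1
      rw [← h1]
      exact mem_imSub_of_mem hTS (α _).2
    obtain ⟨n₂, hn₂N, hn₂C, hn₂x⟩ := normal_ext_core T N hnN hnT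
    have hn₂T : n₂ ∈ Subgroup.normalizer (((T : Subgroup G) ⊓ N : Subgroup G) : Set G) := by
      apply Helper9.mem_normalizer_of_conj_le
      intro q hq
      rw [hn₂x q hq]
      exact (Subgroup.mem_normalizer_iff.1 hnT q).1 hq
    have hCS : centralizerIn S (preSub ι N) ≤ S := inf_le_left
    have himC : imSub ι (centralizerIn S (preSub ι N)) =
        centralizerIn (T : Subgroup G) ((T : Subgroup G) ⊓ N) := by
      rw [imSub_centralizerIn hinj hTS, himT, hT]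
    have hnorm : n₂ ∈ Subgroup.normalizer
        (imSub ι (preSub ι N ⊔ centralizerIn S (preSub ι N)) : Set G) := by
      rw [imSub_sup ι hTS hCS, himT, himC]
      apply Helper9.mem_normalizer_of_conj_le
      exact conj_sup_mem
        (fun a ha => Subgroup.mem_sup_left ((Subgroup.mem_normalizer_iff.1 hn₂T a).1 ha))
        (fun b hb => Subgroup.mem_sup_right ((Subgroup.mem_normalizer_iff.1 hn₂C b).1 hb))
    obtain ⟨β, hβ, hβx⟩ := realized_aut_of_conj hR (sup_le hTS hCS) hnorm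
    refine ⟨β, hβ, ?_, ?_⟩
    · intro x
      have h1 : ι ⟨(β (Subgroup.inclusion le_sup_left x) :
          ↥(preSub ι N ⊔ centralizerIn S (preSub ι N))), (sup_le hTS hCS) (β _).2⟩ =
          ι ⟨(α x : preSub ι N), hTS (α x).2⟩ := by
        rw [hβx, hnx]
        have h2 : ι ⟨x, hTS x.2⟩ ∈ ((T : Subgroup G) ⊓ N : Subgroup G) := by
          rw [← himT]; exact mem_imSub_of_mem hTS x.2
        exact hn₂x _ h2
      have h3 := hinj h1
      exact Subtype.mk.inj h3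
    · intro c hc
      have hcS : (c : Ω) ∈ S := hCS hc
      have hβS : ((β c : ↥(preSub ι N ⊔ centralizerIn S (preSub ι N))) : Ω) ∈ S :=
        (sup_le hTS hCS) (β c).2
      have h1 : ι ⟨c, hcS⟩ ∈ centralizerIn (T : Subgroup G) ((T : Subgroup G) ⊓ N) := by
        rw [← himC]; exact mem_imSub_of_mem hCS hc
      have h2 : ι ⟨(β c : ↥(preSub ι N ⊔ centralizerIn S (preSub ι N))), hβS⟩ ∈
          centralizerIn (T : Subgroup G) ((T : Subgroup G) ⊓ N) := by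
        rw [hβx]
        exact (Subgroup.mem_normalizer_iff.1 hn₂C _).1 h1
      have h3 : ((β c : ↥(preSub ι N ⊔ centralizerIn S (preSub ι N))) : Ω) ∈
          Subgroup.centralizer (preSub ι N : Set Ω) := by
        rw [← mem_centralizer_imSub hinj hTS ⟨_, hβS⟩, himT]
        exact h2.2
      refine ⟨?_, Subgroup.mul_mem _ (Subgroup.inv_mem _ hc.2) h3⟩
      refine mem_preSub.2 ⟨Subgroup.mul_mem _ (Subgroup.inv_mem _ hcS) hβS, ?_⟩
      have e : (⟨(c : Ω)⁻¹ * ((β c : ↥(preSub ι N ⊔ centralizerIn S (preSub ι N))) : Ω),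
          Subgroup.mul_mem _ (Subgroup.inv_mem _ hcS) hβS⟩ : S) =
          ⟨c, hcS⟩⁻¹ * ⟨(β c : ↥(preSub ι N ⊔ centralizerIn S (preSub ι N))), hβS⟩ :=
        Subtype.ext rfl
      rw [e, map_mul, map_inv, hβx]
      have e2 : (ι ⟨c, hcS⟩)⁻¹ * (n₂ * ι ⟨c, (sup_le hTS hCS) c.2⟩ * n₂⁻¹) =
          ((ι ⟨c, hcS⟩)⁻¹ * n₂ * (ι ⟨c, hcS⟩)⁻¹⁻¹) * n₂⁻¹ := by group
      rw [e2]
      exact N.mul_mem (hN.conj_mem n₂ hn₂N _) (N.inv_mem hn₂N)

end Cfsg.Agent.Helper25
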