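import Mathlib

set_option autoImplicit false

namespace Cfsg.Agent.Helper25.S4349c

variable {α : Type*} [Fintype α] [DecidableEq α]

theorem inv_app (f : Equiv.Perm α) (x : α) : f⁻¹ (f x) = x := f.symm_apply_apply x

theorem app_inv (f : Equiv.Perm α) (x : α) : f (f⁻¹ x) = x := f.apply_symm_apply x

/-- the explicit construction, with the set of even positions abstracted as a predicate `P` -/
theorem core (x c₁ c₂ σ : Equiv.Perm α) (P : α → Prop) (a0 : α)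
    (h1 : ∀ a ∈ c₁.support, c₁ a = x a) (h2 : ∀ a ∈ c₂.support, c₂ a = x a)
    (hd : ∀ a ∈ c₁.support, a ∉ c₂.support)
    (hσ : ∀ a, σ (c₁ a) = c₂ (σ a))
    (hP1 : ∀ a, P a → a ∈ c₁.support)
    (hPalt : ∀ a ∈ c₁.support, (P (c₁ a) ↔ ¬ P a)) (hP0 : P a0) :
    ∃ t τ : Equiv.Perm α, t * t = 1 ∧ τ * τ = 1 ∧ τ * x = x * τ ∧ t * x * t⁻¹ = τ * x ∧
      ∃ a : α, (t * (c₁ * t * c₁⁻¹)) a ≠ a ∧
        (t * (c₁ * t * c₁⁻¹)) ((t * (c₁ * t * c₁⁻¹)) ((t * (c₁ * t * c₁⁻¹)) a)) = a := by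
  classical
  have F1 : ∀ a, a ∈ c₁.support ↔ σ a ∈ c₂.support := by
    intro a
    rw [Equiv.Perm.mem_support, Equiv.Perm.mem_support, ← hσ a]
    exact ⟨fun h e => h (σ.injective e), fun h e => h (congrArg σ e)⟩
  have F1' : ∀ a, a ∈ c₂.support ↔ σ⁻¹ a ∈ c₁.support := by
    intro a
    rw [F1 (σ⁻¹ a), app_inv]
  have F2 : ∀ a, σ⁻¹ (c₂ a) = c₁ (σ⁻¹ a) := by
    intro a
    have h := hσ (σ⁻¹ a)
    rw [app_inv] at h
    rw [← h, inv_app]
  have F4 : ∀ (c : Equiv.Perm α), (∀ a ∈ c.support, c a = x a) →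
      ∀ a, x a ∈ c.support → a ∈ c.support := by
    intro c hc a ha
    have h3 : c⁻¹ (x a) ∈ c.support := by
      rw [← Equiv.Perm.support_inv, Equiv.Perm.apply_mem_support, Equiv.Perm.support_inv]
      exact ha
    have h4 := hc _ h3
    rw [app_inv] at h4
    have h5 : a = c⁻¹ (x a) := x.injective h4
    rw [h5]
    exact h3
  let τf : α → α := fun a =>
    if a ∈ c₁.support then σ a else if a ∈ c₂.support then σ⁻¹ a else a
  let tf : α → α := fun a => if P a then σ a else if P (σ⁻¹ a) then σ⁻¹ a else a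
  have τ1 : ∀ a, a ∈ c₁.support → τf a = σ a := fun a h => if_pos h
  have τ2 : ∀ a, a ∈ c₂.support → τf a = σ⁻¹ a := by
    intro a h
    have hn : a ∉ c₁.support := fun h' => hd a h' h
    show (if a ∈ c₁.support then σ a else if a ∈ c₂.support then σ⁻¹ a else a) = σ⁻¹ a
    rw [if_neg hn, if_pos h]
  have τ3 : ∀ a, a ∉ c₁.support → a ∉ c₂.support → τf a = a := by
    intro a h h'
    show (if a ∈ c₁.support then σ a else if a ∈ c₂.support then σ⁻¹ a else a) = a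
    rw [if_neg h, if_neg h']
  have t1 : ∀ a, P a → tf a = σ a := fun a h => if_pos h
  have t4 : ∀ a, ¬ P a → ¬ P (σ⁻¹ a) → tf a = a := by
    intro a hn hn'
    show (if P a then σ a else if P (σ⁻¹ a) then σ⁻¹ a else a) = a
    rw [if_neg hn, if_neg hn']
  have t2 : ∀ a, a ∈ c₁.support → ¬ P a → tf a = a := by
    intro a h hn
    exact t4 a hn (fun hp => hd a h ((F1' a).2 (hP1 _ hp)))
  have t3 : ∀ a, P (σ⁻¹ a) → tf a = σ⁻¹ a := by
    intro a hp
    have hn : ¬ P a := fun hp' => hd a (hP1 _ hp') ((F1' a).2 (hP1 _ hp))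
    show (if P a then σ a else if P (σ⁻¹ a) then σ⁻¹ a else a) = σ⁻¹ a
    rw [if_neg hn, if_pos hp]
  have htf : Function.Involutive tf := by
    intro a
    by_cases hp : P a
    · rw [t1 a hp, t3 (σ a) (by rw [inv_app]; exact hp), inv_app]
    · by_cases hp' : P (σ⁻¹ a)
      · rw [t3 a hp', t1 _ hp', app_inv]
      · rw [t4 a hp hp', t4 a hp hp']
  have hτf : Function.Involutive τf := by
    intro a
    by_cases h : a ∈ c₁.support
    · rw [τ1 a h, τ2 (σ a) ((F1 a).1 h), inv_app]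
    · by_cases h' : a ∈ c₂.support
      · rw [τ2 a h', τ1 _ ((F1' a).1 h'), app_inv]
      · rw [τ3 a h h', τ3 a h h']
  let t : Equiv.Perm α := Function.Involutive.toPerm tf htf
  let τ : Equiv.Perm α := Function.Involutive.toPerm τf hτf
  have ht : ∀ a, t a = tf a := fun a => rfl
  have hτ : ∀ a, τ a = τf a := fun a => rfl
  have htt : t * t = 1 := by
    ext a
    rw [Equiv.Perm.mul_apply, Equiv.Perm.one_apply, ht, ht]
    exact htf a
  have hττ : τ * τ = 1 := by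
    ext a
    rw [Equiv.Perm.mul_apply, Equiv.Perm.one_apply, hτ, hτ]
    exact hτf a
  have htinv : t⁻¹ = t := inv_eq_of_mul_eq_one_right htt
  have ha0 : a0 ∈ c₁.support := hP1 a0 hP0
  have hb0 : σ a0 ∈ c₂.support := (F1 a0).1 ha0
  have hb0' : σ a0 ∉ c₁.support := fun hh => hd _ hh hb0
  have hc1b0 : c₁ (σ a0) = σ a0 := Equiv.Perm.notMem_support.1 hb0'
  have hc1ib0 : c₁⁻¹ (σ a0) = σ a0 := by rw [Equiv.Perm.inv_eq_iff_eq, hc1b0]
  have ha' : c₁⁻¹ a0 ∈ c₁.support := by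
    rw [← Equiv.Perm.support_inv, Equiv.Perm.apply_mem_support, Equiv.Perm.support_inv]
    exact ha0
  have hnp' : ¬ P (c₁⁻¹ a0) := by
    intro hh
    have h3 := (hPalt _ ha').1 (by rw [app_inv]; exact hP0)
    exact h3 hh
  have ha1 : c₁ a0 ∈ c₁.support := Equiv.Perm.apply_mem_support.2 ha0
  have hnp1 : ¬ P (c₁ a0) := fun hh => ((hPalt a0 ha0).1 hh) hP0
  have hPb0 : P (σ⁻¹ (σ a0)) := by rw [inv_app]; exact hP0
  have hg : ∀ b, (t * (c₁ * t * c₁⁻¹)) b = tf (c₁ (tf (c₁⁻¹ b))) := fun b => rfl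
  have g0 : (t * (c₁ * t * c₁⁻¹)) a0 = σ a0 := by
    rw [hg, t2 _ ha' hnp', app_inv, t1 a0 hP0]
  have g1 : (t * (c₁ * t * c₁⁻¹)) (σ a0) = c₁ a0 := by
    rw [hg, hc1ib0, t3 (σ a0) hPb0, inv_app, t2 _ ha1 hnp1]
  have g2 : (t * (c₁ * t * c₁⁻¹)) (c₁ a0) = a0 := by
    rw [hg, inv_app, t1 a0 hP0, hc1b0, t3 (σ a0) hPb0, inv_app]
  refine ⟨t, τ, htt, hττ, ?_, ?_, a0, ?_, ?_⟩
  · ext a
    rw [Equiv.Perm.mul_apply, Equiv.Perm.mul_apply, hτ, hτ]
    by_cases h : a ∈ c₁.support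
    · have hx : x a = c₁ a := (h1 a h).symm
      have h' : c₁ a ∈ c₁.support := Equiv.Perm.apply_mem_support.2 h
      rw [hx, τ1 _ h', τ1 a h, ← h2 _ ((F1 a).1 h), hσ]
    · by_cases h' : a ∈ c₂.support
      · have hx : x a = c₂ a := (h2 a h').symm
        have h'' : c₂ a ∈ c₂.support := Equiv.Perm.apply_mem_support.2 h'
        rw [hx, τ2 _ h'', τ2 a h', ← h1 _ ((F1' a).1 h'), F2]
      · have hx1 : x a ∉ c₁.support := fun hh => h (F4 c₁ h1 a hh)
        have hx2 : x a ∉ c₂.support := fun hh => h' (F4 c₂ h2 a hh)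
        rw [τ3 _ hx1 hx2, τ3 a h h']
  · rw [htinv]
    ext a
    rw [Equiv.Perm.mul_apply, Equiv.Perm.mul_apply, Equiv.Perm.mul_apply, ht, ht, hτ]
    by_cases h : a ∈ c₁.support
    · have hx : x a = c₁ a := (h1 a h).symm
      have h' : c₁ a ∈ c₁.support := Equiv.Perm.apply_mem_support.2 h
      rw [hx, τ1 _ h']
      by_cases hp : P a
      · have hnp : ¬ P (c₁ a) := fun hh => ((hPalt a h).1 hh) hp
        rw [t1 a hp, ← h2 _ ((F1 a).1 h), ← hσ]
        apply t4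
        · exact fun hh => hd _ (hP1 _ hh) ((F1 _).1 h')
        · rw [inv_app]
          exact hnp
      · have hpc : P (c₁ a) := (hPalt a h).2 hp
        rw [t2 a h hp, hx, t1 _ hpc]
    · by_cases h' : a ∈ c₂.support
      · have hx : x a = c₂ a := (h2 a h').symm
        have h'' : c₂ a ∈ c₂.support := Equiv.Perm.apply_mem_support.2 h'
        have hs : σ⁻¹ a ∈ c₁.support := (F1' a).1 h'
        have hnpa : ¬ P a := fun hh => h (hP1 _ hh)
        rw [hx, τ2 _ h'']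
        by_cases hp : P (σ⁻¹ a)
        · have hnp : ¬ P (c₁ (σ⁻¹ a)) := fun hh => ((hPalt _ hs).1 hh) hp
          rw [t3 a hp, ← h1 _ hs, F2]
          exact t2 _ (Equiv.Perm.apply_mem_support.2 hs) hnp
        · have hpc : P (σ⁻¹ (c₂ a)) := by
            rw [F2]
            exact (hPalt _ hs).2 hp
          rw [t4 a hnpa hp, hx, t3 _ hpc]
      · have hx1 : x a ∉ c₁.support := fun hh => h (F4 c₁ h1 a hh)
        have hx2 : x a ∉ c₂.support := fun hh => h' (F4 c₂ h2 a hh)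
        have hoff : ∀ b, b ∉ c₁.support → b ∉ c₂.support → tf b = b := by
          intro b hb hb'
          exact t4 b (fun hh => hb (hP1 _ hh)) (fun hh => hb' ((F1' b).2 (hP1 _ hh)))
        rw [hoff a h h', hoff _ hx1 hx2, τ3 _ hx1 hx2]
  · rw [g0]
    intro e
    apply hb0'
    rw [e]
    exact ha0
  · rw [g0, g1, g2]

/-- (piece [P3] of S4349) two different cycles of `x` of the same even length: an involution `τ`
commuting with `x` and an involution `t` with `t x t⁻¹ = τ x` such that `t * (c₁ t c₁⁻¹)` has a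
3-cycle. -/
theorem half_swap (x c₁ c₂ : Equiv.Perm α) (hc₁ : c₁ ∈ x.cycleFactorsFinset)
    (hc₂ : c₂ ∈ x.cycleFactorsFinset) (hne : c₁ ≠ c₂)
    (hcard : c₁.support.card = c₂.support.card) (heven : Even c₁.support.card) :
    ∃ t τ : Equiv.Perm α, t * t = 1 ∧ τ * τ = 1 ∧ τ * x = x * τ ∧ t * x * t⁻¹ = τ * x ∧
      ∃ a : α, (t * (c₁ * t * c₁⁻¹)) a ≠ a ∧
        (t * (c₁ * t * c₁⁻¹)) ((t * (c₁ * t * c₁⁻¹)) ((t * (c₁ * t * c₁⁻¹)) a)) = a := by
  classical
  obtain ⟨hcyc1, h1⟩ := Equiv.Perm.mem_cycleFactorsFinset_iff.1 hc₁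
  obtain ⟨hcyc2, h2⟩ := Equiv.Perm.mem_cycleFactorsFinset_iff.1 hc₂
  have hdisj : Equiv.Perm.Disjoint c₁ c₂ :=
    Equiv.Perm.cycleFactorsFinset_pairwise_disjoint x hc₁ hc₂ hne
  have hd : ∀ a ∈ c₁.support, a ∉ c₂.support := by
    intro a ha ha'
    exact Finset.disjoint_left.1 hdisj.disjoint_support ha ha'
  obtain ⟨σ, hσc⟩ := isConj_iff.1 (hcyc1.isConj hcyc2 hcard)
  have hσ : ∀ a, σ (c₁ a) = c₂ (σ a) := by
    intro a
    rw [← hσc, Equiv.Perm.mul_apply, Equiv.Perm.mul_apply, inv_app]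
  obtain ⟨a0, ha0, -⟩ := id hcyc1
  have hm : orderOf c₁ = c₁.support.card := hcyc1.orderOf
  have hpow : ∀ k : ℕ, (c₁ ^ k) a0 = a0 → Even k := by
    intro k hk
    have h3 : c₁ ^ k = 1 := (hcyc1.pow_eq_one_iff' ha0).2 hk
    have h4 : orderOf c₁ ∣ k := orderOf_dvd_of_pow_eq_one h3
    rw [hm] at h4
    exact heven.trans_dvd h4
  have hmm : c₁ ^ c₁.support.card = 1 := by
    rw [← hm]
    exact pow_orderOf_eq_one c₁
  have ha0s : a0 ∈ c₁.support := Equiv.Perm.mem_support.2 ha0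
  obtain ⟨m', hm'⟩ : ∃ m', c₁.support.card = m' + 1 := by
    have h3 : 0 < c₁.support.card := Finset.card_pos.2 ⟨a0, ha0s⟩
    exact ⟨c₁.support.card - 1, by omega⟩
  refine core x c₁ c₂ σ (fun a => ∃ j : ℕ, (c₁ ^ (2 * j)) a0 = a) a0 h1 h2 hd hσ ?_ ?_
    ⟨0, by simp⟩
  · rintro a ⟨j, rfl⟩
    exact Equiv.Perm.pow_apply_mem_support.2 ha0s
  · intro a ha
    constructor
    · rintro ⟨j, hj⟩ ⟨j', hj'⟩
      obtain ⟨N, hN⟩ : ∃ N, N = j * m' := ⟨_, rfl⟩
      have h7 : (c₁ ^ (2 * j' + 1)) a0 = (c₁ ^ (2 * j)) a0 := by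
        rw [pow_succ', Equiv.Perm.mul_apply, hj', hj]
      have h8 : 2 * N + 2 * j = c₁.support.card * (2 * j) := by
        rw [hN, hm']
        ring
      have h5 : (c₁ ^ (2 * N + (2 * j' + 1))) a0 = a0 := by
        rw [pow_add, Equiv.Perm.mul_apply, h7, ← Equiv.Perm.mul_apply, ← pow_add, h8, pow_mul,
          hmm, one_pow, Equiv.Perm.one_apply]
      obtain ⟨r, hr⟩ := hpow _ h5
      omega
    · intro hnp
      obtain ⟨k, hk⟩ := hcyc1.exists_pow_eq ha0 (Equiv.Perm.mem_support.1 ha)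
      rcases Nat.even_or_odd k with ⟨r, hr⟩ | ⟨r, hr⟩
      · exfalso
        apply hnp
        have h9 : 2 * r = k := by omega
        exact ⟨r, by rw [h9]; exact hk⟩
      · have h9 : 2 * (r + 1) = k + 1 := by omega
        exact ⟨r + 1, by rw [h9, pow_succ', Equiv.Perm.mul_apply, hk]⟩

end Cfsg.Agent.Helper25.S4349c
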