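import Mathlib
import Cfsg.Prelude.Def_FusionSystem
import Cfsg.Agent.Helper26.Alperin
import Cfsg.Agent.Helper26.FusNormal
import Cfsg.Agent.Helper25.CritB

set_option autoImplicit false

namespace Cfsg.Agent.Helper25

open Cfsg Cfsg.FusionSystem Cfsg.Agent.Helper26

variable {Ω : Type*} [Group Ω] {S : Subgroup Ω}

/-- Abelian of exponent dividing `p` (resp. `4` when `p = 2`). -/
def SmallAb (p : ℕ) (A : Subgroup Ω) : Prop :=
  (∀ a ∈ A, ∀ b ∈ A, a * b = b * a) ∧ ∀ a ∈ A, a ^ smallExp p = 1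

/-- `F`-maps between small abelian subgroups are `E`-maps. -/
def SmallCtl (p : ℕ) (E F : FusionSystem S) : Prop :=
  ∀ A B : Subgroup Ω, A ≤ S → B ≤ S → SmallAb p A → SmallAb p B → F.homSet A B ⊆ E.homSet A B

theorem smallAb_of_surj {p : ℕ} {A B : Subgroup Ω} (f : A →* Ω) (hA : SmallAb p A)
    (h : ∀ b ∈ B, ∃ a : A, f a = b) : SmallAb p B := by
  constructor
  · intro b hb c hc
    obtain ⟨a, rfl⟩ := h b hb
    obtain ⟨a', rfl⟩ := h c hc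
    rw [← map_mul, ← map_mul]
    congr 1
    exact Subtype.ext (hA.1 a a.2 a' a'.2)
  · intro b hb
    obtain ⟨a, rfl⟩ := h b hb
    rw [← map_pow]
    have : a ^ smallExp p = 1 := Subtype.ext (by
      show ((a ^ smallExp p : A) : Ω) = 1
      rw [Subgroup.coe_pow]; exact hA.2 a a.2)
    rw [this, map_one]

theorem le_normalizer_of_conj {Q A : Subgroup Ω} (h : ∀ q ∈ Q, ∀ a ∈ A, q * a * q⁻¹ ∈ A) :
    Q ≤ Subgroup.normalizer (A : Set Ω) := by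
  intro q hq
  rw [Subgroup.mem_normalizer_iff]
  intro n
  constructor
  · exact h q hq n
  · intro hn
    have := h q⁻¹ (Q.inv_mem hq) _ hn
    have e : q⁻¹ * (q * n * q⁻¹) * q⁻¹⁻¹ = n := by group
    rwa [e] at this

/-- The `E`-side construction. -/
theorem small_step {p : ℕ} [Fact p.Prime] [Finite S] (hS : IsPGroup p S) (E F : FusionSystem S)
    (hE : E.IsSaturated p) (hEF : ∀ P : Subgroup Ω, E.Hom P ⊆ F.Hom P) (hctl : SmallCtl p E F)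
    {Q : Subgroup Ω} (hQS : Q ≤ S) (α : MulAut Q) (hα : IsIso F α) (A : Subgroup Q)
    (hAn : ∀ g x : Q, x ∈ A → g * x * g⁻¹ ∈ A) (hAs : SmallAb p (A.map Q.subtype)) :
    ∃ (A₀ Q₂ Q₃ : Subgroup Ω) (u : Q ≃* Q₃) (t' : Q ≃* Q₂), E.IsReceptive A₀ ∧ SmallAb p A₀ ∧
      IsIso E u ∧ IsIso E t' ∧ (∀ a ∈ A₀, ∃ x ∈ A, ((u x : Q₃) : Ω) = a) ∧
      (∀ x ∈ A, ((u x : Q₃) : Ω) ∈ A₀) ∧ (∀ x ∈ A, ((t' (α x) : Q₂) : Ω) = ((u x : Q₃) : Ω)) := by
  have hAQ : A.map Q.subtype ≤ Q := by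
    rintro _ ⟨x, -, rfl⟩; exact x.2
  have hAS : A.map Q.subtype ≤ S := hAQ.trans hQS
  have hmemA : ∀ x : Q, x ∈ A → (x : Ω) ∈ A.map Q.subtype := fun x hx => ⟨x, hx, rfl⟩
  obtain ⟨A₀, hconj0, hA₀a, hA₀r⟩ := hE _ hAS
  obtain ⟨φ, hφ, e, he, hφe, -⟩ := exists_normalizer_map hS E hA₀a hA₀r hconj0
  have hQN : Q ≤ normalizerIn S (A.map Q.subtype) := by
    intro q hq
    refine ⟨hQS hq, le_normalizer_of_conj (Q := Q) ?_ hq⟩
    rintro g hg _ ⟨x, hx, rfl⟩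
    exact ⟨⟨g, hg⟩ * x * ⟨g, hg⟩⁻¹, hAn _ _ hx, rfl⟩
  have hth : φ.comp (Subgroup.inclusion hQN) ∈ E.Hom Q := fs_restrict E hQN hφ
  obtain ⟨t, ht, htx⟩ := exists_iso_of_hom E hth rfl
  have htx' : ∀ x : Q, ((t x : _) : Ω) = φ ⟨x, hQN x.2⟩ := htx
  have htA : ∀ x : Q, ∀ hx : x ∈ A, ((t x : _) : Ω) = ((e ⟨x, hmemA x hx⟩ : A₀) : Ω) := by
    intro x hx
    rw [htx']
    exact hφe ⟨x, hmemA x hx⟩ (hQN x.2)
  -- the image of `A` under `α`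
  have hA'Q : (A.map α.toMonoidHom).map Q.subtype ≤ Q := by
    rintro _ ⟨x, -, rfl⟩; exact x.2
  have hA'S : (A.map α.toMonoidHom).map Q.subtype ≤ S := hA'Q.trans hQS
  have hmemA' : ∀ x : Q, x ∈ A → ((α x : Q) : Ω) ∈ (A.map α.toMonoidHom).map Q.subtype :=
    fun x hx => ⟨α x, ⟨x, hx, rfl⟩, rfl⟩
  have hψF : (Q.subtype.comp α.toMonoidHom).comp (Subgroup.inclusion hAQ) ∈
      F.Hom (A.map Q.subtype) := fs_restrict F hAQ hα
  have hA's : SmallAb p ((A.map α.toMonoidHom).map Q.subtype) := by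
    refine smallAb_of_surj ((Q.subtype.comp α.toMonoidHom).comp (Subgroup.inclusion hAQ)) hAs ?_
    rintro _ ⟨_, ⟨x, hx, rfl⟩, rfl⟩
    exact ⟨⟨x, hmemA x hx⟩, rfl⟩
  have hψE : (Q.subtype.comp α.toMonoidHom).comp (Subgroup.inclusion hAQ) ∈
      E.Hom (A.map Q.subtype) := by
    have h1 : (Q.subtype.comp α.toMonoidHom).comp (Subgroup.inclusion hAQ) ∈
        F.homSet (A.map Q.subtype) ((A.map α.toMonoidHom).map Q.subtype) := by
      refine ⟨hψF, ?_⟩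
      rintro ⟨_, x, hx, rfl⟩
      exact hmemA' x hx
    exact (hctl _ _ hAS hA'S hAs hA's h1).1
  have hψr : ((Q.subtype.comp α.toMonoidHom).comp (Subgroup.inclusion hAQ)).range =
      (A.map α.toMonoidHom).map Q.subtype := by
    ext y
    constructor
    · rintro ⟨⟨_, x, hx, rfl⟩, rfl⟩
      exact hmemA' x hx
    · rintro ⟨_, ⟨x, hx, rfl⟩, rfl⟩
      exact ⟨⟨x, hmemA x hx⟩, rfl⟩
  obtain ⟨αA, hαA, hαAx⟩ := exists_iso_of_hom E hψE hψr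
  have hαAx' : ∀ x : Q, ∀ hx : x ∈ A, ((αA ⟨x, hmemA x hx⟩ : _) : Ω) = ((α x : Q) : Ω) :=
    fun x hx => hαAx ⟨x, hmemA x hx⟩
  have hconj' : E.IsConj ((A.map α.toMonoidHom).map Q.subtype) A₀ :=
    isConj_trans E (isConj_symm E hαA.isConj) hconj0
  obtain ⟨φ', hφ', e', he', hφ'e, -⟩ := exists_normalizer_map hS E hA₀a hA₀r hconj'
  have hQN' : Q ≤ normalizerIn S ((A.map α.toMonoidHom).map Q.subtype) := by
    intro q hq
    refine ⟨hQS hq, le_normalizer_of_conj (Q := Q) ?_ hq⟩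
    rintro g hg _ ⟨_, ⟨x, hx, rfl⟩, rfl⟩
    refine ⟨⟨g, hg⟩ * α x * ⟨g, hg⟩⁻¹, ⟨α.symm ⟨g, hg⟩ * x * (α.symm ⟨g, hg⟩)⁻¹, hAn _ _ hx, ?_⟩, rfl⟩
    show α (α.symm ⟨g, hg⟩ * x * (α.symm ⟨g, hg⟩)⁻¹) = _
    rw [map_mul, map_mul, map_inv, MulEquiv.apply_symm_apply]
  have hth' : φ'.comp (Subgroup.inclusion hQN') ∈ E.Hom Q := fs_restrict E hQN' hφ'
  obtain ⟨t', ht', htx2⟩ := exists_iso_of_hom E hth' rfl
  have htx2' : ∀ x : Q, ((t' x : _) : Ω) = φ' ⟨x, hQN' x.2⟩ := htx2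
  have htA' : ∀ x : Q, ∀ hx : x ∈ A,
      ((t' (α x) : _) : Ω) = ((e' ⟨α x, hmemA' x hx⟩ : A₀) : Ω) := by
    intro x hx
    rw [htx2']
    exact hφ'e ⟨α x, hmemA' x hx⟩ (hQN' (α x).2)
  -- the automorphism of `A₀`
  have hε : IsIso E (e.symm.trans (αA.trans e')) := he.symm.trans (hαA.trans he')
  -- key formula
  have KF : ∀ x : Q, ∀ hx : x ∈ A, ∀ a : A₀, (a : Ω) = ((t x : _) : Ω) →
      (((e.symm.trans (αA.trans e')) a : A₀) : Ω) = ((t' (α x) : _) : Ω) := by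
    intro x hx a ha
    have h1 : a = e ⟨x, hmemA x hx⟩ := Subtype.ext (ha.trans (htA x hx))
    show ((e' (αA (e.symm a)) : A₀) : Ω) = _
    rw [h1, MulEquiv.symm_apply_apply, htA' x hx]
    congr 2
    exact Subtype.ext (hαAx' x hx)
  have hA₀t : ∀ a ∈ A₀, ∃ x ∈ A, ((t x : _) : Ω) = a := by
    intro a ha
    have hmem := (e.symm ⟨a, ha⟩).2
    obtain ⟨x, hx, hxe⟩ := hmem
    refine ⟨x, hx, ?_⟩
    rw [htA x hx]
    have : (⟨x, hmemA x hx⟩ : A.map Q.subtype) = e.symm ⟨a, ha⟩ := Subtype.ext hxe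
    rw [this, MulEquiv.apply_symm_apply]
  have htA₀ : ∀ x ∈ A, ((t x : _) : Ω) ∈ A₀ := by
    intro x hx
    rw [htA x hx]
    exact Subtype.property _
  -- extension
  obtain ⟨χ, hχ, hχe⟩ := receptive_ext E hA₀r hε
  have hQ₁S := ht.le_right
  have hQ₁N : (φ.comp (Subgroup.inclusion hQN)).range ≤
      extender S A₀ (A₀.subtype.comp (e.symm.trans (αA.trans e')).toMonoidHom) := by
    intro q hq
    obtain ⟨g, hg⟩ : ∃ g : Q, ((t g : _) : Ω) = q := by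
      refine ⟨t.symm ⟨q, hq⟩, ?_⟩
      rw [MulEquiv.apply_symm_apply]
    rw [mem_extender_iff']
    refine ⟨hQ₁S hq, ?_, ((t' (α g) : _) : Ω), ht'.le_right (Subtype.property _), ?_⟩
    · refine le_normalizer_of_conj (Q := (φ.comp (Subgroup.inclusion hQN)).range) ?_ hq
      intro q' hq' a ha
      obtain ⟨x, hx, rfl⟩ := hA₀t a ha
      have := htA₀ (t.symm ⟨q', hq'⟩ * x * (t.symm ⟨q', hq'⟩)⁻¹) (hAn _ _ hx)
      rw [map_mul, map_mul, map_inv, MulEquiv.apply_symm_apply] at this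
      exact this
    · intro x y hy
      obtain ⟨x₀, hx₀, hx₀x⟩ := hA₀t x x.2
      have hy' : (y : Ω) = ((t (g * x₀ * g⁻¹) : _) : Ω) := by
        rw [hy, map_mul, map_mul, map_inv]
        show q * (x : Ω) * q⁻¹ = ((t g : _) : Ω) * ((t x₀ : _) : Ω) * ((t g : _) : Ω)⁻¹
        rw [hg, hx₀x]
      have e1 := KF (g * x₀ * g⁻¹) (hAn _ _ hx₀) y hy'
      have e2 := KF x₀ hx₀ x hx₀x.symm
      show (((e.symm.trans (αA.trans e')) y : A₀) : Ω) = _ * (((e.symm.trans (αA.trans e')) x : A₀) : Ω) * _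
      rw [e1, e2, map_mul, map_mul, map_inv, map_mul, map_mul, map_inv]
      rfl
  have hβ : χ.comp (Subgroup.inclusion hQ₁N) ∈ E.Hom (φ.comp (Subgroup.inclusion hQN)).range :=
    fs_restrict E hQ₁N hχ
  obtain ⟨b, hb, hbx⟩ := exists_iso_of_hom E hβ rfl
  have hux : ∀ x : Q, ∀ hx : x ∈ A, (((t.trans b) x : _) : Ω) = ((t' (α x) : _) : Ω) := by
    intro x hx
    show ((b (t x) : _) : Ω) = _
    rw [hbx]
    have e3 := hχe ⟨((t x : _) : Ω), htA₀ x hx⟩ (hQ₁N (t x).2)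
    have e4 : (χ.comp (Subgroup.inclusion hQ₁N)) (t x) = χ ⟨((t x : _) : Ω), hQ₁N (t x).2⟩ := rfl
    rw [e4, e3]
    exact KF x hx ⟨((t x : _) : Ω), htA₀ x hx⟩ rfl
  have hA₀' : ∀ x ∈ A, ((t' (α x) : _) : Ω) ∈ A₀ := by
    intro x hx
    rw [htA' x hx]
    exact Subtype.property _
  refine ⟨A₀, _, _, t.trans b, t', hA₀r, ?_, ht.trans hb, ht', ?_, ?_, ?_⟩
  · refine smallAb_of_surj (A₀.subtype.comp e.toMonoidHom) hAs ?_
    intro a ha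
    exact ⟨e.symm ⟨a, ha⟩, by simp⟩
  · intro a ha
    -- a = ε a₁, a₁ = t x₀
    obtain ⟨x₀, hx₀, hx₀a⟩ := hA₀t _ ((e.symm.trans (αA.trans e')).symm ⟨a, ha⟩).2
    refine ⟨x₀, hx₀, ?_⟩
    rw [hux x₀ hx₀, ← KF x₀ hx₀ ((e.symm.trans (αA.trans e')).symm ⟨a, ha⟩) hx₀a.symm,
      MulEquiv.apply_symm_apply]
  · intro x hx
    rw [hux x hx]
    exact hA₀' x hx
  · intro x hx
    exact (hux x hx).symm

end Cfsg.Agent.Helper25
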