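import Mathlib
import Cfsg.Prelude.Def_FusionSystem
import Cfsg.Agent.Helper26.Alperin
import Cfsg.Agent.Helper26.FusNormal
import Cfsg.Agent.Helper25.SmallFus

set_option autoImplicit false

namespace Cfsg.Agent.Helper25

open Cfsg Cfsg.FusionSystem Cfsg.Agent.Helper26

variable {Ω : Type*} [Group Ω] {S : Subgroup Ω}

theorem exists_normalizing_not_mem {p : ℕ} [Fact p.Prime] [Finite S] (hS : IsPGroup p S)
    {R C : Subgroup Ω} (hR : R ≤ S) (hC : C ≤ S) (hn : ∀ r ∈ R, ∀ c ∈ C, r * c * r⁻¹ ∈ C)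
    (hCR : ¬ C ≤ R) : ∃ c ∈ C, c ∈ normalizerIn S R ∧ c ∉ R := by
  have hM : R ⊔ C ≤ S := sup_le hR hC
  haveI : Finite (R ⊔ C : Subgroup Ω) := finite_of_le hM
  have hMp : IsPGroup p (R ⊔ C : Subgroup Ω) := isPGroup_of_le hS hM
  have hne : R ≠ R ⊔ C := by
    intro he
    apply hCR
    have : C ≤ R ⊔ C := le_sup_right
    rw [← he] at this
    exact this
  obtain ⟨g, hg, hgR⟩ := exists_normalizerIn_not_mem (S := R ⊔ C) hMp le_sup_left hne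
  obtain ⟨x, hx, q, hq, rfl⟩ := mem_sup_of_normalizes hn hg.1
  refine ⟨q, hq, ⟨hC hq, ?_⟩, fun hqR => hgR (R.mul_mem hx hqR)⟩
  have h1 : q = x⁻¹ * (x * q) := by group
  rw [h1]
  exact Subgroup.mul_mem _ (Subgroup.inv_mem _ (Subgroup.le_normalizer hx)) hg.2

theorem mem_extender_of_conj {Q : Subgroup Ω} {u : Ω} (hu : u ∈ normalizerIn S Q) (η : MulAut Q)
    (h : η * conjAut Q u hu.2 * η⁻¹ ∈ autInducedBy S Q) :
    u ∈ extender S Q (Q.subtype.comp η.toMonoidHom) := by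
  rw [mem_extender_iff']
  obtain ⟨h', hh', hconj⟩ := (mem_autInducedBy_iff S Q _).1 h
  refine ⟨hu.1, hu.2, h', hh', fun x y hy => ?_⟩
  have h4 := hconj (η x)
  have h5 : (η * conjAut Q u hu.2 * η⁻¹) (η x) = η y := by
    show η (conjAut Q u hu.2 (η⁻¹ (η x))) = η y
    rw [MulAut.inv_apply_self]
    congr 1
    exact Subtype.ext hy.symm
  rw [h5] at h4
  exact h4

theorem isIso_mono {E F : FusionSystem S} (hEF : ∀ P : Subgroup Ω, E.Hom P ⊆ F.Hom P)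
    {P Q : Subgroup Ω} {e : P ≃* Q} (h : IsIso E e) : IsIso F e := hEF _ h

/-- Automorphisms fixing `ρ(A)` elementwise. -/
def fixOn {Q : Type*} [Group Q] (A : Subgroup Q) (ρ : MulAut Q) : Subgroup (MulAut Q) where
  carrier := {δ | ∀ x ∈ A, δ (ρ x) = ρ x}
  one_mem' := fun x _ => rfl
  mul_mem' := by
    intro a b ha hb x hx
    show a (b (ρ x)) = ρ x
    rw [hb x hx, ha x hx]
  inv_mem' := by
    intro a ha x hx
    have h := ha x hx
    calc a⁻¹ (ρ x) = a⁻¹ (a (ρ x)) := by rw [h]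
      _ = ρ x := MulAut.inv_apply_self _ _ _

theorem isPGroup_fixOn {Q : Type*} [Group Q] {p : ℕ} (A : Subgroup Q) (ρ : MulAut Q)
    (hpg : ∀ δ : MulAut Q, (∀ a ∈ A, δ a = a) → ∃ k : ℕ, δ ^ (p ^ k) = 1) :
    IsPGroup p (fixOn A ρ) := by
  rintro ⟨δ, hδ⟩
  obtain ⟨k, hk⟩ := hpg (ρ⁻¹ * δ * ρ) (fun a ha => by
    show ρ⁻¹ (δ (ρ a)) = a
    rw [hδ a ha, MulAut.inv_apply_self])
  refine ⟨k, Subtype.ext ?_⟩
  show δ ^ p ^ k = 1
  have h1 : (ρ⁻¹ * δ * ρ) ^ (p ^ k) = ρ⁻¹ * δ ^ (p ^ k) * ρ := by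
    have := conj_pow (a := ρ⁻¹) (b := δ) (i := p ^ k)
    rwa [inv_inv] at this
  rw [h1] at hk
  have : δ ^ (p ^ k) = ρ * (ρ⁻¹ * δ ^ (p ^ k) * ρ) * ρ⁻¹ := by group
  rw [this, hk]; group

theorem comm_aux {G : Type*} [Group G] (a b c : G) (h : b * a * b⁻¹ = c * a * c⁻¹) :
    a * (c⁻¹ * b) = c⁻¹ * b * a := by
  have h2 : b * a = c * a * c⁻¹ * b := by rw [← h]; group
  rw [mul_assoc c⁻¹ b a, h2]; group

theorem conj_mem_centralizerIn {R A₀ : Subgroup Ω} (hR : R ≤ S)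
    (h : ∀ r ∈ R, ∀ a ∈ A₀, r⁻¹ * a * r ∈ A₀) :
    ∀ r ∈ R, ∀ c ∈ centralizerIn S A₀, r * c * r⁻¹ ∈ centralizerIn S A₀ := by
  intro r hr c hc
  rw [mem_centralizerIn_iff] at hc ⊢
  refine ⟨S.mul_mem (S.mul_mem (hR hr) hc.1) (S.inv_mem (hR hr)), fun a ha => ?_⟩
  have h1 := hc.2 _ (h r hr a ha)
  calc a * (r * c * r⁻¹) = r * (r⁻¹ * a * r * c) * r⁻¹ := by group
    _ = r * (c * (r⁻¹ * a * r)) * r⁻¹ := by rw [h1]
    _ = r * c * r⁻¹ * a := by group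

/-- Transport of a normalizing element along a normalizer map. -/
theorem transport_normalizer {p : ℕ} [Fact p.Prime] [Finite S] (hS : IsPGroup p S)
    (E F : FusionSystem S) {Q : Subgroup Ω} (hQa : F.IsFullyAutomized p Q) (hQr : F.IsReceptive Q)
    (IH : ∀ R : Subgroup Ω, R ≤ S → Nat.card Q < Nat.card R → F.Hom R ⊆ E.Hom R)
    {Q' : Subgroup Ω} (hconj : F.IsConj Q' Q) {c : Ω} (hcN : c ∈ normalizerIn S Q')
    (hcQ : c ∉ Q') :
    ∃ (r : Q' ≃* Q) (w : Ω) (hw : w ∈ normalizerIn S Q), IsIso E r ∧ w ∉ Q ∧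
      ∀ y : Q', conjAut Q w hw.2 (r y) = r (conjAut Q' c hcN.2 y) := by
  obtain ⟨φ, hφ, r, hr, hφr, hφN⟩ := exists_normalizer_map hS F hQa hQr hconj
  have hQ'S : Q' ≤ S := hr.le_left
  have hQS : Q ≤ S := hr.le_right
  haveI : Finite Q' := finite_of_le hQ'S
  have hlt : Nat.card Q < Nat.card (normalizerIn S Q') := by
    rw [← Nat.card_congr r.toEquiv]
    exact card_lt_of_mem_not_mem inf_le_left (le_normalizerIn hQ'S) hcN hcQ
  have hφE := IH _ inf_le_left hlt hφ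
  have hrE : IsIso E r := fs_restrict' E (le_normalizerIn hQ'S) hφE (fun x => (hφr x _).symm)
  refine ⟨r, φ ⟨c, hcN⟩, hφN _, hrE, ?_, ?_⟩
  · intro hwQ
    apply hcQ
    have h1 : φ ⟨c, hcN⟩ =
        φ ⟨(r.symm ⟨_, hwQ⟩ : Q'), le_normalizerIn hQ'S (r.symm ⟨_, hwQ⟩).2⟩ := by
      rw [hφr]; simp
    have h2 := F.injective_of_mem hφ h1
    have h3 : c = ((r.symm ⟨_, hwQ⟩ : Q') : Ω) := congrArg Subtype.val h2
    rw [h3]; exact (r.symm ⟨_, hwQ⟩).2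
  · intro y
    apply Subtype.ext
    rw [conjAut_apply]
    rw [← hφr y (le_normalizerIn hQ'S y.2),
      ← hφr (conjAut Q' c hcN.2 y) (le_normalizerIn hQ'S (conjAut Q' c hcN.2 y).2),
      ← map_inv, ← map_mul, ← map_mul]
    rfl

end Cfsg.Agent.Helper25
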