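import Mathlib
import Cfsg.Prelude.Def_FusionSystem
import Cfsg.Agent.Helper26.Alperin
import Cfsg.Agent.Helper26.FusNormal
import Cfsg.Agent.Helper25.SmallFus2

set_option autoImplicit false

namespace Cfsg.Agent.Helper25

open Cfsg Cfsg.FusionSystem Cfsg.Agent.Helper26

variable {Ω : Type*} [Group Ω] {S : Subgroup Ω}

theorem small_case_b {p : ℕ} [Fact p.Prime] [Finite S] (hS : IsPGroup p S) (E F : FusionSystem S)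
    (hEF : ∀ P : Subgroup Ω, E.Hom P ⊆ F.Hom P)
    {Q : Subgroup Ω} (hQa : F.IsFullyAutomized p Q) (hQr : F.IsReceptive Q)
    (IH : ∀ R : Subgroup Ω, R ≤ S → Nat.card Q < Nat.card R → F.Hom R ⊆ E.Hom R)
    (A : Subgroup Q)
    (hpg : ∀ δ : MulAut Q, (∀ a ∈ A, δ a = a) → ∃ k : ℕ, δ ^ (p ^ k) = 1)
    (α : MulAut Q) (hα : α ∈ F.autGroup Q)
    {A₀ Q₂ Q₃ : Subgroup Ω} (u : Q ≃* Q₃) (t' : Q ≃* Q₂)
    (hu : IsIso E u) (ht' : IsIso E t')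
    (hmem : ∀ x ∈ A, ((u x : Q₃) : Ω) ∈ A₀)
    (heq : ∀ x ∈ A, ((t' (α x) : Q₂) : Ω) = ((u x : Q₃) : Ω))
    (c₃ : Ω) (hc₃ : c₃ ∈ centralizerIn S A₀) (hc₃N : c₃ ∈ normalizerIn S Q₃) (hc₃Q : c₃ ∉ Q₃)
    (c₂ : Ω) (hc₂ : c₂ ∈ centralizerIn S A₀) (hc₂N : c₂ ∈ normalizerIn S Q₂) (hc₂Q : c₂ ∉ Q₂) :
    α ∈ E.autGroup Q := by
  have hQS : Q ≤ S := hQr.1
  have huF : IsIso F u := isIso_mono hEF hu
  have ht'F : IsIso F t' := isIso_mono hEF ht'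
  obtain ⟨r₃, w₃, hw₃, hr₃, hw₃Q, hcj₃⟩ :=
    transport_normalizer hS E F hQa hQr IH huF.symm.isConj hc₃N hc₃Q
  obtain ⟨r₂, w₂, hw₂, hr₂, hw₂Q, hcj₂⟩ :=
    transport_normalizer hS E F hQa hQr IH ht'F.symm.isConj hc₂N hc₂Q
  have hσ₃E : (u.trans r₃ : MulAut Q) ∈ E.autGroup Q :=
    (mem_autGroup_iff E hQS _).2 (hu.trans hr₃)
  have hσ₂E : (t'.trans r₂ : MulAut Q) ∈ E.autGroup Q :=
    (mem_autGroup_iff E hQS _).2 (ht'.trans hr₂)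
  have hle : E.autGroup Q ≤ F.autGroup Q := by
    intro β hβ
    exact (mem_autGroup_iff F hQS β).2 (isIso_mono hEF ((mem_autGroup_iff E hQS β).1 hβ))
  obtain ⟨σ₃, hσ₃⟩ : ∃ σ₃ : MulAut Q, σ₃ = u.trans r₃ := ⟨_, rfl⟩
  obtain ⟨σ₂, hσ₂⟩ : ∃ σ₂ : MulAut Q, σ₂ = t'.trans r₂ := ⟨_, rfl⟩
  rw [← hσ₃] at hσ₃E
  rw [← hσ₂] at hσ₂E
  have hσ₃x : ∀ x : Q, σ₃ x = r₃ (u x) := fun x => by rw [hσ₃]; rfl
  have hσ₂x : ∀ x : Q, σ₂ x = r₂ (t' x) := fun x => by rw [hσ₂]; rfl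
  have hρF : σ₂ * α ∈ F.autGroup Q := (F.autGroup Q).mul_mem (hle hσ₂E) hα
  have hγ'F : σ₂ * α * σ₃⁻¹ ∈ F.autGroup Q :=
    (F.autGroup Q).mul_mem hρF ((F.autGroup Q).inv_mem (hle hσ₃E))
  have hP₂ : IsPGroup p (F.autGroup Q ⊓ fixOn A (σ₂ * α) : Subgroup (MulAut Q)) :=
    (isPGroup_fixOn A (σ₂ * α) hpg).to_le inf_le_right
  have hm₂ : conjAut Q w₂ hw₂.2 ∈ F.autGroup Q ⊓ fixOn A (σ₂ * α) := by
    refine ⟨autInducedBy_le_autGroup F hQS (conjAut_mem S Q w₂ hw₂.1 hw₂.2), ?_⟩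
    intro x hx
    show conjAut Q w₂ hw₂.2 (σ₂ (α x)) = σ₂ (α x)
    rw [hσ₂x, hcj₂]
    congr 1
    apply Subtype.ext
    rw [conjAut_apply]
    have h1 := (mem_centralizerIn_iff.1 hc₂).2 _ (hmem x hx)
    rw [heq x hx, ← h1, mul_inv_cancel_right]
  have hm₃ : (σ₂ * α * σ₃⁻¹) * conjAut Q w₃ hw₃.2 * (σ₂ * α * σ₃⁻¹)⁻¹ ∈
      F.autGroup Q ⊓ fixOn A (σ₂ * α) := by
    refine ⟨(F.autGroup Q).mul_mem ((F.autGroup Q).mul_mem hγ'F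
      (autInducedBy_le_autGroup F hQS (conjAut_mem S Q w₃ hw₃.1 hw₃.2)))
      ((F.autGroup Q).inv_mem hγ'F), ?_⟩
    intro x hx
    have h0 : (σ₂ * α * σ₃⁻¹)⁻¹ ((σ₂ * α) x) = σ₃ x := by
      rw [mul_inv_rev, inv_inv]
      show σ₃ ((σ₂ * α)⁻¹ ((σ₂ * α) x)) = σ₃ x
      rw [MulAut.inv_apply_self]
    show (σ₂ * α * σ₃⁻¹) (conjAut Q w₃ hw₃.2 ((σ₂ * α * σ₃⁻¹)⁻¹ ((σ₂ * α) x))) = (σ₂ * α) x
    rw [h0]
    have h1 : conjAut Q w₃ hw₃.2 (σ₃ x) = σ₃ x := by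
      rw [hσ₃x, hcj₃]
      congr 1
      apply Subtype.ext
      rw [conjAut_apply]
      have h1 := (mem_centralizerIn_iff.1 hc₃).2 _ (hmem x hx)
      rw [← h1, mul_inv_cancel_right]
    rw [h1]
    show (σ₂ * α) (σ₃⁻¹ (σ₃ x)) = (σ₂ * α) x
    rw [MulAut.inv_apply_self]
  obtain ⟨η, hη, hηA⟩ := fullyAutomized_conj F hQa _ inf_le_left hP₂
  have hηE : η ∈ E.autGroup Q :=
    aut_mem_of_extend F E hQr IH hw₂Q η hη (mem_extender_of_conj hw₂ η (hηA _ hm₂))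
  have hηγ : η * (σ₂ * α * σ₃⁻¹) ∈ E.autGroup Q := by
    refine aut_mem_of_extend F E hQr IH hw₃Q (η * (σ₂ * α * σ₃⁻¹))
      ((F.autGroup Q).mul_mem hη hγ'F) (mem_extender_of_conj hw₃ (η * (σ₂ * α * σ₃⁻¹)) ?_)
    have := hηA _ hm₃
    have e : η * (σ₂ * α * σ₃⁻¹) * conjAut Q w₃ hw₃.2 * (η * (σ₂ * α * σ₃⁻¹))⁻¹ =
        η * ((σ₂ * α * σ₃⁻¹) * conjAut Q w₃ hw₃.2 * (σ₂ * α * σ₃⁻¹)⁻¹) * η⁻¹ := by group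
    rw [e]; exact this
  have hγ'E : σ₂ * α * σ₃⁻¹ ∈ E.autGroup Q := by
    have := (E.autGroup Q).mul_mem ((E.autGroup Q).inv_mem hηE) hηγ
    rwa [inv_mul_cancel_left] at this
  have hαeq : α = σ₂⁻¹ * (σ₂ * α * σ₃⁻¹) * σ₃ := by group
  rw [hαeq]
  exact (E.autGroup Q).mul_mem ((E.autGroup Q).mul_mem ((E.autGroup Q).inv_mem hσ₂E) hγ'E) hσ₃E

end Cfsg.Agent.Helper25
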