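import Mathlib
import Cfsg.Prelude.Def_FusionSystem
import Cfsg.Agent.Helper26.Alperin
import Cfsg.Agent.Helper26.FusNormal
import Cfsg.Agent.Helper25.SmallFus4

set_option autoImplicit false

namespace Cfsg.Agent.Helper25

open Cfsg Cfsg.FusionSystem Cfsg.Agent.Helper26

variable {Ω : Type*} [Group Ω] {S : Subgroup Ω}

/-- The inductive step for "small abelian subgroups control fusion". -/
theorem aut_le_of_small {p : ℕ} [Fact p.Prime] [Finite S] (hS : IsPGroup p S)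
    (E F : FusionSystem S) (hE : E.IsSaturated p) (hEF : ∀ P : Subgroup Ω, E.Hom P ⊆ F.Hom P)
    (hctl : SmallCtl p E F) {Q : Subgroup Ω} (hQa : F.IsFullyAutomized p Q)
    (hQr : F.IsReceptive Q)
    (IH : ∀ R : Subgroup Ω, R ≤ S → Nat.card Q < Nat.card R → F.Hom R ⊆ E.Hom R) :
    F.autGroup Q ≤ E.autGroup Q := by
  have hQS : Q ≤ S := hQr.1
  have hfQ : Finite Q := finite_of_le hQS
  have hQp : IsPGroup p Q := isPGroup_of_le hS hQS
  obtain ⟨A, hAnorm, hAc, hAe, hpg⟩ := exists_normal_abelian_pcent hQp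
  intro α hα
  have hαF : IsIso F α := (mem_autGroup_iff F hQS α).1 hα
  have hAn : ∀ g x : Q, x ∈ A → g * x * g⁻¹ ∈ A := fun g x hx => hAnorm.conj_mem x hx g
  have hAs : SmallAb p (A.map Q.subtype) := by
    constructor
    · rintro _ ⟨a, ha, rfl⟩ _ ⟨b, hb, rfl⟩
      show (a : Ω) * (b : Ω) = (b : Ω) * (a : Ω)
      rw [← Subgroup.coe_mul, ← Subgroup.coe_mul, hAc a ha b hb]
    · rintro _ ⟨a, ha, rfl⟩
      show (a : Ω) ^ smallExp p = 1
      rw [← Subgroup.coe_pow, hAe a ha]; rfl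
  obtain ⟨A₀, Q₂, Q₃, u, t', hA₀r, hA₀s, hu, ht', hsurj, hmem, heq⟩ :=
    small_step hS E F hE hEF hctl hQS α hαF A hAn hAs
  have hQ₃S := hu.le_right
  have hQ₂S := ht'.le_right
  have hfQ₃ : Finite Q₃ := finite_of_le hQ₃S
  have hfQ₂ : Finite Q₂ := finite_of_le hQ₂S
  have hcz : ∀ g : Q, ((u g : Q₃) : Ω)⁻¹ * ((t' (α g) : Q₂) : Ω) ∈ centralizerIn S A₀ := by
    intro g
    rw [mem_centralizerIn_iff]
    refine ⟨S.mul_mem (S.inv_mem (hQ₃S (u g).2)) (hQ₂S (t' (α g)).2), ?_⟩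
    intro a ha
    obtain ⟨x, hx, rfl⟩ := hsurj a ha
    have h1 := heq (g * x * g⁻¹) (hAn g x hx)
    simp only [map_mul, map_inv, Subgroup.coe_mul, Subgroup.coe_inv] at h1
    rw [heq x hx] at h1
    exact comm_aux _ _ _ h1
  by_cases hC : centralizerIn S A₀ ≤ Q₃
  · exact small_case_a E F hEF hctl hQa A hpg α hα u t' hA₀r hA₀s hu ht' hsurj hmem heq hcz hC
  · have hC2 : ¬ centralizerIn S A₀ ≤ Q₂ := by
      intro hC2
      apply hC
      have h32 : Q₃ ≤ Q₂ := by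
        intro y hy
        have h1 := hC2 (hcz (u.symm ⟨y, hy⟩))
        rw [MulEquiv.apply_symm_apply] at h1
        have h2 := Q₂.mul_mem (t' (α (u.symm ⟨y, hy⟩))).2 (Q₂.inv_mem h1)
        have e : ((t' (α (u.symm ⟨y, hy⟩)) : Q₂) : Ω) *
            (y⁻¹ * ((t' (α (u.symm ⟨y, hy⟩)) : Q₂) : Ω))⁻¹ = y := by group
        rwa [e] at h2
      have h32' : Q₃ = Q₂ := Subgroup.eq_of_le_of_card_ge h32
        (by rw [← Nat.card_congr t'.toEquiv, Nat.card_congr u.toEquiv])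
      rw [h32']; exact hC2
    have hn₃ : ∀ r ∈ Q₃, ∀ a ∈ A₀, r⁻¹ * a * r ∈ A₀ := by
      intro r hr a ha
      obtain ⟨x, hx, rfl⟩ := hsurj a ha
      have h1 := hmem _ (hAn (u.symm ⟨r, hr⟩)⁻¹ x hx)
      simp only [map_mul, map_inv, inv_inv, MulEquiv.apply_symm_apply, Subgroup.coe_mul,
        Subgroup.coe_inv] at h1
      exact h1
    have hn₂ : ∀ r ∈ Q₂, ∀ a ∈ A₀, r⁻¹ * a * r ∈ A₀ := by
      intro r hr a ha
      obtain ⟨x, hx, rfl⟩ := hsurj a ha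
      have hxg := hAn (α.symm (t'.symm ⟨r, hr⟩))⁻¹ x hx
      have h1 := hmem _ hxg
      rw [← heq _ hxg] at h1
      simp only [map_mul, map_inv, inv_inv, MulEquiv.apply_symm_apply, Subgroup.coe_mul,
        Subgroup.coe_inv, heq x hx] at h1
      exact h1
    obtain ⟨c₃, hc₃, hc₃N, hc₃Q⟩ := exists_normalizing_not_mem hS hQ₃S
      (inf_le_left : centralizerIn S A₀ ≤ S) (conj_mem_centralizerIn hQ₃S hn₃) hC
    obtain ⟨c₂, hc₂, hc₂N, hc₂Q⟩ := exists_normalizing_not_mem hS hQ₂S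
      (inf_le_left : centralizerIn S A₀ ≤ S) (conj_mem_centralizerIn hQ₂S hn₂) hC2
    exact small_case_b hS E F hEF hQa hQr IH A hpg α hα u t' hu ht' hmem heq
      c₃ hc₃ hc₃N hc₃Q c₂ hc₂ hc₂N hc₂Q

end Cfsg.Agent.Helper25
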