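import Mathlib
import Cfsg.Prelude.Def_FusionSystem
import Cfsg.Agent.Helper26.Alperin
import Cfsg.Agent.Helper26.FusNormal
import Cfsg.Agent.Helper25.SmallFus4
import Cfsg.Agent.Helper25.SmallFusT

set_option autoImplicit false

namespace Cfsg.Agent.Helper25

open Cfsg Cfsg.FusionSystem Cfsg.Agent.Helper26

variable {Ω : Type*} [Group Ω] {S : Subgroup Ω}

theorem isPGroup_fixOn_inf {Q : Type*} [Group Q] {p : ℕ} (K : Subgroup (MulAut Q))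
    (A : Subgroup Q) (ρ : MulAut Q) (hρ : ρ ∈ K)
    (hpg : ∀ δ : MulAut Q, δ ∈ K → (∀ a ∈ A, δ a = a) → ∃ k : ℕ, δ ^ (p ^ k) = 1) :
    IsPGroup p (K ⊓ fixOn A ρ : Subgroup (MulAut Q)) := by
  rintro ⟨δ, hδ⟩
  obtain ⟨hδK, hδfix⟩ := Subgroup.mem_inf.1 hδ
  obtain ⟨k, hk⟩ := hpg (ρ⁻¹ * δ * ρ) (K.mul_mem (K.mul_mem (K.inv_mem hρ) hδK) hρ)
    (fun a ha => by
      show ρ⁻¹ (δ (ρ a)) = a
      rw [hδfix a ha, MulAut.inv_apply_self])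
  refine ⟨k, Subtype.ext ?_⟩
  show δ ^ p ^ k = 1
  have h1 : (ρ⁻¹ * δ * ρ) ^ (p ^ k) = ρ⁻¹ * δ ^ (p ^ k) * ρ := by
    have := conj_pow (a := ρ⁻¹) (b := δ) (i := p ^ k)
    rwa [inv_inv] at this
  rw [h1] at hk
  have : δ ^ (p ^ k) = ρ * (ρ⁻¹ * δ ^ (p ^ k) * ρ) * ρ⁻¹ := by group
  rw [this, hk]; group

theorem small_case_bT {p : ℕ} [Fact p.Prime] [Finite S] (hS : IsPGroup p S) (E F : FusionSystem S)
    (hEF : ∀ P : Subgroup Ω, E.Hom P ⊆ F.Hom P)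
    {Q : Subgroup Ω} (hQa : F.IsFullyAutomized p Q) (hQr : F.IsReceptive Q)
    (IH : ∀ R : Subgroup Ω, R ≤ S → Nat.card Q < Nat.card R → F.Hom R ⊆ E.Hom R)
    (A : Subgroup Q)
    (hpg : ∀ δ : MulAut Q, δ ∈ F.autGroup Q → (∀ a ∈ A, δ a = a) → ∃ k : ℕ, δ ^ (p ^ k) = 1)
    (α : MulAut Q) (hα : α ∈ F.autGroup Q)
    {A₀ Q₂ Q₃ : Subgroup Ω} (u : Q ≃* Q₃) (t' : Q ≃* Q₂)
    (hu : IsIso E u) (ht' : IsIso E t')
    (hmem : ∀ x ∈ A, ((u x : Q₃) : Ω) ∈ A₀)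
    (heq : ∀ x ∈ A, ((t' (α x) : Q₂) : Ω) = ((u x : Q₃) : Ω))
    (c₃ : Ω) (hc₃ : c₃ ∈ centralizerIn S A₀) (hc₃N : c₃ ∈ normalizerIn S Q₃) (hc₃Q : c₃ ∉ Q₃)
    (c₂ : Ω) (hc₂ : c₂ ∈ centralizerIn S A₀) (hc₂N : c₂ ∈ normalizerIn S Q₂) (hc₂Q : c₂ ∉ Q₂) :
    α ∈ E.autGroup Q := by
  have hQS : Q ≤ S := hQr.1
  have huF : IsIso F u := isIso_mono hEF hu
  have ht'F : IsIso F t' := isIso_mono hEF ht'
  obtain ⟨r₃, w₃, hw₃, hr₃, hw₃Q, hcj₃⟩ :=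
    transport_normalizer hS E F hQa hQr IH huF.symm.isConj hc₃N hc₃Q
  obtain ⟨r₂, w₂, hw₂, hr₂, hw₂Q, hcj₂⟩ :=
    transport_normalizer hS E F hQa hQr IH ht'F.symm.isConj hc₂N hc₂Q
  have hσ₃E : (u.trans r₃ : MulAut Q) ∈ E.autGroup Q :=
    (mem_autGroup_iff E hQS _).2 (hu.trans hr₃)
  have hσ₂E : (t'.trans r₂ : MulAut Q) ∈ E.autGroup Q :=
    (mem_autGroup_iff E hQS _).2 (ht'.trans hr₂)
  have hle : E.autGroup Q ≤ F.autGroup Q := by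
    intro β hβ
    exact (mem_autGroup_iff F hQS β).2 (isIso_mono hEF ((mem_autGroup_iff E hQS β).1 hβ))
  obtain ⟨σ₃, hσ₃⟩ : ∃ σ₃ : MulAut Q, σ₃ = u.trans r₃ := ⟨_, rfl⟩
  obtain ⟨σ₂, hσ₂⟩ : ∃ σ₂ : MulAut Q, σ₂ = t'.trans r₂ := ⟨_, rfl⟩
  rw [← hσ₃] at hσ₃E
  rw [← hσ₂] at hσ₂E
  have hσ₃x : ∀ x : Q, σ₃ x = r₃ (u x) := fun x => by rw [hσ₃]; rfl
  have hσ₂x : ∀ x : Q, σ₂ x = r₂ (t' x) := fun x => by rw [hσ₂]; rfl
  have hρF : σ₂ * α ∈ F.autGroup Q := (F.autGroup Q).mul_mem (hle hσ₂E) hα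
  have hγ'F : σ₂ * α * σ₃⁻¹ ∈ F.autGroup Q :=
    (F.autGroup Q).mul_mem hρF ((F.autGroup Q).inv_mem (hle hσ₃E))
  have hP₂ : IsPGroup p (F.autGroup Q ⊓ fixOn A (σ₂ * α) : Subgroup (MulAut Q)) :=
    isPGroup_fixOn_inf (F.autGroup Q) A (σ₂ * α) hρF hpg
  have hm₂ : conjAut Q w₂ hw₂.2 ∈ F.autGroup Q ⊓ fixOn A (σ₂ * α) := by
    refine ⟨autInducedBy_le_autGroup F hQS (conjAut_mem S Q w₂ hw₂.1 hw₂.2), ?_⟩
    intro x hx
    show conjAut Q w₂ hw₂.2 (σ₂ (α x)) = σ₂ (α x)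
    rw [hσ₂x, hcj₂]
    congr 1
    apply Subtype.ext
    rw [conjAut_apply]
    have h1 := (mem_centralizerIn_iff.1 hc₂).2 _ (hmem x hx)
    rw [heq x hx, ← h1, mul_inv_cancel_right]
  have hm₃ : (σ₂ * α * σ₃⁻¹) * conjAut Q w₃ hw₃.2 * (σ₂ * α * σ₃⁻¹)⁻¹ ∈
      F.autGroup Q ⊓ fixOn A (σ₂ * α) := by
    refine ⟨(F.autGroup Q).mul_mem ((F.autGroup Q).mul_mem hγ'F
      (autInducedBy_le_autGroup F hQS (conjAut_mem S Q w₃ hw₃.1 hw₃.2)))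
      ((F.autGroup Q).inv_mem hγ'F), ?_⟩
    intro x hx
    have h0 : (σ₂ * α * σ₃⁻¹)⁻¹ ((σ₂ * α) x) = σ₃ x := by
      rw [mul_inv_rev, inv_inv]
      show σ₃ ((σ₂ * α)⁻¹ ((σ₂ * α) x)) = σ₃ x
      rw [MulAut.inv_apply_self]
    show (σ₂ * α * σ₃⁻¹) (conjAut Q w₃ hw₃.2 ((σ₂ * α * σ₃⁻¹)⁻¹ ((σ₂ * α) x))) = (σ₂ * α) x
    rw [h0]
    have h1 : conjAut Q w₃ hw₃.2 (σ₃ x) = σ₃ x := by
      rw [hσ₃x, hcj₃]
      congr 1
      apply Subtype.ext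
      rw [conjAut_apply]
      have h1 := (mem_centralizerIn_iff.1 hc₃).2 _ (hmem x hx)
      rw [← h1, mul_inv_cancel_right]
    rw [h1]
    show (σ₂ * α) (σ₃⁻¹ (σ₃ x)) = (σ₂ * α) x
    rw [MulAut.inv_apply_self]
  obtain ⟨η, hη, hηA⟩ := fullyAutomized_conj F hQa _ inf_le_left hP₂
  have hηE : η ∈ E.autGroup Q :=
    aut_mem_of_extend F E hQr IH hw₂Q η hη (mem_extender_of_conj hw₂ η (hηA _ hm₂))
  have hηγ : η * (σ₂ * α * σ₃⁻¹) ∈ E.autGroup Q := by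
    refine aut_mem_of_extend F E hQr IH hw₃Q (η * (σ₂ * α * σ₃⁻¹))
      ((F.autGroup Q).mul_mem hη hγ'F) (mem_extender_of_conj hw₃ (η * (σ₂ * α * σ₃⁻¹)) ?_)
    have := hηA _ hm₃
    have e : η * (σ₂ * α * σ₃⁻¹) * conjAut Q w₃ hw₃.2 * (η * (σ₂ * α * σ₃⁻¹))⁻¹ =
        η * ((σ₂ * α * σ₃⁻¹) * conjAut Q w₃ hw₃.2 * (σ₂ * α * σ₃⁻¹)⁻¹) * η⁻¹ := by group
    rw [e]; exact this
  have hγ'E : σ₂ * α * σ₃⁻¹ ∈ E.autGroup Q := by
    have := (E.autGroup Q).mul_mem ((E.autGroup Q).inv_mem hηE) hηγ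
    rwa [inv_mul_cancel_left] at this
  have hαeq : α = σ₂⁻¹ * (σ₂ * α * σ₃⁻¹) * σ₃ := by group
  rw [hαeq]
  exact (E.autGroup Q).mul_mem ((E.autGroup Q).mul_mem ((E.autGroup Q).inv_mem hσ₂E) hγ'E) hσ₃E

theorem small_case_aT {p : ℕ} [Fact p.Prime] [Finite S] (E F : FusionSystem S)
    (hEF : ∀ P : Subgroup Ω, E.Hom P ⊆ F.Hom P) {T : Subgroup Ω} (hT : F.StronglyClosed T)
    (hctl : ∀ A B : Subgroup Ω, A ≤ T → B ≤ T → SmallAb p A → SmallAb p B →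
      F.homSet A B ⊆ E.homSet A B)
    {Q : Subgroup Ω} (hQa : F.IsFullyAutomized p Q)
    (A : Subgroup Q) (hAT : ∀ x ∈ A, (x : Ω) ∈ T)
    (hpg : ∀ δ : MulAut Q, δ ∈ F.autGroup Q → (∀ a ∈ A, δ a = a) → ∃ k : ℕ, δ ^ (p ^ k) = 1)
    (α : MulAut Q) (hα : α ∈ F.autGroup Q)
    {A₀ Q₂ Q₃ : Subgroup Ω} (u : Q ≃* Q₃) (t' : Q ≃* Q₂)
    (hA₀r : E.IsReceptive A₀) (hA₀s : SmallAb p A₀) (hu : IsIso E u) (ht' : IsIso E t')
    (hsurj : ∀ a ∈ A₀, ∃ x ∈ A, ((u x : Q₃) : Ω) = a)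
    (hmem : ∀ x ∈ A, ((u x : Q₃) : Ω) ∈ A₀)
    (heq : ∀ x ∈ A, ((t' (α x) : Q₂) : Ω) = ((u x : Q₃) : Ω))
    (hcz : ∀ g : Q, ((u g : Q₃) : Ω)⁻¹ * ((t' (α g) : Q₂) : Ω) ∈ centralizerIn S A₀)
    (hC : centralizerIn S A₀ ≤ Q₃) : α ∈ E.autGroup Q := by
  have hQS : Q ≤ S := hQa.1
  have hfQ : Finite Q := finite_of_le hQS
  have hQ₃S := hu.le_right
  have hQ₂S := ht'.le_right
  have hfQ₃ : Finite Q₃ := finite_of_le hQ₃S
  have hfQ₂ : Finite Q₂ := finite_of_le hQ₂S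
  have h23 : Q₂ ≤ Q₃ := by
    intro y hy
    have h1 := hC (hcz (α.symm (t'.symm ⟨y, hy⟩)))
    rw [MulEquiv.apply_symm_apply, MulEquiv.apply_symm_apply] at h1
    have h2 := Q₃.mul_mem (u (α.symm (t'.symm ⟨y, hy⟩))).2 h1
    rwa [mul_inv_cancel_left] at h2
  have h23' : Q₂ = Q₃ := by
    refine Subgroup.eq_of_le_of_card_ge h23 ?_
    rw [← Nat.card_congr u.toEquiv, Nat.card_congr t'.toEquiv]
  subst h23'
  have hA₀Q : A₀ ≤ Q₂ := by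
    intro a ha
    obtain ⟨x, -, rfl⟩ := hsurj a ha
    exact (u x).2
  have hαF : IsIso F α := (mem_autGroup_iff F hQS α).1 hα
  have huF : IsIso F u := isIso_mono hEF hu
  have ht'F : IsIso F t' := isIso_mono hEF ht'
  obtain ⟨δ, hδ⟩ : ∃ δ : MulAut Q, δ = α.trans (t'.trans u.symm) := ⟨_, rfl⟩
  have hδx : ∀ x : Q, δ x = u.symm (t' (α x)) := fun x => by rw [hδ]; rfl
  have hδF : IsIso F δ := by rw [hδ]; exact hαF.trans (ht'F.trans huF.symm)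
  have hδA : ∀ a ∈ A, δ a = a := by
    intro a ha
    rw [hδx]
    have : t' (α a) = u a := Subtype.ext (heq a ha)
    rw [this, MulEquiv.symm_apply_apply]
  obtain ⟨k, hk⟩ := hpg δ ((mem_autGroup_iff F hQS δ).2 hδF) hδA
  have hαeq : α = (u.trans t'.symm : MulAut Q) * δ := by
    ext x
    show _ = ((t'.symm (u (δ x)) : Q) : Ω)
    rw [hδx, MulEquiv.apply_symm_apply, MulEquiv.symm_apply_apply]
  have hτE : (u.trans t'.symm : MulAut Q) ∈ E.autGroup Q :=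
    (mem_autGroup_iff E hQS _).2 (hu.trans ht'.symm)
  rw [hαeq]
  refine (E.autGroup Q).mul_mem hτE ?_
  have hδFa : δ ∈ F.autGroup Q := (mem_autGroup_iff F hQS δ).2 hδF
  have hzp : IsPGroup p (Subgroup.zpowers δ) := by
    rintro ⟨g, hg⟩
    obtain ⟨n, rfl⟩ := Subgroup.mem_zpowers_iff.1 hg
    refine ⟨k, Subtype.ext ?_⟩
    show (δ ^ n) ^ (p ^ k) = 1
    rw [← zpow_natCast, ← zpow_mul, mul_comm, zpow_mul, zpow_natCast, hk, one_zpow]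
  obtain ⟨η, hη, hηA⟩ := fullyAutomized_conj F hQa (Subgroup.zpowers δ)
    (by rw [Subgroup.zpowers_le]; exact hδFa) hzp
  obtain ⟨s, hsS, hs⟩ := (mem_autInducedBy_iff S Q _).1 (hηA δ (Subgroup.mem_zpowers δ))
  have hs' : ∀ x : Q, ((η (δ x) : Q) : Ω) = s * ((η x : Q) : Ω) * s⁻¹ := by
    intro x
    have h1 := hs (η x)
    have h2 : (η * δ * η⁻¹) (η x) = η (δ x) := by
      show η (δ (η⁻¹ (η x))) = _
      rw [MulAut.inv_apply_self]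
    rw [h2] at h1
    exact h1
  by_cases hsQ : s ∈ Q
  · apply inn_le_autGroup E hQS
    refine ⟨η⁻¹ ⟨s, hsQ⟩, ?_⟩
    ext x
    have h3 : η (δ x) = ⟨s, hsQ⟩ * η x * ⟨s, hsQ⟩⁻¹ := Subtype.ext (hs' x)
    have h4 : δ x = η⁻¹ ⟨s, hsQ⟩ * x * (η⁻¹ ⟨s, hsQ⟩)⁻¹ := by
      have := congrArg (fun z => η⁻¹ z) h3
      simp only [MulAut.inv_apply_self, map_mul, map_inv] at this
      exact this
    rw [h4]
    rfl
  · exfalso
    have hηF : IsIso F η := (mem_autGroup_iff F hQS η).1 hη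
    have hιF : IsIso F (u.symm.trans η) := huF.symm.trans hηF
    have hψF : (Q.subtype.comp (u.symm.trans η).toMonoidHom).comp (Subgroup.inclusion hA₀Q) ∈
        F.Hom A₀ := fs_restrict F hA₀Q hιF
    have hψx : ∀ (x : Q) (hx : x ∈ A),
        ((Q.subtype.comp (u.symm.trans η).toMonoidHom).comp (Subgroup.inclusion hA₀Q))
          ⟨((u x : _) : Ω), hmem x hx⟩ = ((η x : Q) : Ω) := by
      intro x hx
      show ((η (u.symm ⟨((u x : _) : Ω), _⟩) : Q) : Ω) = _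
      have : (⟨((u x : _) : Ω), hA₀Q (hmem x hx)⟩ : Q₂) = u x := Subtype.ext rfl
      rw [this, MulEquiv.symm_apply_apply]
    have hA₁Q : (A.map η.toMonoidHom).map Q.subtype ≤ Q := by
      rintro _ ⟨x, -, rfl⟩; exact x.2
    have hA₁S : (A.map η.toMonoidHom).map Q.subtype ≤ S := hA₁Q.trans hQS
    have hmemA₁ : ∀ x : Q, x ∈ A → ((η x : Q) : Ω) ∈ (A.map η.toMonoidHom).map Q.subtype :=
      fun x hx => ⟨η x, ⟨x, hx, rfl⟩, rfl⟩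
    have hψmem : ∀ a : A₀,
        ((Q.subtype.comp (u.symm.trans η).toMonoidHom).comp (Subgroup.inclusion hA₀Q)) a ∈
          (A.map η.toMonoidHom).map Q.subtype := by
      rintro ⟨a, ha⟩
      obtain ⟨x, hx, rfl⟩ := hsurj a ha
      rw [hψx x hx]
      exact hmemA₁ x hx
    have hψr : ((Q.subtype.comp (u.symm.trans η).toMonoidHom).comp
        (Subgroup.inclusion hA₀Q)).range = (A.map η.toMonoidHom).map Q.subtype := by
      ext y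
      constructor
      · rintro ⟨a, rfl⟩
        exact hψmem a
      · rintro ⟨_, ⟨x, hx, rfl⟩, rfl⟩
        exact ⟨⟨((u x : _) : Ω), hmem x hx⟩, hψx x hx⟩
    have hA₁s : SmallAb p ((A.map η.toMonoidHom).map Q.subtype) := by
      refine smallAb_of_surj ((Q.subtype.comp (u.symm.trans η).toMonoidHom).comp
        (Subgroup.inclusion hA₀Q)) hA₀s ?_
      rintro _ ⟨_, ⟨x, hx, rfl⟩, rfl⟩
      exact ⟨⟨((u x : _) : Ω), hmem x hx⟩, hψx x hx⟩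
    have hA₀T : A₀ ≤ T := by
      intro a ha
      obtain ⟨x, hx, rfl⟩ := hsurj a ha
      exact stronglyClosed_iso F hT huF x (hAT x hx)
    have hA₁T : (A.map η.toMonoidHom).map Q.subtype ≤ T := by
      rintro _ ⟨_, ⟨x, hx, rfl⟩, rfl⟩
      exact stronglyClosed_iso F hT hηF x (hAT x hx)
    have hψE := (hctl A₀ _ hA₀T hA₁T hA₀s hA₁s ⟨hψF, hψmem⟩).1
    obtain ⟨e, he, -⟩ := exists_iso_of_hom E hψE hψr
    have hcard1 := (receptive_fullyCentralized E hA₀r).2 _ he.isConj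
    have hsC : s ∈ centralizerIn S ((A.map η.toMonoidHom).map Q.subtype) := by
      rw [mem_centralizerIn_iff]
      refine ⟨hsS, ?_⟩
      rintro _ ⟨_, ⟨x, hx, rfl⟩, rfl⟩
      have h1 := hs' x
      rw [hδA x hx] at h1
      show ((η x : Q) : Ω) * s = s * ((η x : Q) : Ω)
      have h2 : s * ((η x : Q) : Ω) = s * ((η x : Q) : Ω) * s⁻¹ * s := by group
      rw [h2, ← h1]
    have hlt := card_lt_of_mem_not_mem (Q := centralizerIn S ((A.map η.toMonoidHom).map Q.subtype) ⊓ Q)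
      (M := centralizerIn S ((A.map η.toMonoidHom).map Q.subtype)) inf_le_left inf_le_left hsC
      (fun h => hsQ h.2)
    have hfin : Finite (centralizerIn S ((A.map η.toMonoidHom).map Q.subtype) ⊓ Q : Subgroup Ω) :=
      finite_of_le (inf_le_right.trans hQS)
    have hfmem : ∀ c : centralizerIn S A₀,
        ((η (u.symm ⟨(c : Ω), hC c.2⟩) : Q) : Ω) ∈
          centralizerIn S ((A.map η.toMonoidHom).map Q.subtype) ⊓ Q := by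
      intro c
      refine Subgroup.mem_inf.2 ⟨?_, (η (u.symm ⟨(c : Ω), hC c.2⟩)).2⟩
      rw [mem_centralizerIn_iff]
      refine ⟨hQS (η (u.symm ⟨(c : Ω), hC c.2⟩)).2, ?_⟩
      rintro _ ⟨_, ⟨x, hx, rfl⟩, rfl⟩
      have key : x * u.symm ⟨(c : Ω), hC c.2⟩ = u.symm ⟨(c : Ω), hC c.2⟩ * x := by
        apply u.injective
        rw [map_mul, map_mul, MulEquiv.apply_symm_apply]
        exact Subtype.ext ((mem_centralizerIn_iff.1 c.2).2 _ (hmem x hx))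
      show ((η x : Q) : Ω) * ((η (u.symm ⟨(c : Ω), hC c.2⟩) : Q) : Ω) =
        ((η (u.symm ⟨(c : Ω), hC c.2⟩) : Q) : Ω) * ((η x : Q) : Ω)
      rw [← Subgroup.coe_mul, ← Subgroup.coe_mul, ← map_mul, ← map_mul, key]
    have hcard2 : Nat.card (centralizerIn S A₀) ≤
        Nat.card (centralizerIn S ((A.map η.toMonoidHom).map Q.subtype) ⊓ Q : Subgroup Ω) := by
      refine Nat.card_le_card_of_injective
        (fun c : centralizerIn S A₀ => (⟨_, hfmem c⟩ :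
          (centralizerIn S ((A.map η.toMonoidHom).map Q.subtype) ⊓ Q : Subgroup Ω))) ?_
      intro c d hcd
      have h1 : ((η (u.symm ⟨(c : Ω), hC c.2⟩) : Q) : Ω) = ((η (u.symm ⟨(d : Ω), hC d.2⟩) : Q) : Ω) :=
        congrArg (fun z : (centralizerIn S ((A.map η.toMonoidHom).map Q.subtype) ⊓ Q : Subgroup Ω) =>
          (z : Ω)) hcd
      have h2 : (⟨(c : Ω), hC c.2⟩ : Q₂) = ⟨(d : Ω), hC d.2⟩ :=
        u.symm.injective (η.injective (Subtype.ext h1))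
      exact Subtype.ext (congrArg (fun z : Q₂ => (z : Ω)) h2)
    omega

end Cfsg.Agent.Helper25
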