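import Mathlib
import Cfsg.Prelude.Def_SylowChains
import Cfsg.Agent.Helper25.SylCtl

/-!
# Chains of Sylow subgroups for the family of a normalizer functor (helper25)

Ambient one-step relation `FStep` for the family `{N_G(F) : F ∈ f(Q), Q ∈ Syl_p(G)}`,
its symmetry, conjugation invariance, and the passage from the regularity of a subgroup
containing a Sylow subgroup of `G` to `FStep`-chains in `G`.
-/

set_option autoImplicit false

namespace Cfsg.Agent.Helper25.SylCtl

open Cfsg Relation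

variable {G : Type*} [Group G]

theorem rtg_lift {α β : Type*} {r : α → α → Prop} {q : β → β → Prop} (φ : α → β)
    (h : ∀ a b, r a b → q (φ a) (φ b)) {a b : α} (hab : ReflTransGen r a b) :
    ReflTransGen q (φ a) (φ b) := by
  induction hab with
  | refl => exact ReflTransGen.refl
  | tail _ hbc ih => exact ih.tail (h _ _ hbc)

theorem rtg_symm {α : Type*} {r : α → α → Prop} (h : ∀ a b, r a b → r b a) {a b : α}
    (hab : ReflTransGen r a b) : ReflTransGen r b a := by
  induction hab with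
  | refl => exact ReflTransGen.refl
  | tail _ hbc ih => exact ReflTransGen.head (h _ _ hbc) ih

theorem mcm (g h : G) (X : Subgroup G) :
    (X.map (MulAut.conj h).toMonoidHom).map (MulAut.conj g).toMonoidHom =
      X.map (MulAut.conj (g * h)).toMonoidHom := by
  rw [Subgroup.map_map]
  congr 1
  ext y
  simp [MulAut.conj_apply, mul_assoc]

theorem mc1 (X : Subgroup G) : X.map (MulAut.conj (1 : G)).toMonoidHom = X := by
  ext y
  simp

theorem mc_inv_left (g : G) (X : Subgroup G) :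
    (X.map (MulAut.conj g).toMonoidHom).map (MulAut.conj g⁻¹).toMonoidHom = X := by
  rw [mcm, inv_mul_cancel, mc1]

theorem mc_inv_right (g : G) (X : Subgroup G) :
    (X.map (MulAut.conj g⁻¹).toMonoidHom).map (MulAut.conj g).toMonoidHom = X := by
  rw [mcm, mul_inv_cancel, mc1]

theorem mc_ne_bot (g : G) {X : Subgroup G} (h : X ≠ ⊥) :
    X.map (MulAut.conj g).toMonoidHom ≠ ⊥ := by
  intro h'
  exact h ((Subgroup.map_eq_bot_iff_of_injective X (MulAut.conj g).injective).mp h')

theorem mc_normalizer (g : G) (F : Subgroup G) :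
    (Subgroup.normalizer (F : Set G)).map (MulAut.conj g).toMonoidHom =
      Subgroup.normalizer ((F.map (MulAut.conj g).toMonoidHom : Subgroup G) : Set G) :=
  Subgroup.map_equiv_normalizer_eq F (MulAut.conj g)

/-- Conjugate of a Sylow subgroup, as a Sylow subgroup. -/
noncomputable def cj [Finite G] {p : ℕ} [Fact p.Prime] (g : G) (S : Sylow p G) : Sylow p G :=
  Sylow.ofCard ((S : Subgroup G).map (MulAut.conj g).toMonoidHom) (by
    rw [Subgroup.card_map_of_injective (MulAut.conj g).injective]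
    exact S.card_eq_multiplicity)

theorem coe_cj [Finite G] {p : ℕ} [Fact p.Prime] (g : G) (S : Sylow p G) :
    ((cj g S : Sylow p G) : Subgroup G) = (S : Subgroup G).map (MulAut.conj g).toMonoidHom :=
  Sylow.coe_ofCard _ _

theorem cj_cj [Finite G] {p : ℕ} [Fact p.Prime] (g h : G) (S : Sylow p G) :
    cj g (cj h S) = cj (g * h) S := by
  apply Sylow.ext
  rw [coe_cj, coe_cj, coe_cj, mcm]

theorem cj_one [Finite G] {p : ℕ} [Fact p.Prime] (S : Sylow p G) : cj (1 : G) S = S := by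
  apply Sylow.ext
  rw [coe_cj, mc1]

theorem exists_cj [Finite G] {p : ℕ} [Fact p.Prime] (S T : Sylow p G) : ∃ g : G, T = cj g S := by
  obtain ⟨g, hg⟩ := MulAction.exists_smul_eq G S T
  refine ⟨g, ?_⟩
  apply Sylow.ext
  rw [coe_cj, ← hg, Sylow.coe_subgroup_smul]
  rfl

/-- One step for the family of normalizers of the members of `f(Q)`, `Q` a Sylow subgroup of `G`,
in ambient form. -/
def FStep (p : ℕ) (f : Subgroup G → Set (Subgroup G)) (D : Subgroup G) (S' S'' : Sylow p G) :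
    Prop :=
  ∃ (Q : Sylow p G) (F : Subgroup G) (x : G), F ∈ f (Q : Subgroup G) ∧
    x ∈ Subgroup.normalizer (F : Set G) ∧
    (S' : Subgroup G) ≤ Subgroup.normalizer (F : Set G) ∧
    (S'' : Subgroup G) ≤ Subgroup.normalizer (F : Set G) ∧
    (S'' : Subgroup G).map (MulAut.conj x⁻¹).toMonoidHom = (S' : Subgroup G) ∧
    D ≤ (S' : Subgroup G) ∧ D ≤ (S'' : Subgroup G)

theorem FStep.symm {p : ℕ} {f : Subgroup G → Set (Subgroup G)} {D : Subgroup G}
    {S' S'' : Sylow p G} (h : FStep p f D S' S'') : FStep p f D S'' S' := by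
  obtain ⟨Q, F, x, hF, hx, h1, h2, hc, hD1, hD2⟩ := h
  refine ⟨Q, F, x⁻¹, hF, inv_mem hx, h2, h1, ?_, hD2, hD1⟩
  rw [← hc, inv_inv, mc_inv_right]

theorem FStep.mono {p : ℕ} {f : Subgroup G → Set (Subgroup G)} {D D₀ : Subgroup G}
    (hD : D ≤ D₀) {S' S'' : Sylow p G} (h : FStep p f D₀ S' S'') : FStep p f D S' S'' := by
  obtain ⟨Q, F, x, hF, hx, h1, h2, hc, hD1, hD2⟩ := h
  exact ⟨Q, F, x, hF, hx, h1, h2, hc, le_trans hD hD1, le_trans hD hD2⟩

theorem FStep.conj [Finite G] {p : ℕ} [Fact p.Prime] {f : Subgroup G → Set (Subgroup G)}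
    (hf : IsNormalizerFunctor p f) {D : Subgroup G} {S' S'' : Sylow p G} (g : G)
    (h : FStep p f D S' S'') :
    FStep p f (D.map (MulAut.conj g).toMonoidHom) (cj g S') (cj g S'') := by
  obtain ⟨Q, F, x, hF, hx, h1, h2, hc, hD1, hD2⟩ := h
  refine ⟨cj g Q, F.map (MulAut.conj g).toMonoidHom, g * x * g⁻¹, ?_, ?_, ?_, ?_, ?_, ?_, ?_⟩
  · rw [coe_cj, (hf _ Q.isPGroup').2 g]
    exact ⟨F, hF, rfl⟩
  · rw [← mc_normalizer]
    exact ⟨x, hx, by simp [MulAut.conj_apply]⟩
  · rw [← mc_normalizer, coe_cj]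
    exact Subgroup.map_mono h1
  · rw [← mc_normalizer, coe_cj]
    exact Subgroup.map_mono h2
  · rw [coe_cj, coe_cj, ← hc, mcm, mcm]
    congr 2
    group
  · rw [coe_cj]; exact Subgroup.map_mono hD1
  · rw [coe_cj]; exact Subgroup.map_mono hD2

theorem rtg_fstep_symm {p : ℕ} {f : Subgroup G → Set (Subgroup G)} {D : Subgroup G}
    {S' S'' : Sylow p G} (h : ReflTransGen (FStep p f D) S' S'') :
    ReflTransGen (FStep p f D) S'' S' :=
  rtg_symm (fun _ _ h => h.symm) h

theorem rtg_fstep_conj [Finite G] {p : ℕ} [Fact p.Prime] {f : Subgroup G → Set (Subgroup G)}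
    (hf : IsNormalizerFunctor p f) {D : Subgroup G} {S' S'' : Sylow p G} (g : G)
    (h : ReflTransGen (FStep p f D) S' S'') :
    ReflTransGen (FStep p f (D.map (MulAut.conj g).toMonoidHom)) (cj g S') (cj g S'') :=
  rtg_lift (cj g) (fun _ _ h => FStep.conj hf g h) h

theorem fact_eq_of_sylow_le [Finite G] {p : ℕ} [Fact p.Prime] (S₀ : Sylow p G) {M : Subgroup G}
    (h : (S₀ : Subgroup G) ≤ M) :
    (Nat.card ↥M).factorization p = (Nat.card G).factorization p := by
  have hp : p.Prime := Fact.out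
  have hM0 : Nat.card ↥M ≠ 0 := Nat.card_pos.ne'
  have hG0 : Nat.card G ≠ 0 := Nat.card_pos.ne'
  apply le_antisymm
  · exact (Nat.factorization_le_iff_dvd hM0 hG0).mpr (Subgroup.card_subgroup_dvd_card M) p
  · apply (hp.pow_dvd_iff_le_factorization hM0).mp
    rw [← S₀.card_eq_multiplicity]
    exact Subgroup.card_dvd_of_le h

/-- The image in `G` of a Sylow subgroup of a subgroup `M` containing a Sylow subgroup of `G`. -/
noncomputable def up [Finite G] {p : ℕ} [Fact p.Prime] (S₀ : Sylow p G) {M : Subgroup G}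
    (h : (S₀ : Subgroup G) ≤ M) (P : Sylow p ↥M) : Sylow p G :=
  Sylow.ofCard ((P : Subgroup ↥M).map M.subtype) (by
    rw [Subgroup.card_map_of_injective (Subgroup.subtype_injective _), ← fact_eq_of_sylow_le S₀ h]
    exact P.card_eq_multiplicity)

theorem coe_up [Finite G] {p : ℕ} [Fact p.Prime] (S₀ : Sylow p G) {M : Subgroup G}
    (h : (S₀ : Subgroup G) ≤ M) (P : Sylow p ↥M) :
    ((up S₀ h P : Sylow p G) : Subgroup G) = (P : Subgroup ↥M).map M.subtype :=
  Sylow.coe_ofCard _ _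

theorem up_subtype [Finite G] {p : ℕ} [Fact p.Prime] (S₀ : Sylow p G) {M : Subgroup G}
    (h : (S₀ : Subgroup G) ≤ M) (S' : Sylow p G) (hS' : (S' : Subgroup G) ≤ M) :
    up S₀ h (S'.subtype hS') = S' := by
  apply Sylow.ext
  rw [coe_up, Sylow.coe_subtype, Subgroup.subgroupOf_map_subtype, inf_eq_left.mpr hS']

/-- Chains in `G` between Sylow subgroups of `G` lying in a regular subgroup `M`. -/
theorem sub_link [Finite G] {p : ℕ} [Fact p.Prime] {f : Subgroup G → Set (Subgroup G)}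
    (hf : IsNormalizerFunctor p f) (S₀ : Sylow p G) {M : Subgroup G}
    (hS₀ : (S₀ : Subgroup G) ≤ M) (hr : IsFunctorRegular p f M) (S' T' : Sylow p G)
    (hS' : (S' : Subgroup G) ≤ M) (hT' : (T' : Subgroup G) ≤ M) (D : Subgroup G)
    (hD : D ≤ (S' : Subgroup G) ⊓ (T' : Subgroup G)) (hD0 : D ≠ ⊥) :
    ReflTransGen (FStep p f D) S' T' := by
  by_cases hST : S' = T'
  · rw [hST]
  have hne : S'.subtype hS' ≠ T'.subtype hT' := fun h => hST (Sylow.subtype_injective h)
  have hmap : (((S'.subtype hS' : Sylow p ↥M) : Subgroup ↥M) ⊓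
      ((T'.subtype hT' : Sylow p ↥M) : Subgroup ↥M)).map M.subtype =
      (S' : Subgroup G) ⊓ (T' : Subgroup G) := by
    rw [Sylow.coe_subtype, Sylow.coe_subtype, Subgroup.map_inf _ _ _ (Subgroup.subtype_injective _),
      Subgroup.subgroupOf_map_subtype, Subgroup.subgroupOf_map_subtype, inf_eq_left.mpr hS',
      inf_eq_left.mpr hT']
  have hbot : ((S'.subtype hS' : Sylow p ↥M) : Subgroup ↥M) ⊓
      ((T'.subtype hT' : Sylow p ↥M) : Subgroup ↥M) ≠ ⊥ := by
    intro h
    rw [h, Subgroup.map_bot] at hmap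
    rw [← hmap] at hD
    exact hD0 (le_bot_iff.mp hD)
  have h1 := reg_rtg hf hr _ _ hne hbot
  rw [hmap] at h1
  have h2 := rtg_lift (q := FStep p f D) (up S₀ hS₀) (fun P₁ P₂ h => by
    obtain ⟨Q, F, x, hF, hxM, hx, h1, h2, hc, hD1, hD2⟩ := h
    refine ⟨up S₀ hS₀ Q, F, x, ?_, hx, ?_, ?_, ?_, ?_, ?_⟩
    · rw [coe_up]; exact hF
    · rw [coe_up]; exact h1
    · rw [coe_up]; exact h2
    · rw [coe_up, coe_up]; exact hc
    · rw [coe_up]; exact le_trans hD hD1
    · rw [coe_up]; exact le_trans hD hD2) h1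
  rw [up_subtype, up_subtype] at h2
  exact h2

/-- An `FStep` is a step for every family containing the family of `f` in `G`. -/
theorem step_of_fstep {p : ℕ} {f : Subgroup G → Set (Subgroup G)} {𝓕 : Set (Subgroup G)}
    (h𝓕 : functorFamily p f ⊤ ⊆ 𝓕) {D : Subgroup G} {S' S'' : Sylow p G}
    (h : FStep p f D S' S'') : Step p 𝓕 D S' S'' := by
  obtain ⟨Q, F, x, hF, hx, h1, h2, hc, hD1, hD2⟩ := h
  have hX : (⊤ : Subgroup G) ⊓ Subgroup.normalizer (F : Set G) ∈ 𝓕 := by
    apply h𝓕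
    refine ⟨Q.subtype le_top, F, ?_, rfl⟩
    rw [Sylow.coe_subtype, Subgroup.subgroupOf_map_subtype, inf_top_eq]
    exact hF
  refine ⟨⊤ ⊓ Subgroup.normalizer (F : Set G), x, member_of_le S' hX (le_inf le_top h1),
    member_of_le S'' hX (le_inf le_top h2), ⟨Subgroup.mem_top x, hx⟩, hc, ?_⟩
  exact le_inf hD2 (le_inf le_top (le_trans hD2 h2))

end Cfsg.Agent.Helper25.SylCtl
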